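import Cfsg.Agent.Lib.H22.NormalAb
import Cfsg.Agent.Lib.H01.Frobenius

/-!
# Codegrees of irreducible characters
-/

set_option autoImplicit false
set_option linter.unusedSectionVars false
set_option linter.style.haveILetI false
set_option linter.unusedSimpArgs false

namespace Cfsg.Agent.H22

open Cfsg Cfsg.Agent.H21 Module
open scoped ComplexConjugate Pointwise

universe u v

section Basic

variable {G : Type u} [Group G] [Finite G]

theorem charDegree_comp_mk (N : Subgroup G) [N.Normal] (χ : G ⧸ N → ℂ) :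
    charDegree (χ ∘ (QuotientGroup.mk' N)) = charDegree χ := by
  unfold charDegree
  simp

theorem card_ker_eq_charKer (ψ : IrrCharacter G) :
    Nat.card {g : G // ψ.1 g = ψ.1 1} = Nat.card (charKer ψ.1 (isCharacter_of_irr ψ.2)) :=
  Nat.card_congr (Equiv.subtypeEquivRight fun _ => Iff.rfl)

theorem ker_mul_degree_dvd (ψ : IrrCharacter G) :
    Nat.card {g : G // ψ.1 g = ψ.1 1} * charDegree ψ.1 ∣ Nat.card G := by
  classical
  rw [card_ker_eq_charKer]
  set K := charKer ψ.1 (isCharacter_of_irr ψ.2)
  obtain ⟨χ', hχ', e⟩ := exists_descend K ψ.2 (fun n hn => hn)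
  have h1 : charDegree ψ.1 = charDegree χ' := by
    have h0 := charDegree_comp_mk K χ'
    rw [e] at h0
    exact h0
  rw [h1, ← Subgroup.card_mul_index K]
  refine Nat.mul_dvd_mul_left _ ?_
  exact charDegree_dvd_card (⟨χ', hχ'⟩ : IrrCharacter (G ⧸ K))

theorem codegree_dvd_card (ψ : IrrCharacter G) :
    Nat.card G / (Nat.card {g : G // ψ.1 g = ψ.1 1} * charDegree ψ.1) ∣ Nat.card G :=
  Nat.div_dvd_of_dvd (ker_mul_degree_dvd ψ)

/-- A nonprincipal irreducible character of a simple group is faithful. -/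
theorem ker_eq_bot_of_simple (hS : IsSimpleGroup G) (χ : IrrCharacter G) (hχ : χ ≠ oneIrr G) :
    charKer χ.1 (isCharacter_of_irr χ.2) = ⊥ := by
  classical
  haveI := Fintype.ofFinite G
  rcases hS.eq_bot_or_eq_top_of_normal _ (charKer_normal χ.1 (isCharacter_of_irr χ.2)) with h | h
  · exact h
  · exfalso
    have h1 := classInner_irr χ (oneIrr G)
    rw [if_neg hχ] at h1
    have hcard : (Nat.card G : ℂ) ≠ 0 := by exact_mod_cast Nat.card_pos.ne'
    simp only [classInner] at h1
    have h2 := (mul_eq_zero.1 h1).resolve_left (inv_ne_zero hcard)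
    have hall : ∀ g, χ.1 g = χ.1 1 := by
      intro g
      have : g ∈ charKer χ.1 (isCharacter_of_irr χ.2) := by rw [h]; trivial
      exact this
    have h3 : ∑ g : G, χ.1 g * conj ((oneIrr G).1 g) = (Fintype.card G : ℂ) * χ.1 1 := by
      have : ∀ g, χ.1 g * conj ((oneIrr G).1 g) = χ.1 1 := by
        intro g
        rw [hall g]
        show χ.1 1 * conj (1 : ℂ) = χ.1 1
        simp
      simp [this]
    rw [h3] at h2
    have h4 : (Fintype.card G : ℂ) ≠ 0 := by exact_mod_cast Fintype.card_ne_zero
    exact (mul_ne_zero h4 (irr_one_ne_zero' χ)) h2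

end Basic

section Simple

variable {S : Type u} [Group S] [Finite S] {G : Type v} [Group G] [Finite G]

theorem card_dvd_of_codegrees (hS : IsSimpleGroup S)
    (hsub : ∀ χ : IrrCharacter S, ∃ ψ : IrrCharacter G,
      (Nat.card S / (Nat.card {g : S // χ.1 g = χ.1 1} * charDegree χ.1)) =
      (Nat.card G / (Nat.card {g : G // ψ.1 g = ψ.1 1} * charDegree ψ.1))) :
    Nat.card S ∣ Nat.card G := by
  classical
  haveI := Fintype.ofFinite S
  haveI := Fintype.ofFinite (IrrCharacter S)
  rw [Nat.dvd_iff_prime_pow_dvd_dvd]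
  intro r k hr hk
  rcases k.eq_zero_or_pos with rfl | hkpos
  · simp
  have hrS : r ∣ Nat.card S := (dvd_pow_self r hkpos.ne').trans hk
  -- a nonprincipal character of degree prime to `r`
  have hex : ∃ χ : IrrCharacter S, χ ≠ oneIrr S ∧ ¬ r ∣ charDegree χ.1 := by
    by_contra hcon
    push Not at hcon
    have h1 := sum_degree_sq (G := S)
    rw [← Finset.add_sum_erase _ _ (Finset.mem_univ (oneIrr S))] at h1
    have h2 : charDegree (oneIrr S).1 = 1 := by
      show charDegree (fun _ : S => (1 : ℂ)) = 1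
      simp [charDegree]
    have h3 : r ∣ ∑ χ ∈ Finset.univ.erase (oneIrr S), (charDegree χ.1) ^ 2 := by
      apply Finset.dvd_sum
      intro χ hχ
      exact (hcon χ (Finset.ne_of_mem_erase hχ)).trans (dvd_pow_self _ two_ne_zero)
    rw [h2] at h1
    have h4 : r ∣ 1 ^ 2 := by
      have h5 := hrS
      rw [← h1] at h5
      exact (Nat.dvd_add_left h3).1 h5
    simp at h4
    exact hr.one_lt.ne' h4
  obtain ⟨χ, hχ1, hχr⟩ := hex
  obtain ⟨ψ, hψ⟩ := hsub χ
  have hker := ker_eq_bot_of_simple hS χ hχ1
  have h1 : Nat.card {g : S // χ.1 g = χ.1 1} = 1 := by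
    rw [card_ker_eq_charKer, hker]
    simp
  rw [h1, one_mul] at hψ
  have hd := charDegree_dvd_card χ
  have h2 : Nat.card S = charDegree χ.1 * (Nat.card S / charDegree χ.1) :=
    (Nat.mul_div_cancel' hd).symm
  have h3 : r ^ k ∣ Nat.card S / charDegree χ.1 := by
    have hc : (r ^ k).Coprime (charDegree χ.1) :=
      Nat.Coprime.pow_left _ ((Nat.Prime.coprime_iff_not_dvd hr).2 hχr)
    rw [h2] at hk
    exact hc.dvd_of_dvd_mul_left hk
  rw [hψ] at h3
  exact h3.trans (codegree_dvd_card ψ)

end Simple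

section Prime

variable {G : Type u} [Group G] [Finite G]

/-- The structure of a group with a faithful irreducible character of prime codegree. -/
theorem prime_codegree_structure (χ : IrrCharacter G)
    (p : ℕ) (hp : p.Prime) (hcod : Nat.card G = p * charDegree χ.1) :
    ¬ p ∣ charDegree χ.1 ∧
    ∃ Q : Subgroup G, Q.Normal ∧ Nat.card Q = p ∧ Subgroup.centralizer (Q : Set G) = Q := by
  classical
  haveI : Fact p.Prime := ⟨hp⟩
  haveI := Fintype.ofFinite G
  haveI := Fintype.ofFinite (IrrCharacter G)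
  set d := charDegree χ.1 with hd
  have hdpos : 0 < d := irr_charDegree_pos χ.2
  have hone : χ.1 1 = (d : ℂ) := one_eq_charDegree (isCharacter_of_irr χ.2)
  -- the norm identity
  have hnorm : ∑ g : G, Complex.normSq (χ.1 g) = (Nat.card G : ℝ) := by
    have h1 := classInner_irr χ χ
    rw [if_pos rfl] at h1
    simp only [classInner] at h1
    have hcard : (Nat.card G : ℂ) ≠ 0 := by exact_mod_cast Nat.card_pos.ne'
    have h2 : ∑ g : G, χ.1 g * conj (χ.1 g) = (Nat.card G : ℂ) := by
      field_simp at h1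
      exact h1
    have h3 : ∑ g : G, χ.1 g * conj (χ.1 g) = ((∑ g : G, Complex.normSq (χ.1 g) : ℝ) : ℂ) := by
      push_cast
      refine Finset.sum_congr rfl fun g _ => ?_
      exact Complex.mul_conj _
    rw [h3] at h2
    exact_mod_cast h2
  have hsingle : (d : ℝ) ^ 2 ≤ (Nat.card G : ℝ) := by
    rw [← hnorm]
    have h1 : Complex.normSq (χ.1 1) ≤ ∑ g : G, Complex.normSq (χ.1 g) :=
      Finset.single_le_sum (f := fun g : G => Complex.normSq (χ.1 g))
      (fun g _ => Complex.normSq_nonneg _) (Finset.mem_univ (1 : G))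
    rw [hone] at h1
    have h2 : Complex.normSq (d : ℂ) = (d : ℝ) ^ 2 := by
      rw [Complex.normSq_natCast]
      ring
    rw [h2] at h1
    exact h1
  have hdp : d ≤ p := by
    rw [hcod] at hsingle
    push_cast at hsingle
    have h1 : (0 : ℝ) < d := by exact_mod_cast hdpos
    have h2 : (d : ℝ) ≤ p := by nlinarith
    exact_mod_cast h2
  have hdne : d ≠ p := by
    intro hdp'
    -- `χ` vanishes off the identity
    have hz : ∀ g : G, g ≠ 1 → χ.1 g = 0 := by
      intro g hg
      have h1 : Complex.normSq (χ.1 1) + ∑ x ∈ Finset.univ.erase (1 : G), Complex.normSq (χ.1 x)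
          = ∑ g : G, Complex.normSq (χ.1 g) :=
        Finset.add_sum_erase Finset.univ (fun g : G => Complex.normSq (χ.1 g))
        (Finset.mem_univ (1 : G))
      rw [hnorm, hone, hcod, ← hdp', Complex.normSq_natCast] at h1
      push_cast at h1
      have h2 : ∑ x ∈ Finset.univ.erase (1 : G), Complex.normSq (χ.1 x) = 0 := by linarith
      have h3 := (Finset.sum_eq_zero_iff_of_nonneg (fun g _ => Complex.normSq_nonneg _)).1 h2 g
        (Finset.mem_erase.2 ⟨hg, Finset.mem_univ _⟩)
      exact Complex.normSq_eq_zero.1 h3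
    have hχ1 : χ ≠ oneIrr G := by
      intro h
      have : d = 1 := by
        rw [hd, h]
        show charDegree (fun _ : G => (1 : ℂ)) = 1
        simp [charDegree]
      rw [this] at hdp'
      exact hp.one_lt.ne hdp'
    have h1 := classInner_irr χ (oneIrr G)
    rw [if_neg hχ1] at h1
    have hcard : (Nat.card G : ℂ) ≠ 0 := by exact_mod_cast Nat.card_pos.ne'
    simp only [classInner] at h1
    have h2 := (mul_eq_zero.1 h1).resolve_left (inv_ne_zero hcard)
    rw [Finset.sum_eq_single (1 : G)] at h2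
    · have h3 : conj ((oneIrr G).1 1) = 1 := by
        show conj (1 : ℂ) = 1
        simp
      rw [h3, mul_one, hone] at h2
      have : (d : ℂ) ≠ 0 := by exact_mod_cast hdpos.ne'
      exact this h2
    · intro g _ hg
      rw [hz g hg, zero_mul]
    · intro h
      exact absurd (Finset.mem_univ _) h
  have hdlt : d < p := lt_of_le_of_ne hdp hdne
  have hpd : ¬ p ∣ d := Nat.not_dvd_of_pos_of_lt hdpos hdlt
  -- the Sylow subgroup
  obtain ⟨P⟩ : Nonempty (Sylow p G) := inferInstance
  have hPidx := P.not_dvd_index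
  obtain ⟨k, hk⟩ := IsPGroup.iff_card.1 P.2
  have hmul : p ^ k * (P : Subgroup G).index = p * d := by
    rw [← hk, ← hcod]
    exact Subgroup.card_mul_index _
  have hk1 : k = 1 := by
    rcases k with _ | _ | k
    · exfalso
      apply hPidx
      rw [pow_zero, one_mul] at hmul
      rw [hmul]
      exact dvd_mul_right _ _
    · rfl
    · exfalso
      apply hpd
      have h1 : p ^ (k + 1 + 1) * (P : Subgroup G).index = p * (p ^ k * p * (P : Subgroup G).index) := by
        ring
      rw [h1] at hmul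
      have h2 := Nat.eq_of_mul_eq_mul_left hp.pos hmul
      rw [← h2]
      exact Dvd.dvd.mul_right (dvd_mul_left _ _) _
  have hcardP : Nat.card (P : Subgroup G) = p := by rw [hk, hk1, pow_one]
  have hidx : (P : Subgroup G).index = d := by
    rw [hk1, pow_one] at hmul
    exact Nat.eq_of_mul_eq_mul_left hp.pos hmul
  have hnormal : (P : Subgroup G).Normal := by
    have h1 : Nat.card (Sylow p G) ∣ d := hidx ▸ P.card_dvd_index
    have h2 : Nat.card (Sylow p G) ≡ 1 [MOD p] := card_sylow_modEq_one p G
    have h3 : Nat.card (Sylow p G) ≤ d := Nat.le_of_dvd hdpos h1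
    have h4 : Nat.card (Sylow p G) = 1 := by
      have h5 : Nat.card (Sylow p G) % p = 1 % p := h2
      rw [Nat.mod_eq_of_lt (by omega), Nat.mod_eq_of_lt hp.one_lt] at h5
      exact h5
    haveI : Subsingleton (Sylow p G) := (Nat.card_eq_one_iff_unique.1 h4).1
    exact Sylow.normal_of_subsingleton P
  refine ⟨hpd, P, hnormal, hcardP, ?_⟩
  set Q : Subgroup G := (P : Subgroup G) with hQ
  haveI : Fintype Q := Fintype.ofFinite _
  haveI : Fintype (IrrCharacter Q) := Fintype.ofFinite _
  haveI : IsCyclic Q := isCyclic_of_prime_card hcardP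
  have hQcomm : ∀ a b : Q, a * b = b * a := fun a b => IsCyclic.commGroup.mul_comm a b
  obtain ⟨μ, hμ, hne⟩ := H23.exists_constituent Q χ.2
  have hμdeg : charDegree μ = 1 := by
    have h1 := H23.ito_dvd hμ (⊤ : Subgroup Q) (fun a _ b _ => hQcomm a b)
    rw [Subgroup.index_top] at h1
    exact Nat.dvd_one.1 h1
  obtain ⟨e, he0, hdeg, hin⟩ := degree_over Q hμ χ hne
  rw [hμdeg, mul_one] at hdeg
  set I := H06.inertiaSub Q μ with hI
  have hdeg' : d = e * I.index := hdeg
  have hcardI : Nat.card I = p * e := by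
    have h1 : I.index * Nat.card I = Nat.card G := Subgroup.index_mul_card I
    rw [hcod, hdeg'] at h1
    have h2 : 0 < I.index := Nat.pos_of_ne_zero Subgroup.index_ne_zero_of_finite
    apply Nat.eq_of_mul_eq_mul_left h2
    rw [h1]
    ring
  -- the multiplicity is one
  have hX := isCharacter_indFun Q (isCharacter_of_irr hμ)
  obtain ⟨m, hm, hXX⟩ := H06.classInner_self_char_eq_sum hX
  have hXinner := inner_ind_ind Q hμ
  rw [hXX, hcardI, hcardP] at hXinner
  have hpne : (p : ℂ) ≠ 0 := by exact_mod_cast hp.ne_zero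
  have hXe : ((∑ ψ : IrrCharacter G, m ψ * m ψ : ℕ) : ℂ) = (e : ℂ) := by
    rw [hXinner]
    push_cast
    field_simp
  have hXe' : ∑ ψ : IrrCharacter G, m ψ * m ψ = e := by exact_mod_cast hXe
  have hmχ : m χ = e := by
    have h1 := hm χ
    rw [frobenius_reciprocity Q μ χ.1 (isClassFunction_of_isCharacter (isCharacter_of_irr χ.2)),
      ← classInner_comm_conj, hin, Complex.conj_natCast] at h1
    exact_mod_cast h1.symm
  have hee : e * e ≤ e := by
    rw [← hmχ]
    nth_rewrite 3 [hmχ]
    rw [← hXe']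
    exact Finset.single_le_sum (f := fun ψ : IrrCharacter G => m ψ * m ψ)
      (fun _ _ => Nat.zero_le _) (Finset.mem_univ χ)
  have he1 : e = 1 := by
    have h1 : 0 < e := Nat.pos_of_ne_zero he0
    nlinarith
  have hcardI' : Nat.card I = p := by rw [hcardI, he1, mul_one]
  have hQI : Q ≤ I := H06.le_inertiaSub Q (isClassFunction_of_isCharacter (isCharacter_of_irr hμ))
  have hIQ : I = Q := by
    symm
    apply Subgroup.eq_of_le_of_card_ge hQI
    rw [hcardI', hcardP]
  apply le_antisymm
  · intro g hg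
    rw [← hIQ, hI, H06.mem_inertiaSub]
    intro h
    congr 1
    apply Subtype.ext
    show g * (h : G) * g⁻¹ = h
    rw [Subgroup.mem_centralizer_iff] at hg
    have := hg h h.2
    rw [← this]
    group
  · intro g hg
    rw [Subgroup.mem_centralizer_iff]
    intro h hh
    exact congrArg Subtype.val (hQcomm ⟨h, hh⟩ ⟨g, hg⟩)

/-- The alternative of a faithful character of prime codegree. -/
theorem cyclic_or_frobenius (χ : IrrCharacter G)
    (p : ℕ) (hp : p.Prime) (hcod : Nat.card G = p * charDegree χ.1) :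
    (IsCyclic G ∧ Nat.card G = p) ∨
      ∃ H : Subgroup G, IsFrobeniusComplement H ∧ Nat.card (frobeniusKernel H) = p := by
  classical
  haveI : Fact p.Prime := ⟨hp⟩
  haveI := Fintype.ofFinite G
  set d := charDegree χ.1 with hd
  have hdpos : 0 < d := irr_charDegree_pos χ.2
  by_cases hd1 : d = 1
  · left
    rw [hd1, mul_one] at hcod
    exact ⟨isCyclic_of_prime_card hcod, hcod⟩
  right
  obtain ⟨hpd, Q, hQn, hQc, hQC⟩ := prime_codegree_structure χ p hp hcod
  haveI := hQn
  have hidx : Q.index = d := by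
    have h1 := Subgroup.card_mul_index Q
    rw [hQc, hcod] at h1
    exact Nat.eq_of_mul_eq_mul_left hp.pos h1
  have hcop : (Nat.card Q).Coprime Q.index := by
    rw [hQc, hidx, Nat.Prime.coprime_iff_not_dvd hp]
    exact hpd
  obtain ⟨H, hH⟩ := Subgroup.exists_right_complement'_of_coprime hcop
  have hcardH : Nat.card H = d := by
    have h1 := hH.card_mul_card
    rw [hQc, hcod] at h1
    exact Nat.eq_of_mul_eq_mul_left hp.pos h1
  have hdisj : ∀ x ∈ Q, x ∈ H → x = 1 := by
    intro x hx hx'
    have := Subgroup.disjoint_def.1 hH.disjoint hx hx'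
    exact this
  have hsup : Q ⊔ H = ⊤ := hH.sup_eq_top
  have hcent : ∀ q ∈ Q, q ≠ 1 → ∀ y, y * q = q * y → y ∈ Q := by
    intro q hq hq1 y hy
    rw [← SetLike.mem_coe, ← hQC, SetLike.mem_coe, Subgroup.mem_centralizer_iff]
    intro z hz
    have hle : Subgroup.zpowers q ≤ Q := by
      rw [Subgroup.zpowers_le]
      exact hq
    have heq : Subgroup.zpowers q = Q := by
      apply Subgroup.eq_of_le_of_card_ge hle
      rw [hQc, Nat.card_zpowers]
      have h1 : orderOf q ∣ Nat.card Q := Subgroup.orderOf_dvd_natCard Q hq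
      rw [hQc] at h1
      rcases (Nat.dvd_prime hp).1 h1 with h2 | h2
      · exact absurd (orderOf_eq_one_iff.1 h2) hq1
      · exact h2.ge
    rw [← heq] at hz
    obtain ⟨k, rfl⟩ := hz
    have hc : Commute y q := hy
    exact (hc.zpow_right k).symm.eq
  have hfrob : IsFrobeniusComplement H := by
    refine ⟨?_, ?_, ?_⟩
    · rintro rfl
      rw [Subgroup.card_bot] at hcardH
      exact hd1 hcardH.symm
    · rintro rfl
      rw [Subgroup.card_top, hcod] at hcardH
      have := hp.two_le
      nlinarith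
    · intro g hg
      rw [eq_bot_iff]
      rintro y ⟨hy1, hy2⟩
      rw [Subgroup.mem_bot]
      have hg' : g ∈ Q ⊔ H := by rw [hsup]; trivial
      obtain ⟨q, hq, h, hh, rfl⟩ := Subgroup.mem_sup_of_normal_left.1 hg'
      have hq1 : q ≠ 1 := by
        rintro rfl
        apply hg
        simpa using hh
      have hy2' : (q * h)⁻¹ * y * (q * h) ∈ H := by
        have hmem : (MulAut.conj (q * h))⁻¹ • y ∈ H :=
          Subgroup.mem_pointwise_smul_iff_inv_smul_mem.1 hy2
        have e : (MulAut.conj (q * h))⁻¹ • y = (q * h)⁻¹ * y * (q * h) := by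
          rw [MulAut.smul_def, ← MulAut.conj_inv_apply]
        rwa [e] at hmem
      -- `h' = q⁻¹ y q`
      let h' := h * ((q * h)⁻¹ * y * (q * h)) * h⁻¹
      have hh' : h' ∈ H := H.mul_mem (H.mul_mem hh hy2') (H.inv_mem hh)
      have he : h' = q⁻¹ * y * q := by
        simp only [h']
        group
      have hy3 : y = q * h' * q⁻¹ := by
        rw [he]
        group
      -- `y h'⁻¹` lies in both
      have h1 : y * h'⁻¹ ∈ H := H.mul_mem hy1 (H.inv_mem hh')
      have h2 : y * h'⁻¹ ∈ Q := by
        have h3 : y * h'⁻¹ = q * (h' * q⁻¹ * h'⁻¹) := by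
          rw [hy3]
          group
        rw [h3]
        exact Q.mul_mem hq (hQn.conj_mem _ (Q.inv_mem hq) h')
      have h4 : y * h'⁻¹ = 1 := hdisj _ h2 h1
      have h5 : y = h' := by
        rw [mul_inv_eq_one] at h4
        exact h4
      have h6 : h' * q = q * h' := by
        have h7 : q * h' * q⁻¹ = h' := by
          rw [← hy3]
          exact h5
        calc h' * q = (q * h' * q⁻¹) * q := by rw [h7]
          _ = q * h' := by group
      have h8 : h' ∈ Q := hcent q hq hq1 h' h6
      rw [h5]
      exact hdisj _ h8 hh'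
  refine ⟨H, hfrob, ?_⟩
  rw [H01.card_frobeniusKernel hfrob]
  have h1 := Subgroup.card_mul_index H
  rw [hcardH, hcod, mul_comm] at h1
  exact Nat.eq_of_mul_eq_mul_right hdpos h1

/-- A normal cyclic subgroup is centralized by all commutators. -/
theorem commutator_mem_centralizer_of_cyclic (Q : Subgroup G) [hQ : Q.Normal] [IsCyclic Q] (a b : G) :
    a * b * a⁻¹ * b⁻¹ ∈ Subgroup.centralizer (Q : Set G) := by
  let φ := IsCyclic.mulAutMulEquiv Q
  have hcomm : (MulAut.conjNormal a : MulAut Q) * MulAut.conjNormal b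
      = MulAut.conjNormal b * MulAut.conjNormal a := by
    apply φ.injective
    rw [map_mul, map_mul, mul_comm]
  have key : ∀ z ∈ Q, (a * b) * z * (a * b)⁻¹ = (b * a) * z * (b * a)⁻¹ := by
    intro z hz
    have h1 := congrArg (fun α : MulAut Q => ((α ⟨z, hz⟩ : Q) : G)) hcomm
    simp only [MulAut.mul_apply, MulAut.conjNormal_apply] at h1
    simpa [mul_assoc] using h1
  rw [Subgroup.mem_centralizer_iff]
  intro y hy
  have hy' : (b * a)⁻¹ * y * (b * a) ∈ Q := by
    have := hQ.conj_mem y hy (b * a)⁻¹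
    simpa using this
  have h1 := key _ hy'
  have h2 : (b * a) * ((b * a)⁻¹ * y * (b * a)) * (b * a)⁻¹ = y := by group
  rw [h2] at h1
  calc y * (a * b * a⁻¹ * b⁻¹)
      = ((a * b) * ((b * a)⁻¹ * y * (b * a)) * (a * b)⁻¹) * (a * b * a⁻¹ * b⁻¹) := by rw [h1]
    _ = (a * b * a⁻¹ * b⁻¹) * y := by group

/-- Perfect groups have no irreducible characters of prime codegree. -/
theorem no_prime_codegree_of_perfect (hperf : commutator G = ⊤) (χ : IrrCharacter G) :
    ¬ (Nat.card G / (Nat.card {g : G // χ.1 g = χ.1 1} * charDegree χ.1)).Prime := by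
  classical
  intro hprime
  set p := Nat.card G / (Nat.card {g : G // χ.1 g = χ.1 1} * charDegree χ.1) with hpdef
  haveI : Fact p.Prime := ⟨hprime⟩
  let K := charKer χ.1 (isCharacter_of_irr χ.2)
  haveI hKn : K.Normal := charKer_normal _ _
  obtain ⟨χ', hχ', e⟩ := exists_descend K χ.2 (fun n hn => hn)
  have hdeg : charDegree χ.1 = charDegree χ' := by
    have h0 := charDegree_comp_mk K χ'
    rw [e] at h0
    exact h0
  have hcardK : Nat.card {g : G // χ.1 g = χ.1 1} = Nat.card K := card_ker_eq_charKer χ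
  have hQ : Nat.card (G ⧸ K) = p * charDegree χ' := by
    have h1 : Nat.card K * Nat.card (G ⧸ K) = Nat.card G := Subgroup.card_mul_index K
    have h2 : charDegree χ' ∣ Nat.card (G ⧸ K) := charDegree_dvd_card (⟨χ', hχ'⟩ : IrrCharacter (G ⧸ K))
    have h3 : p = Nat.card (G ⧸ K) / charDegree χ' := by
      rw [hpdef, hcardK, hdeg, ← h1]
      exact Nat.mul_div_mul_left _ _ Nat.card_pos
    rw [h3, Nat.div_mul_cancel h2]
  obtain ⟨-, Q, hQn, hQc, hQC⟩ := prime_codegree_structure (⟨χ', hχ'⟩ : IrrCharacter (G ⧸ K)) p hprime hQ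
  haveI := hQn
  haveI : IsCyclic Q := isCyclic_of_prime_card hQc
  have hsurj : Function.Surjective (QuotientGroup.mk' K) := QuotientGroup.mk'_surjective K
  have hperf' : commutator (G ⧸ K) = ⊤ := by
    have h1 := Subgroup.map_commutator (⊤ : Subgroup G) ⊤ (QuotientGroup.mk' K)
    rw [← commutator_def, hperf, Subgroup.map_top_of_surjective _ hsurj] at h1
    rw [commutator_def, ← h1]
  have hle : commutator (G ⧸ K) ≤ Q := by
    rw [commutator_def, Subgroup.commutator_le]
    intro a _ b _
    rw [← SetLike.mem_coe, ← hQC, SetLike.mem_coe]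
    rw [commutatorElement_def]
    exact commutator_mem_centralizer_of_cyclic Q a b
  have hQtop : Q = ⊤ := by
    rw [eq_top_iff, ← hperf']
    exact hle
  have hcomm : ∀ a b : G ⧸ K, a * b = b * a := by
    intro a b
    have h1 : a ∈ Q := by rw [hQtop]; trivial
    have h2 : b ∈ Q := by rw [hQtop]; trivial
    have := (IsCyclic.commGroup (α := Q)).mul_comm ⟨a, h1⟩ ⟨b, h2⟩
    exact congrArg Subtype.val this
  have hbot : commutator (G ⧸ K) = ⊥ := by
    rw [commutator_def, eq_bot_iff, Subgroup.commutator_le]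
    intro a _ b _
    rw [commutatorElement_def, hcomm a b]
    simp
  rw [hbot] at hperf'
  have h2 : Nat.card (G ⧸ K) = 1 := by
    rw [Nat.card_eq_one_iff_unique]
    refine ⟨⟨fun a b => ?_⟩, ⟨1⟩⟩
    have h3 : ∀ x : G ⧸ K, x = 1 := by
      intro x
      have : x ∈ (⊤ : Subgroup (G ⧸ K)) := trivial
      rw [← hperf'] at this
      exact this
    rw [h3 a, h3 b]
  rw [h2] at hQ
  have h4 := hprime.two_le
  have h5 : 0 < charDegree χ' := irr_charDegree_pos hχ'
  nlinarith

/-- Non-perfect groups have an irreducible character of prime codegree. -/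
theorem exists_prime_codegree_of_not_perfect (hperf : commutator G ≠ ⊤) :
    ∃ χ : IrrCharacter G,
      (Nat.card G / (Nat.card {g : G // χ.1 g = χ.1 1} * charDegree χ.1)).Prime := by
  classical
  obtain ⟨M, hM, hle⟩ := (eq_top_or_exists_le_coatom (commutator G)).resolve_left hperf
  have hMn : M.Normal := by
    constructor
    intro n hn g
    have h1 : g * n * g⁻¹ * n⁻¹ ∈ commutator G := by
      rw [commutator_def]
      exact Subgroup.commutator_mem_commutator trivial trivial
    have h2 := M.mul_mem (hle h1) hn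
    simpa using h2
  haveI := hMn
  let A := G ⧸ M
  haveI : Fintype A := Fintype.ofFinite _
  haveI : Fintype (IrrCharacter A) := Fintype.ofFinite _
  have hAcomm : ∀ a b : A, a * b = b * a := by
    intro a b
    obtain ⟨x, rfl⟩ := QuotientGroup.mk_surjective a
    obtain ⟨y, rfl⟩ := QuotientGroup.mk_surjective b
    rw [← QuotientGroup.mk_mul, ← QuotientGroup.mk_mul, QuotientGroup.eq]
    have h2 : (x * y)⁻¹ * (y * x) = y⁻¹ * x⁻¹ * (y⁻¹)⁻¹ * (x⁻¹)⁻¹ := by group
    rw [h2]
    apply hle
    rw [commutator_def]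
    exact Subgroup.commutator_mem_commutator trivial trivial
  have hAnt : Nontrivial A := by
    rw [QuotientGroup.nontrivial_iff]
    exact hM.1
  have hAsimple : IsSimpleGroup A := by
    refine ⟨fun S _ => ?_⟩
    by_cases hS : S.comap (QuotientGroup.mk' M) = M
    · left
      rw [eq_bot_iff]
      intro a ha
      obtain ⟨x, rfl⟩ := QuotientGroup.mk_surjective a
      rw [Subgroup.mem_bot, QuotientGroup.eq_one_iff, ← hS]
      exact ha
    · right
      have h1 : M < S.comap (QuotientGroup.mk' M) := by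
        refine lt_of_le_of_ne ?_ (Ne.symm hS)
        intro x hx
        rw [Subgroup.mem_comap]
        have : QuotientGroup.mk' M x = 1 := (QuotientGroup.eq_one_iff x).2 hx
        rw [this]
        exact S.one_mem
      have h2 := hM.2 _ h1
      rw [eq_top_iff]
      intro a _
      obtain ⟨x, rfl⟩ := QuotientGroup.mk_surjective a
      have : x ∈ S.comap (QuotientGroup.mk' M) := by rw [h2]; trivial
      exact this
  letI iA : CommGroup A := { (inferInstance : Group A) with mul_comm := hAcomm }
  have hprime : (Nat.card A).Prime := IsSimpleGroup.prime_card (α := A)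
  -- a nonprincipal character
  have hex : ∃ χ : IrrCharacter A, χ ≠ oneIrr A := by
    by_contra hcon
    push Not at hcon
    have h1 := sum_degree_sq (G := A)
    have h2 : ∑ χ : IrrCharacter A, (charDegree χ.1) ^ 2 = 1 := by
      rw [Finset.sum_eq_single (oneIrr A)]
      · show (charDegree (fun _ : A => (1 : ℂ))) ^ 2 = 1
        simp [charDegree]
      · intro b _ hb
        exact absurd (hcon b) hb
      · intro h
        exact absurd (Finset.mem_univ _) h
    rw [h2] at h1
    exact hprime.one_lt.ne h1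
  obtain ⟨χb, hχb⟩ := hex
  have hker := ker_eq_bot_of_simple hAsimple χb hχb
  have hdeg : charDegree χb.1 = 1 := by
    have h1 := H23.ito_dvd χb.2 (⊤ : Subgroup A) (fun a _ b _ => hAcomm a b)
    rw [Subgroup.index_top] at h1
    exact Nat.dvd_one.1 h1
  refine ⟨⟨χb.1 ∘ (QuotientGroup.mk' M), isIrr_inflate M χb.2⟩, ?_⟩
  have hdeg2 : charDegree (χb.1 ∘ (QuotientGroup.mk' M)) = 1 := by
    rw [charDegree_comp_mk, hdeg]
  have hker2 : Nat.card {g : G // (χb.1 ∘ (QuotientGroup.mk' M)) g = (χb.1 ∘ (QuotientGroup.mk' M)) 1}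
      = Nat.card M := by
    refine Nat.card_congr (Equiv.subtypeEquivRight fun g => ?_)
    simp only [Function.comp_apply, map_one]
    constructor
    · intro h
      have h1 : QuotientGroup.mk' M g ∈ charKer χb.1 (isCharacter_of_irr χb.2) := h
      rw [hker, Subgroup.mem_bot] at h1
      exact (QuotientGroup.eq_one_iff g).1 h1
    · intro h
      have h1 : QuotientGroup.mk' M g = 1 := (QuotientGroup.eq_one_iff g).2 h
      rw [h1]
  show (Nat.card G / (Nat.card {g : G // (χb.1 ∘ (QuotientGroup.mk' M)) g = (χb.1 ∘ (QuotientGroup.mk' M)) 1} *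
    charDegree (χb.1 ∘ (QuotientGroup.mk' M)))).Prime
  rw [hker2, hdeg2, mul_one, ← Subgroup.card_mul_index M,
    Nat.mul_div_cancel_left _ Nat.card_pos]
  exact hprime

end Prime

end Cfsg.Agent.H22
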