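import Mathlib
import Cfsg.Prelude.Def_Blocks
import Cfsg.Prelude.Def_Transfer
import Cfsg.Agent.Lib.H21.CharLinear
import Cfsg.Agent.Lib.H06.CharGallagher
import Cfsg.Agent.Lib.H22.NormalAb
import Cfsg.Agent.Lib.H22.Codegree
import Cfsg.Agent.Lib.H23.OddSum
import Cfsg.Agent.Lib.H18.Special
import Cfsg.Agent.Lib.H13.Extra
import Cfsg.Agent.Lib.H09.KSeq2
import Cfsg.Agent.Lib.H21.BlockBasics
import Cfsg.Agent.Lib.H22.Degree
import Cfsg.Agent.Lib.H06.FittingHall
import Cfsg.Agent.Lib.H08.PCoreL
import Cfsg.Agent.Lib.H23.AcdTwo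

/-! Groups with a unique nonlinear irreducible character. -/

set_option autoImplicit false
set_option linter.style.haveILetI false

namespace Cfsg.Agent.H22

open Cfsg Cfsg.Agent.H21 Cfsg.Agent.H06 ComplexConjugate

universe u

section

variable {G : Type u} [Group G] [Finite G]

/-- Irreducible characters separate elements from the identity. -/
theorem exists_irr_ne_of_ne_one {w : G} (hw : w ≠ 1) : ∃ χ : IrrCharacter G, χ.1 w ≠ χ.1 1 := by
  classical
  by_contra hcon
  push Not at hcon
  haveI := Fintype.ofFinite (IrrCharacter G)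
  have h1 := column_orthogonality_of_not_isConj (g := w) (h := 1)
    (by rw [isConj_comm, isConj_one_right]; exact hw)
  have h2 : ∑ χ : IrrCharacter G, (χ.1 w) * conj (χ.1 1) =
      ((∑ χ : IrrCharacter G, (charDegree χ.1) ^ 2 : ℕ) : ℂ) := by
    push_cast
    refine Finset.sum_congr rfl fun χ _ => ?_
    rw [hcon χ, one_eq_charDegree (isCharacter_of_irr χ.2)]
    simp [sq]
  rw [h2, sum_degree_sq] at h1
  have h3 : (Nat.card G : ℂ) ≠ 0 := Nat.cast_ne_zero.2 Nat.card_pos.ne'
  exact h3 h1

/-- A character with the commutator subgroup in its kernel is linear. -/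
theorem degree_one_of_commutator_ker {χ : G → ℂ} (hχ : IsIrrCharacter G χ)
    (h : ∀ x ∈ commutator G, χ x = χ 1) : charDegree χ = 1 := by
  obtain ⟨χ', h1, h2⟩ := exists_descend (commutator G) hχ h
  rw [← h2, charDegree_comp_mk]
  apply irr_degree_one_of_comm _ h1
  intro a b
  induction a using QuotientGroup.induction_on with
  | H a =>
  induction b using QuotientGroup.induction_on with
  | H b =>
  rw [← QuotientGroup.mk_mul, ← QuotientGroup.mk_mul, QuotientGroup.eq]
  rw [commutator_def]
  have := Subgroup.commutator_mem_commutator (Subgroup.mem_top b⁻¹) (Subgroup.mem_top a⁻¹)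
  rw [commutatorElement_def] at this
  convert this using 1
  group

/-- If `G / N` is not abelian there is a nonlinear character with `N` in its kernel. -/
theorem exists_nonlinear_of_not_le (N : Subgroup G) [N.Normal] (h : ¬ commutator G ≤ N) :
    ∃ β : IrrCharacter G, charDegree β.1 ≠ 1 ∧ ∀ n ∈ N, β.1 n = β.1 1 := by
  by_contra hcon
  push Not at hcon
  apply h
  have h1 : ∀ ψ : IrrCharacter (G ⧸ N), charDegree ψ.1 = 1 := by
    intro ψ
    by_contra hψ
    obtain ⟨n, hn, hne⟩ := hcon ⟨_, isIrr_inflate N ψ.2⟩ (by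
      show charDegree (ψ.1 ∘ QuotientGroup.mk' N) ≠ 1
      rwa [charDegree_comp_mk])
    apply hne
    show ψ.1 (QuotientGroup.mk' N n) = ψ.1 (QuotientGroup.mk' N 1)
    rw [map_one]
    have h3 : QuotientGroup.mk' N n = 1 := (QuotientGroup.eq_one_iff n).2 hn
    rw [h3]
  have h2 := comm_of_degrees_one h1
  rw [commutator_def, Subgroup.commutator_le]
  intro a _ b _
  rw [← QuotientGroup.eq_one_iff, commutatorElement_def]
  simp only [QuotientGroup.mk_mul, QuotientGroup.mk_inv]
  rw [h2 (a : G ⧸ N) b]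
  group

/-- Elements outside the commutator subgroup are detected by a linear character. -/
theorem exists_linear_ne {w : G} (hw : w ∉ commutator G) :
    ∃ l : IrrCharacter G, charDegree l.1 = 1 ∧ l.1 w ≠ 1 := by
  have h0 : ((w : G) : G ⧸ commutator G) ≠ 1 := by
    rwa [Ne, QuotientGroup.eq_one_iff]
  obtain ⟨ψ, hψ⟩ := exists_irr_ne_of_ne_one h0
  have hcomm : ∀ a b : G ⧸ commutator G, a * b = b * a := by
    intro a b
    induction a using QuotientGroup.induction_on with
    | H a =>
    induction b using QuotientGroup.induction_on with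
    | H b =>
    rw [← QuotientGroup.mk_mul, ← QuotientGroup.mk_mul, QuotientGroup.eq]
    rw [commutator_def]
    have := Subgroup.commutator_mem_commutator (Subgroup.mem_top b⁻¹) (Subgroup.mem_top a⁻¹)
    rw [commutatorElement_def] at this
    convert this using 1
    group
  have hd : charDegree ψ.1 = 1 := irr_degree_one_of_comm hcomm ψ.2
  refine ⟨⟨_, isIrr_inflate _ ψ.2⟩, ?_, ?_⟩
  · show charDegree (ψ.1 ∘ QuotientGroup.mk' _) = 1
    rw [charDegree_comp_mk, hd]
  · show ψ.1 (QuotientGroup.mk' _ w) ≠ 1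
    rw [← linear_one (isCharacter_of_irr ψ.2) hd]
    exact hψ

end

section

variable {G : Type u} [Group G] [Finite G]

/-- A `p`-group with exactly one nonlinear irreducible character is extraspecial of order a power
of two. -/
theorem extraspecial_of_unique_nonlinear {p : ℕ} [hp : Fact p.Prime] (hG : IsPGroup p G)
    (χ : IrrCharacter G) (hχ : charDegree χ.1 ≠ 1)
    (hu : ∀ ψ : IrrCharacter G, charDegree ψ.1 ≠ 1 → ψ = χ) :
    p = 2 ∧ IsExtraspecial 2 G := by
  classical
  haveI := Fintype.ofFinite (IrrCharacter G)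
  have hχ1 : χ.1 1 = (charDegree χ.1 : ℂ) := one_eq_charDegree (isCharacter_of_irr χ.2)
  have hd0 : (charDegree χ.1 : ℂ) ≠ 0 := Nat.cast_ne_zero.2 (irr_charDegree_pos χ.2).ne'
  have hlin : ∀ ψ : IrrCharacter G, ψ ≠ χ → charDegree ψ.1 = 1 := fun ψ h => by
    by_contra h'
    exact h (hu ψ h')
  have hneg : ∀ z, z ∈ commutator G → z ∈ Subgroup.center G → z ≠ 1 →
      χ.1 z = -(charDegree χ.1 : ℂ) := by
    intro z hzc hzZ hz1
    have h1 := column_orthogonality_of_not_isConj (G := G) (g := z) (h := 1)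
      (by rw [isConj_comm, isConj_one_right]; exact hz1)
    rw [← Finset.add_sum_erase _ _ (Finset.mem_univ χ)] at h1
    have h2 : ∑ ψ ∈ Finset.univ.erase χ, ψ.1 z * conj (ψ.1 1) =
        ((Finset.univ.erase χ).card : ℂ) := by
      rw [Finset.card_eq_sum_ones]
      push_cast
      refine Finset.sum_congr rfl fun ψ hψ => ?_
      have hψ1 := hlin ψ (Finset.ne_of_mem_erase hψ)
      rw [H23.linear_commutator (isCharacter_of_irr ψ.2) hψ1 hzc,
        linear_one (isCharacter_of_irr ψ.2) hψ1]
      simp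
    rw [h2, hχ1] at h1
    simp only [Complex.conj_natCast] at h1
    set L := (Finset.univ.erase χ).card with hL
    set D := charDegree χ.1 with hD
    have hnorm : ‖χ.1 z‖ = (D : ℝ) := irr_norm_central χ.2 hzZ
    have h3 : χ.1 z * (D : ℂ) = -(L : ℂ) := by
      linear_combination h1
    have h4 : (D : ℝ) * D = L := by
      have := congrArg norm h3
      rw [norm_mul, hnorm, norm_neg] at this
      simpa using this
    have h5 : ((L : ℕ) : ℂ) = (D : ℂ) * D := by
      have h6 : (L : ℝ) = D * D := h4.symm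
      exact_mod_cast h6
    rw [h5] at h3
    apply mul_right_cancel₀ hd0
    rw [h3]
    ring
  have hmul : ∀ z z', z ∈ commutator G → z ∈ Subgroup.center G → z ≠ 1 →
      z' ∈ commutator G → z' ∈ Subgroup.center G → z' ≠ 1 → z * z' = 1 := by
    intro z z' h1 h2 h3 h4 h5 h6
    by_contra h7
    have h8 := irr_central_mul χ.2 h2 z'
    rw [hneg z h1 h2 h3, hneg z' h4 h5 h6,
      hneg (z * z') (mul_mem h1 h4) (mul_mem h2 h5) h7] at h8
    have h9 : (charDegree χ.1 : ℂ) * charDegree χ.1 = 0 := by
      linear_combination (-1 / 2 : ℂ) * h8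
    exact hd0 (mul_self_eq_zero.1 h9)
  have hne : commutator G ≠ ⊥ := by
    intro h
    apply hχ
    apply degree_one_of_commutator_ker χ.2
    intro x hx
    rw [h] at hx
    rw [(Subgroup.mem_bot.1 hx)]
  have hinf := H09.normal_inf_center_ne_bot hG (commutator G) hne
  obtain ⟨z, hz1⟩ := (Subgroup.ne_bot_iff_exists_ne_one.1 hinf)
  have hzc : (z : G) ∈ commutator G := z.2.1
  have hzZ : (z : G) ∈ Subgroup.center G := z.2.2
  have hz1' : (z : G) ≠ 1 := fun h => hz1 (Subtype.ext h)
  have hzz : (z : G) * z = 1 := hmul _ _ hzc hzZ hz1' hzc hzZ hz1'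
  have hall : ∀ x, x ∈ commutator G → x ∈ Subgroup.center G → x = 1 ∨ x = z := by
    intro x h1 h2
    by_cases hx : x = 1
    · exact Or.inl hx
    · right
      have h3 := hmul _ _ h1 h2 hx hzc hzZ hz1'
      calc x = x * (z * z) := by rw [hzz, mul_one]
        _ = x * z * z := by group
        _ = z := by rw [h3, one_mul]
  have hp2 : p = 2 := by
    obtain ⟨k, hk⟩ := hG z
    have h1 : orderOf (z : G) = 2 := orderOf_eq_prime (by rw [sq]; exact hzz) hz1'
    have h2 : orderOf (z : G) ∣ p ^ k := orderOf_dvd_of_pow_eq_one hk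
    rw [h1] at h2
    have h3 := Nat.Prime.dvd_of_dvd_pow Nat.prime_two h2
    exact ((Nat.prime_dvd_prime_iff_eq Nat.prime_two hp.out).1 h3).symm
  subst hp2
  refine ⟨rfl, ?_⟩
  -- the commutator subgroup is central
  have hcz : commutator G ≤ Subgroup.center G := by
    by_contra hcon
    have h1 : ¬ commutator G ≤ commutator G ⊓ Subgroup.center G := fun h =>
      hcon (h.trans inf_le_right)
    obtain ⟨β, hβ, hker⟩ := exists_nonlinear_of_not_le _ h1
    have h2 := hu β hβ
    subst h2
    have h3 := hker z z.2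
    rw [hneg z hzc hzZ hz1', hχ1] at h3
    apply hd0
    linear_combination (-1 / 2 : ℂ) * h3
  have hzc' : Subgroup.center G ≤ commutator G := by
    intro w hw
    by_contra hw'
    obtain ⟨l, hl1, hl⟩ := exists_linear_ne hw'
    have h1 : IsIrrCharacter G (fun t => l.1 t * χ.1 t) :=
      isIrr_linear_mul χ.2 (isCharacter_of_irr l.2) hl1
    have h2 : charDegree (fun t => l.1 t * χ.1 t) = charDegree χ.1 := by
      have h3 := one_eq_charDegree (isCharacter_of_irr h1)
      have h4 : (charDegree (fun t => l.1 t * χ.1 t) : ℂ) = charDegree χ.1 := by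
        rw [← h3, linear_one (isCharacter_of_irr l.2) hl1, one_mul, hχ1]
      exact_mod_cast h4
    have h3 := hu ⟨_, h1⟩ (by rw [h2]; exact hχ)
    have h4 : l.1 w * χ.1 w = χ.1 w := congrFun (congrArg Subtype.val h3) w
    have h5 : χ.1 w ≠ 0 := by
      intro h0
      have := irr_norm_central χ.2 hw
      rw [h0, norm_zero] at this
      have h6 : (charDegree χ.1 : ℝ) = 0 := this.symm
      exact hd0 (by exact_mod_cast h6)
    exact hl (mul_right_cancel₀ h5 (by rw [h4, one_mul]))
  have hcen : ∀ x, x ∈ Subgroup.center G ↔ x = 1 ∨ x = z := by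
    intro x
    constructor
    · intro hx
      exact hall x (hzc' hx) hx
    · rintro (rfl | rfl)
      · exact one_mem _
      · exact hzZ
  have hcard : Nat.card (Subgroup.center G) = 2 := by
    rw [Nat.card_eq_two_iff' (1 : Subgroup.center G)]
    refine ⟨⟨z, hzZ⟩, fun h => hz1' (congrArg Subtype.val h), ?_⟩
    rintro ⟨y, hy⟩ hy1
    apply Subtype.ext
    rcases (hcen y).1 hy with h | h
    · exact absurd (Subtype.ext h) hy1
    · exact h
  have hcm : ∀ x y : G, x * y * x⁻¹ * y⁻¹ ∈ Subgroup.center G := by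
    intro x y
    apply hcz
    rw [commutator_def]
    exact Subgroup.commutator_mem_commutator (Subgroup.mem_top x) (Subgroup.mem_top y)
  refine H18.isExtraspecial_of hG hcard ?_ hcm ?_
  · intro x
    rw [Subgroup.mem_center_iff]
    intro y
    have h1 := hcm x y
    have h2 := Subgroup.mem_center_iff.1 h1
    set c := x * y * x⁻¹ * y⁻¹ with hc
    have hxy : x * y = c * (y * x) := by rw [hc]; group
    have hcc : c * c = 1 := by
      rcases (hcen c).1 h1 with h | h
      · rw [h, one_mul]
      · rw [h]; exact hzz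
    have h3 : x * c = c * x := h2 x
    calc y * x ^ 2 = (c * c) * (y * x ^ 2) := by rw [hcc, one_mul]
      _ = c * (c * (y * x)) * x := by simp only [sq]; group
      _ = c * (x * y) * x := by rw [← hxy]
      _ = (c * x) * (y * x) := by group
      _ = x * (c * (y * x)) := by rw [← h3]; group
      _ = x * (x * y) := by rw [← hxy]
      _ = x ^ 2 * y := by rw [sq]; group
  · by_contra hcon
    push Not at hcon
    apply hne
    rw [eq_bot_iff, commutator_def, Subgroup.commutator_le]
    intro a _ b _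
    rw [commutatorElement_def, hcon a b]
    exact one_mem _

/-- The converse: an extraspecial `2`-group has exactly one irreducible character of even degree. -/
theorem unique_of_extraspecial (hE : IsExtraspecial 2 G) :
    Nat.card {χ : IrrCharacter G // 2 ∣ charDegree χ.1} = 1 := by
  classical
  haveI := Fintype.ofFinite G
  haveI := Fintype.ofFinite (IrrCharacter G)
  obtain ⟨z, hz1, hz2, hzc, hsq, hab, hcen⟩ := H13.extraspecial_two_setup hE
  have hcomm : commutator G = Subgroup.center G := hE.1.2.2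
  have hzZ : z ∈ Subgroup.center G := (hcen z).2 (Or.inr rfl)
  have hzz : z * z = 1 := by rw [← sq]; exact hz2
  -- values of nonlinear characters
  have key : ∀ χ : IrrCharacter G, charDegree χ.1 ≠ 1 →
      χ.1 z = -(charDegree χ.1 : ℂ) ∧ (∀ g, g ≠ 1 → g ≠ z → χ.1 g = 0) := by
    intro χ hχ
    have hχ1 : χ.1 1 = (charDegree χ.1 : ℂ) := one_eq_charDegree (isCharacter_of_irr χ.2)
    have hd0 : (charDegree χ.1 : ℂ) ≠ 0 := Nat.cast_ne_zero.2 (irr_charDegree_pos χ.2).ne'
    have h1 := irr_central_mul χ.2 hzZ z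
    rw [hzz, hχ1] at h1
    have h2 : (χ.1 z - charDegree χ.1) * (χ.1 z + charDegree χ.1) = 0 := by
      linear_combination -h1
    have h3 : χ.1 z = -(charDegree χ.1 : ℂ) := by
      rcases mul_eq_zero.1 h2 with h | h
      · exfalso
        apply hχ
        apply degree_one_of_commutator_ker χ.2
        intro x hx
        rw [hcomm] at hx
        rcases (hcen x).1 hx with rfl | rfl
        · rfl
        · rw [hχ1]
          linear_combination h
      · linear_combination h
    refine ⟨h3, fun g hg1 hgz => ?_⟩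
    have hgc : g ∉ Subgroup.center G := by
      rw [hcen]
      push Not
      exact ⟨hg1, hgz⟩
    rw [Subgroup.mem_center_iff] at hgc
    push Not at hgc
    obtain ⟨h, hh⟩ := hgc
    have h4 : g * h = z * (h * g) := by
      rcases hab g h with h5 | h5
      · exact absurd h5.symm hh
      · exact h5
    have h6 : h * g * h⁻¹ = z * g := by
      have : z * g * h = z * (z * (h * g)) := by rw [mul_assoc, h4]
      calc h * g * h⁻¹ = (z * z) * (h * g) * h⁻¹ := by rw [hzz, one_mul]
        _ = z * (z * (h * g)) * h⁻¹ := by group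
        _ = z * g * h * h⁻¹ := by rw [this]
        _ = z * g := by group
    have h7 := irr_central_mul χ.2 hzZ g
    rw [← h6, isCharacter_conj (isCharacter_of_irr χ.2), h3] at h7
    have h8 : 2 * (charDegree χ.1 : ℂ) * χ.1 g = 0 := by
      linear_combination h7
    exact (mul_eq_zero.1 h8).resolve_left (mul_ne_zero two_ne_zero hd0)
  have hnorm : ∀ χ : IrrCharacter G, charDegree χ.1 ≠ 1 →
      2 * (charDegree χ.1) ^ 2 = Nat.card G := by
    intro χ hχ
    obtain ⟨h1, h2⟩ := key χ hχ
    have hχ1 : χ.1 1 = (charDegree χ.1 : ℂ) := one_eq_charDegree (isCharacter_of_irr χ.2)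
    have h3 := classInner_irr_self χ.2
    simp only [classInner] at h3
    rw [Fintype.sum_eq_add 1 z hz1.symm (by
      rintro x ⟨hx1, hx2⟩
      rw [h2 x hx1 hx2, zero_mul]), h1, hχ1] at h3
    have hc : (Nat.card G : ℂ) ≠ 0 := Nat.cast_ne_zero.2 Nat.card_pos.ne'
    simp only [map_neg, Complex.conj_natCast] at h3
    have h4 : (2 * (charDegree χ.1) ^ 2 : ℂ) = Nat.card G := by
      field_simp at h3
      linear_combination h3
    exact_mod_cast h4
  have huniq : ∀ χ ψ : IrrCharacter G, charDegree χ.1 ≠ 1 → charDegree ψ.1 ≠ 1 → χ = ψ := by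
    intro χ ψ hχ hψ
    have h1 : charDegree χ.1 = charDegree ψ.1 := by
      have h2 := (hnorm χ hχ).trans (hnorm ψ hψ).symm
      have h3 : (charDegree χ.1) ^ 2 = (charDegree ψ.1) ^ 2 := by omega
      exact Nat.pow_left_injective (n := 2) (by norm_num) h3
    apply Subtype.ext
    funext g
    by_cases hg1 : g = 1
    · subst hg1
      rw [one_eq_charDegree (isCharacter_of_irr χ.2), one_eq_charDegree (isCharacter_of_irr ψ.2), h1]
    by_cases hgz : g = z
    · subst hgz
      rw [(key χ hχ).1, (key ψ hψ).1, h1]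
    · rw [(key χ hχ).2 g hg1 hgz, (key ψ hψ).2 g hg1 hgz]
  have hexi : ∃ χ : IrrCharacter G, charDegree χ.1 ≠ 1 := by
    by_contra hcon
    push Not at hcon
    have h1 := comm_of_degrees_one hcon
    apply hz1
    have h2 : z ∈ commutator G := by rw [hcomm]; exact hzZ
    have h3 : commutator G = ⊥ := by
      rw [eq_bot_iff, commutator_def, Subgroup.commutator_le]
      intro a _ b _
      rw [commutatorElement_def, h1 a b]
      simp
    rw [h3] at h2
    exact Subgroup.mem_bot.1 h2
  obtain ⟨χ₀, hχ₀⟩ := hexi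
  have hiff : ∀ χ : IrrCharacter G, 2 ∣ charDegree χ.1 ↔ charDegree χ.1 ≠ 1 := by
    intro χ
    constructor
    · intro h h1
      rw [h1] at h
      omega
    · intro h
      have h1 := charDegree_dvd_card χ
      obtain ⟨k, hk⟩ := (IsPGroup.iff_card.1 hE.1.1)
      rw [hk] at h1
      obtain ⟨j, -, hj⟩ := (Nat.dvd_prime_pow Nat.prime_two).1 h1
      rw [hj] at h ⊢
      rcases j with _ | j
      · simp at h
      · exact Dvd.intro_left (2 ^ j) (by rw [pow_succ])
  rw [Nat.card_eq_one_iff_unique]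
  refine ⟨⟨?_⟩, ⟨⟨χ₀, (hiff χ₀).2 hχ₀⟩⟩⟩
  rintro ⟨a, ha⟩ ⟨b, hb⟩
  exact Subtype.ext (huniq a b ((hiff a).1 ha) ((hiff b).1 hb))

theorem norm_product_of_complement {K P : Subgroup G} [K.Normal]
    (hcompl : Subgroup.IsComplement' K P) {α τ : G → ℂ}
    (hα : IsIrrCharacter G α) (hτ : IsIrrCharacter G τ)
    (hαK : ∀ n ∈ K, ∀ x, α (n * x) = α x) (hτK : ∀ n ∈ K, ∀ x ∈ P, τ (n * x) = τ n) :
    classInner (α * τ) (α * τ) = 1 := by
  classical
  have hG0 : (Nat.card G : ℂ) ≠ 0 := Nat.cast_ne_zero.2 Nat.card_pos.ne'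
  have h1 : (Nat.card K : ℂ) * ∑ x : P, α x * conj (α x) = Nat.card G := by
    have h2 := classInner_irr_self hα
    simp only [classInner] at h2
    rw [H23.sum_complement K P hcompl] at h2
    simp only [hαK _ (Subtype.mem _)] at h2
    simp only [Finset.sum_const, Finset.card_univ, nsmul_eq_mul, ← Nat.card_eq_fintype_card] at h2
    field_simp at h2
    exact h2
  have h3 : (Nat.card P : ℂ) * ∑ n : K, τ n * conj (τ n) = Nat.card G := by
    have h2 := classInner_irr_self hτ
    simp only [classInner] at h2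
    rw [H23.sum_complement K P hcompl] at h2
    have h4 : ∀ (n : K) (x : P), τ ((n : G) * x) * conj (τ ((n : G) * x)) = τ n * conj (τ n) := by
      intro n x
      rw [hτK _ n.2 _ x.2]
    simp only [h4] at h2
    simp only [Finset.sum_const, Finset.card_univ, nsmul_eq_mul, ← Nat.card_eq_fintype_card] at h2
    rw [← Finset.mul_sum] at h2
    field_simp at h2
    exact h2
  have h5 : (Nat.card K : ℂ) * Nat.card P = Nat.card G := by
    have := Subgroup.IsComplement'.card_mul_card hcompl
    exact_mod_cast this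
  have h6 : ∑ g : G, (α * τ) g * conj ((α * τ) g) =
      (∑ x : P, α x * conj (α x)) * ∑ n : K, τ n * conj (τ n) := by
    rw [H23.sum_complement K P hcompl, Finset.sum_mul_sum, Finset.sum_comm]
    refine Finset.sum_congr rfl fun x _ => Finset.sum_congr rfl fun n _ => ?_
    simp only [Pi.mul_apply, map_mul]
    rw [hαK _ n.2, hτK _ n.2 _ x.2]
    ring
  simp only [classInner]
  rw [h6]
  set A := ∑ x : P, α x * conj (α x)
  set B := ∑ n : K, τ n * conj (τ n)
  have h7 : (Nat.card G : ℂ) * (A * B) = Nat.card G * Nat.card G := by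
    calc (Nat.card G : ℂ) * (A * B) = ((Nat.card K : ℂ) * Nat.card P) * (A * B) := by rw [h5]
      _ = ((Nat.card K : ℂ) * A) * ((Nat.card P : ℂ) * B) := by ring
      _ = _ := by rw [h1, h3]
  have h8 : A * B = Nat.card G := mul_left_cancel₀ hG0 h7
  rw [h8]
  field_simp

/-- A nilpotent group with a unique irreducible character of degree divisible by `p` is a
`p`-group. -/
theorem isPGroup_of_unique_nilpotent [hnil : Group.IsNilpotent G] {p : ℕ} [hp : Fact p.Prime]
    (χ : IrrCharacter G) (hχ : p ∣ charDegree χ.1)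
    (hu : ∀ ψ : IrrCharacter G, p ∣ charDegree ψ.1 → ψ = χ) : IsPGroup p G := by
  classical
  have hpp := hp.out
  have hsyl : ∀ (H : Type u) [Group H] [Finite H] [Group.IsNilpotent H] (q : ℕ) [Fact q.Prime]
      (S : Sylow q H), (S : Subgroup H).Normal := by
    intro H _ _ hH q _ S
    have h := (Group.isNilpotent_of_finite_tfae (G := H)).out 0 3
    exact h.1 hH q inferInstance S
  let K := pPrimeCore p G
  have hKc : (Nat.card K).Coprime p := H06.coprime_card_pPrimeCore p
  haveI hKn : K.Normal := pPrimeCore_normal p G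
  have hQ : IsPGroup p (G ⧸ K) := by
    rw [IsPGroup.iff_card]
    refine ⟨_, Nat.eq_prime_pow_of_unique_prime_dvd (Nat.card_pos.ne') ?_⟩
    intro q hq hqd
    by_contra hqp
    haveI : Fact q.Prime := ⟨hq⟩
    let S : Sylow q (G ⧸ K) := Classical.arbitrary _
    have hSn := hsyl _ q S
    have hSc : (Nat.card (S : Subgroup (G ⧸ K))).Coprime p := by
      obtain ⟨m, hm⟩ := IsPGroup.iff_card.1 S.2
      rw [hm]
      exact Nat.Coprime.pow_left _ ((Nat.coprime_primes hq hpp).2 hqp)
    have h1 : (S : Subgroup (G ⧸ K)) ≤ pPrimeCore p (G ⧸ K) := le_sSup ⟨hSn, hSc⟩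
    rw [H08.pPrimeCore_quotient_eq_bot] at h1
    exact S.ne_bot_of_dvd_card hqd (le_bot_iff.1 h1)
  let P : Sylow p G := Classical.arbitrary _
  haveI hPn : (P : Subgroup G).Normal := hsyl _ p P
  have hdisj : ∀ x ∈ K, x ∈ (P : Subgroup G) → x = 1 := by
    intro x hxN hxP
    obtain ⟨k, hk⟩ := P.2 ⟨x, hxP⟩
    have h1 : x ^ p ^ k = 1 := by
      have := congrArg Subtype.val hk
      simpa using this
    have h2 : orderOf x ∣ p ^ k := orderOf_dvd_of_pow_eq_one h1
    have h3 : orderOf x ∣ Nat.card K := Subgroup.orderOf_dvd_natCard K hxN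
    have h4 : (p ^ k).Coprime (Nat.card K) := Nat.Coprime.pow_left _ hKc.symm
    have h5 : orderOf x = 1 := Nat.eq_one_of_dvd_coprimes h4 h2 h3
    exact orderOf_eq_one_iff.1 h5
  have hcommKP : ∀ x ∈ (P : Subgroup G), ∀ y ∈ K, x * y = y * x := by
    intro x hx y hy
    have h1 : x * y * x⁻¹ * y⁻¹ ∈ K :=
      mul_mem (hKn.conj_mem y hy x) (inv_mem hy)
    have h2 : x * y * x⁻¹ * y⁻¹ ∈ (P : Subgroup G) := by
      have := hPn.conj_mem x⁻¹ (inv_mem hx) y
      have h3 : x * (y * x⁻¹ * y⁻¹) ∈ (P : Subgroup G) := mul_mem hx this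
      convert h3 using 1
      group
    have h3 := hdisj _ h1 h2
    calc x * y = x * y * x⁻¹ * y⁻¹ * (y * x) := by group
      _ = y * x := by rw [h3, one_mul]
  have hcardP : Nat.card K * Nat.card (P : Subgroup G) = Nat.card G := by
    obtain ⟨m, hm⟩ := IsPGroup.iff_card.1 hQ
    obtain ⟨a, ha⟩ := IsPGroup.iff_card.1 P.2
    have h1 : Nat.card K * K.index = Nat.card G := K.card_mul_index
    have h2 : Nat.card (P : Subgroup G) * (P : Subgroup G).index = Nat.card G :=
      (P : Subgroup G).card_mul_index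
    have h3 : K.index = p ^ m := hm
    have h4 : p.Coprime ((P : Subgroup G).index) :=
      (Nat.Prime.coprime_iff_not_dvd hpp).2 P.not_dvd_index
    have h5 : p ^ a ∣ p ^ m := by
      have h6 : p ^ a ∣ Nat.card K * p ^ m := by
        rw [← h3, h1, ← h2, ha]
        exact Dvd.intro _ rfl
      exact (Nat.Coprime.pow_left _ hKc.symm).dvd_of_dvd_mul_left h6
    have h7 : p ^ m ∣ p ^ a := by
      have h6 : p ^ m ∣ p ^ a * (P : Subgroup G).index := by
        rw [← ha, h2, ← h1, h3]
        exact Dvd.intro_left _ rfl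
      exact (Nat.Coprime.pow_left _ h4).dvd_of_dvd_mul_right h6
    have h8 : p ^ a = p ^ m := Nat.dvd_antisymm h5 h7
    rw [ha, h8, ← h3, h1]
  have hcompl : Subgroup.IsComplement' K (P : Subgroup G) := by
    apply Subgroup.isComplement'_of_coprime hcardP
    obtain ⟨a, ha⟩ := IsPGroup.iff_card.1 P.2
    rw [ha]
    exact Nat.Coprime.pow_right _ hKc
  -- a nonlinear character with `K` in its kernel
  have hcK : ¬ commutator G ≤ K := by
    intro hc
    have hab : ∀ a ∈ (P : Subgroup G), ∀ b ∈ (P : Subgroup G), a * b = b * a := by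
      intro a ha b hb
      have h1 : a * b * a⁻¹ * b⁻¹ ∈ K := by
        apply hc
        rw [commutator_def]
        exact Subgroup.commutator_mem_commutator (Subgroup.mem_top a) (Subgroup.mem_top b)
      have h2 : a * b * a⁻¹ * b⁻¹ ∈ (P : Subgroup G) :=
        mul_mem (mul_mem (mul_mem ha hb) (inv_mem ha)) (inv_mem hb)
      have h3 := hdisj _ h1 h2
      calc a * b = a * b * a⁻¹ * b⁻¹ * (b * a) := by group
        _ = b * a := by rw [h3, one_mul]
    exact degrees_of_normal_abelian P hPn hab χ hχ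
  obtain ⟨β, hβ, hβK⟩ := exists_nonlinear_of_not_le K hcK
  have hβp : p ∣ charDegree β.1 := by
    obtain ⟨β', h1, h2⟩ := exists_descend K β.2 hβK
    have h3 : charDegree β' = charDegree β.1 := by
      rw [← h2, charDegree_comp_mk]
    have h4 := charDegree_dvd_card ⟨β', h1⟩
    obtain ⟨m, hm⟩ := IsPGroup.iff_card.1 hQ
    rw [hm] at h4
    obtain ⟨j, -, hj⟩ := (Nat.dvd_prime_pow hpp).1 h4
    change charDegree β' = _ at hj
    rw [← h3, hj]
    rw [← h3, hj] at hβ
    rcases j with _ | j
    · simp at hβ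
    · exact Dvd.intro_left (p ^ j) (by rw [pow_succ])
  have hβχ := hu β hβp
  subst hβχ
  have hKbot : K = ⊥ := by
    by_contra hne
    obtain ⟨y, hy1⟩ := Subgroup.ne_bot_iff_exists_ne_one.1 hne
    have hy1' : (y : G) ≠ 1 := fun h => hy1 (Subtype.ext h)
    have hyP : ((y : G) : G ⧸ (P : Subgroup G)) ≠ 1 := by
      rw [Ne, QuotientGroup.eq_one_iff]
      exact fun h => hy1' (hdisj _ y.2 h)
    obtain ⟨ψ, hψ⟩ := exists_irr_ne_of_ne_one hyP
    let τ : G → ℂ := ψ.1 ∘ QuotientGroup.mk' (P : Subgroup G)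
    have hτ : IsIrrCharacter G τ := isIrr_inflate _ ψ.2
    have hτP : ∀ x ∈ (P : Subgroup G), τ x = τ 1 := by
      intro x hx
      show ψ.1 (QuotientGroup.mk' _ x) = ψ.1 (QuotientGroup.mk' _ 1)
      have h3 : QuotientGroup.mk' (P : Subgroup G) x = 1 := (QuotientGroup.eq_one_iff x).2 hx
      rw [map_one, h3]
    have hτy : τ y ≠ τ 1 := by
      show ψ.1 (QuotientGroup.mk' _ (y : G)) ≠ ψ.1 (QuotientGroup.mk' _ 1)
      rw [map_one]
      exact hψ
    have hαc := isCharacter_of_irr β.2
    have hτc := isCharacter_of_irr hτ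
    have hαK : ∀ n ∈ K, ∀ x, β.1 (n * x) = β.1 x := fun n hn x =>
      character_mul_of_mem_ker hαc (hβK n hn) x
    have hτK : ∀ n ∈ K, ∀ x ∈ (P : Subgroup G), τ (n * x) = τ n := fun n hn x hx => by
      rw [← hcommKP x hx n hn]
      exact character_mul_of_mem_ker hτc (hτP x hx) n
    have hn := norm_product_of_complement hcompl β.2 hτ hαK hτK
    have hmulc := isCharacter_mul hαc hτc
    have hirr : IsIrrCharacter G (β.1 * τ) := isIrrCharacter_of_inner_self_eq_one hmulc hn
    have hdeg : p ∣ charDegree (β.1 * τ) := by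
      have h1 := one_eq_charDegree hmulc
      have h2 : charDegree (β.1 * τ) = charDegree β.1 * charDegree τ := by
        have h3 : ((charDegree (β.1 * τ) : ℕ) : ℂ) = charDegree β.1 * charDegree τ := by
          rw [← h1, Pi.mul_apply, one_eq_charDegree hαc, one_eq_charDegree hτc]
        exact_mod_cast h3
      rw [h2]
      exact Dvd.dvd.mul_right hβp _
    have h3 := hu ⟨_, hirr⟩ hdeg
    have h4 : β.1 * τ = β.1 := congrArg Subtype.val h3
    have h5 : ∀ n ∈ K, τ n = 1 := by
      intro n hn
      have h6 := congrFun h4 n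
      rw [Pi.mul_apply] at h6
      have h7 : β.1 n ≠ 0 := by
        rw [hβK n hn, one_eq_charDegree hαc]
        exact Nat.cast_ne_zero.2 (irr_charDegree_pos β.2).ne'
      exact mul_left_cancel₀ h7 (by rw [h6, mul_one])
    apply hτy
    rw [h5 y y.2, h5 1 (one_mem _)]
  rw [IsPGroup.iff_card]
  obtain ⟨m, hm⟩ := IsPGroup.iff_card.1 hQ
  refine ⟨m, ?_⟩
  rw [← hm]
  have h1 : K.index = Nat.card G := by rw [hKbot, Subgroup.index_bot]
  exact h1.symm

end

end Cfsg.Agent.H22
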