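import Cfsg.Agent.Lib.H23.FS
import Cfsg.Agent.Lib.H22.PLengthOne
import Cfsg.Agent.Lib.H06.CharNormal

/-!
# Frobenius–Schur indicators of constituents of permutation characters
-/

set_option autoImplicit false
set_option linter.unusedSectionVars false
set_option linter.style.haveILetI false
set_option linter.unusedSimpArgs false

namespace Cfsg.Agent.H22

open Cfsg Cfsg.Agent.H21 Cfsg.Agent.H23
open scoped ComplexConjugate

universe u

section Kernel

variable {G : Type u} [Group G] [Fintype G]

/-- A constituent of a character contains in its kernel every kernel element of the character. -/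
theorem constituent_ker {X : G → ℂ} (hX : IsCharacter G X) {y : G} (hy : X y = X 1)
    (θ : IrrCharacter G) (hθ : classInner X θ.1 ≠ 0) : θ.1 y = θ.1 1 := by
  classical
  haveI := Fintype.ofFinite (IrrCharacter G)
  obtain ⟨m, hm, hin⟩ := isCharacter_decomp hX
  have hval : ∀ g, X g = ∑ ψ : IrrCharacter G, (m ψ : ℂ) * ψ.1 g := by
    intro g
    rw [hm]
    simp [Finset.sum_apply]
  let s := Finset.univ.filter (fun ψ : IrrCharacter G => m ψ ≠ 0)
  have hsum : ∑ ψ ∈ s, (((m ψ : ℕ) : ℝ) : ℂ) * ψ.1 y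
      = ∑ ψ ∈ s, (((m ψ : ℕ) : ℝ) : ℂ) * (((charDegree ψ.1 : ℕ) : ℝ) : ℂ) := by
    have h1 : ∀ g, ∑ ψ ∈ s, (((m ψ : ℕ) : ℝ) : ℂ) * ψ.1 g = X g := by
      intro g
      rw [hval g, Finset.sum_filter]
      refine Finset.sum_congr rfl fun ψ _ => ?_
      by_cases h : m ψ = 0
      · simp [h]
      · rw [if_pos h]
        simp
    rw [h1 y, hy, ← h1 1]
    refine Finset.sum_congr rfl fun ψ _ => ?_
    rw [one_eq_charDegree (isCharacter_of_irr ψ.2)]
    simp
  have h2 := eq_of_sum_eq_of_norm_le s (fun ψ => ((m ψ : ℕ) : ℝ))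
    (fun ψ : IrrCharacter G => ((charDegree ψ.1 : ℕ) : ℝ)) (fun ψ => ψ.1 y)
    (fun ψ hψ => by
      have := (Finset.mem_filter.1 hψ).2
      exact_mod_cast Nat.pos_of_ne_zero this)
    (fun ψ _ => isCharacter_norm_le (isCharacter_of_irr ψ.2) y) hsum
  have hθm : m θ ≠ 0 := by
    intro h
    apply hθ
    rw [hin θ, h]
    simp
  rw [h2 θ (Finset.mem_filter.2 ⟨Finset.mem_univ _, hθm⟩),
    one_eq_charDegree (isCharacter_of_irr θ.2)]
  simp

end Kernel

section Perm

variable {G : Type u} [Group G] [Fintype G] (H : Subgroup G)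

theorem card_sq_mem_ge [DecidablePred (· ∈ H)] : Nat.card H ≤
    (Finset.univ.filter (fun g : G => g * g ∈ H)).card := by
  classical
  rw [Nat.card_eq_fintype_card, Fintype.card_subtype]
  apply Finset.card_le_card
  intro g hg
  simp only [Finset.mem_filter, Finset.mem_univ, true_and] at hg ⊢
  exact H.mul_mem hg hg

open scoped Classical in
/-- The key formula: the indicator-weighted sum of the multiplicities of a permutation character. -/
theorem sum_mult_fsInd [Fintype (IrrCharacter G)] :
    ∑ χ : IrrCharacter G, classInner (indFun H (fun _ : H => (1 : ℂ))) χ.1 * fsInd χ.1 =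
      (((Finset.univ.filter (fun g : G => g * g ∈ H)).card : ℕ) : ℂ) / (Nat.card H : ℂ) := by
  set π := indFun H (fun _ : H => (1 : ℂ)) with hπ
  have hcl : IsClassFunction G π := indFun_isClass H _
  have hexp := classFunction_expansion π hcl
  have h1 : ∀ g : G, π (g * g) = ∑ χ : IrrCharacter G, classInner π χ.1 * χ.1 (g * g) := by
    intro g
    conv_lhs => rw [hexp]
    simp [Finset.sum_apply]
  have h2 : ∑ χ : IrrCharacter G, classInner π χ.1 * fsInd χ.1 =
      (Nat.card G : ℂ)⁻¹ * ∑ g : G, π (g * g) := by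
    simp only [fsInd, h1]
    rw [Finset.sum_comm, Finset.mul_sum]
    refine Finset.sum_congr rfl fun χ _ => ?_
    rw [← Finset.mul_sum]
    ring
  rw [h2]
  have hval : ∀ g : G, π (g * g) = (Nat.card H : ℂ)⁻¹ *
      ∑ x : G, (if x⁻¹ * (g * g) * x ∈ H then (1 : ℂ) else 0) := by
    intro g
    rw [hπ]
    simp only [indFun]
    congr 1
    refine Finset.sum_congr rfl fun x _ => ?_
    by_cases h : x⁻¹ * (g * g) * x ∈ H
    · rw [if_pos h]
      have := extendByZero_coe H (fun _ : H => (1 : ℂ)) ⟨_, h⟩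
      exact this
    · rw [if_neg h]
      exact extendByZero_of_not_mem H _ h
  have h3 : ∑ g : G, ∑ x : G, (if x⁻¹ * (g * g) * x ∈ H then (1 : ℂ) else 0) =
      (Nat.card G : ℂ) * (((Finset.univ.filter (fun g : G => g * g ∈ H)).card : ℕ) : ℂ) := by
    rw [Finset.sum_comm]
    have h4 : ∀ x : G, ∑ g : G, (if x⁻¹ * (g * g) * x ∈ H then (1 : ℂ) else 0) =
        (((Finset.univ.filter (fun g : G => g * g ∈ H)).card : ℕ) : ℂ) := by
      intro x
      rw [Finset.card_filter]
      push_cast
      refine Fintype.sum_equiv (MulAut.conj x⁻¹).toEquiv _ _ fun g => ?_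
      have : (MulAut.conj x⁻¹).toEquiv g * (MulAut.conj x⁻¹).toEquiv g = x⁻¹ * (g * g) * x := by
        simp [MulAut.conj_apply]
        group
      rw [this]
    simp only [h4, Finset.sum_const, Finset.card_univ, nsmul_eq_mul]
    rw [Nat.card_eq_fintype_card]
  simp only [hval]
  rw [← Finset.mul_sum, h3]
  have hG : (Nat.card G : ℂ) ≠ 0 := by exact_mod_cast Nat.card_pos.ne'
  have hH : (Nat.card H : ℂ) ≠ 0 := by exact_mod_cast Nat.card_pos.ne'
  field_simp

/-- The multiplicity of the principal character in a permutation character is one. -/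
theorem inner_perm_one :
    classInner (indFun H (fun _ : H => (1 : ℂ))) (oneIrr G).1 = 1 := by
  have h1 := frobenius_reciprocity H (fun _ : H => (1 : ℂ)) (oneIrr G).1
    (isClassFunction_of_isCharacter (isCharacter_of_irr (oneIrr G).2))
  rw [h1]
  show classInner (fun _ : H => (1 : ℂ)) (fun _ : H => (1 : ℂ)) = 1
  simp [classInner, Nat.card_eq_fintype_card]

theorem fsInd_one : fsInd (oneIrr G).1 = 1 := by
  show (Nat.card G : ℂ)⁻¹ * ∑ g : G, (1 : ℂ) = 1
  simp [Nat.card_eq_fintype_card]

/-- Squares in `H` force membership if exactly the principal character is a real constituent of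
indicator one. -/
theorem odd_core_of_unique [Fintype (IrrCharacter G)]
    (h : ∀ χ : IrrCharacter G, classInner (indFun H (fun _ : H => (1 : ℂ))) χ.1 ≠ 0 →
      fsInd χ.1 = 1 → χ = oneIrr G) :
    Odd H.normalCore.index := by
  classical
  set π := indFun H (fun _ : H => (1 : ℂ)) with hπdef
  have hπc : IsCharacter G π := isCharacter_indFun H Cfsg.Agent.H21.isCharacter_one
  obtain ⟨m, -, hin⟩ := isCharacter_decomp hπc
  have hsum := sum_mult_fsInd H
  rw [← hπdef] at hsum
  -- each nonprincipal term has nonpositive real part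
  have hterm : ∀ χ : IrrCharacter G, χ ≠ oneIrr G → (classInner π χ.1 * fsInd χ.1).re ≤ 0 := by
    intro χ hχ
    rw [hin χ]
    by_cases hm : m χ = 0
    · simp [hm]
    · have hne : classInner π χ.1 ≠ 0 := by
        rw [hin χ]
        exact_mod_cast hm
      by_cases hr : ∀ g, conj (χ.1 g) = χ.1 g
      · rcases fsInd_of_real χ hr with h1 | h1
        · exact absurd (h χ hne h1) hχ
        · rw [h1]
          simp
      · rw [fsInd_of_not_real χ hr]
        simp
  have hone : (classInner π (oneIrr G).1 * fsInd (oneIrr G).1).re = 1 := by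
    rw [hπdef, inner_perm_one, fsInd_one]
    simp
  have hle : (∑ χ : IrrCharacter G, classInner π χ.1 * fsInd χ.1).re ≤ 1 := by
    rw [Complex.re_sum, ← Finset.add_sum_erase _ _ (Finset.mem_univ (oneIrr G)), hone]
    have : ∑ χ ∈ Finset.univ.erase (oneIrr G), (classInner π χ.1 * fsInd χ.1).re ≤ 0 :=
      Finset.sum_nonpos fun χ hχ => hterm χ (Finset.ne_of_mem_erase hχ)
    linarith
  rw [hsum] at hle
  have hHpos : (0 : ℝ) < Nat.card H := by exact_mod_cast Nat.card_pos
  have hre : (((((Finset.univ.filter (fun g : G => g * g ∈ H)).card : ℕ) : ℂ)) / (Nat.card H : ℂ)).re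
      = (((Finset.univ.filter (fun g : G => g * g ∈ H)).card : ℕ) : ℝ) / (Nat.card H : ℝ) := by
    rw [show (((Finset.univ.filter (fun g : G => g * g ∈ H)).card : ℕ) : ℂ) / (Nat.card H : ℂ)
      = (((((Finset.univ.filter (fun g : G => g * g ∈ H)).card : ℕ) : ℝ) / (Nat.card H : ℝ) : ℝ) : ℂ) by
        push_cast; rfl]
    exact Complex.ofReal_re _
  rw [hre, div_le_one hHpos] at hle
  have hle' : (Finset.univ.filter (fun g : G => g * g ∈ H)).card ≤ Nat.card H := by exact_mod_cast hle
  -- squares in `H` force membership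
  have hsq : ∀ g : G, g * g ∈ H → g ∈ H := by
    have hsub : Finset.univ.filter (fun g : G => g ∈ H) ⊆ Finset.univ.filter (fun g : G => g * g ∈ H) := by
      intro g hg
      simp only [Finset.mem_filter, Finset.mem_univ, true_and] at hg ⊢
      exact H.mul_mem hg hg
    have hcard : (Finset.univ.filter (fun g : G => g * g ∈ H)).card ≤
        (Finset.univ.filter (fun g : G => g ∈ H)).card := by
      refine hle'.trans (le_of_eq ?_)
      rw [Nat.card_eq_fintype_card, Fintype.card_subtype]
    have heq := Finset.eq_of_subset_of_card_le hsub hcard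
    intro g hg
    have : g ∈ Finset.univ.filter (fun g : G => g * g ∈ H) := by simpa using hg
    rw [← heq] at this
    simpa using this
  -- the core has odd index
  rcases Nat.even_or_odd H.normalCore.index with he | ho
  · exfalso
    have h2 : 2 ∣ Nat.card (G ⧸ H.normalCore) := he.two_dvd
    haveI : Fact (Nat.Prime 2) := ⟨Nat.prime_two⟩
    obtain ⟨q, hq⟩ := exists_prime_orderOf_dvd_card' 2 h2
    obtain ⟨g, rfl⟩ := QuotientGroup.mk_surjective q
    have hg1 : (g : G ⧸ H.normalCore) ≠ 1 := by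
      intro h1
      rw [h1, orderOf_one] at hq
      omega
    have hg2 : g * g ∈ H.normalCore := by
      rw [← QuotientGroup.eq_one_iff]
      have := pow_orderOf_eq_one (g : G ⧸ H.normalCore)
      rw [hq, sq] at this
      exact this
    apply hg1
    rw [QuotientGroup.eq_one_iff]
    show ∀ x : G, x * g * x⁻¹ ∈ H
    intro x
    apply hsq
    have h3 : (x * g * x⁻¹) * (x * g * x⁻¹) = x * (g * g) * x⁻¹ := by group
    rw [h3]
    exact hg2 x
  · exact ho

/-- The converse. -/
theorem unique_of_odd_core [Fintype (IrrCharacter G)] (hodd : Odd H.normalCore.index)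
    (χ : IrrCharacter G) (hχ : classInner (indFun H (fun _ : H => (1 : ℂ))) χ.1 ≠ 0)
    (hfs : fsInd χ.1 = 1) : χ = oneIrr G := by
  classical
  set π := indFun H (fun _ : H => (1 : ℂ)) with hπdef
  have hπc : IsCharacter G π := isCharacter_indFun H Cfsg.Agent.H21.isCharacter_one
  let K : Subgroup G := H.normalCore
  haveI hKn : K.Normal := Subgroup.normalCore_normal H
  have hKH : K ≤ H := Subgroup.normalCore_le H
  have hπK : ∀ k ∈ K, π k = π 1 := by
    intro k hk
    have key : ∀ y ∈ K, π y = (Nat.card H : ℂ)⁻¹ * ∑ x : G, (1 : ℂ) := by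
      intro y hy
      simp only [hπdef, indFun]
      congr 1
      refine Finset.sum_congr rfl fun x _ => ?_
      have h1 : x⁻¹ * y * x ∈ H := by
        apply hKH
        have := hKn.conj_mem y hy x⁻¹
        simpa using this
      exact extendByZero_coe H (fun _ : H => (1 : ℂ)) ⟨_, h1⟩
    rw [key k hk, key 1 K.one_mem]
  have hkχ : ∀ k ∈ K, χ.1 k = χ.1 1 := fun k hk => constituent_ker hπc (hπK k hk) χ hχ
  obtain ⟨χ', hχ', e⟩ := Cfsg.Agent.H21.exists_descend K χ.2 hkχ
  haveI : Fintype (G ⧸ K) := Fintype.ofFinite _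
  haveI : Fintype (IrrCharacter (G ⧸ K)) := Fintype.ofFinite _
  have hχval : ∀ g : G, χ.1 g = χ' (g : G ⧸ K) := fun g => (congrFun e g).symm
  have hcop : (Nat.card (G ⧸ K)).Coprime 2 := by
    have : Odd (Nat.card (G ⧸ K)) := hodd
    exact Nat.Coprime.symm (Nat.coprime_two_left.2 this)
  have hsum1 : ∑ g : G, χ.1 (g * g) = (Nat.card K : ℂ) * ∑ q : G ⧸ K, χ' q := by
    have h1 := H06.sum_quotient_mk K (fun q : G ⧸ K => χ' (q * q))
    have h2 : ∀ g : G, χ.1 (g * g) = χ' ((g : G ⧸ K) * (g : G ⧸ K)) := fun g => hχval (g * g)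
    simp only [h2]
    rw [h1]
    congr 1
    refine Fintype.sum_equiv (powCoprime hcop) _ _ fun q => ?_
    simp [sq]
  by_cases hone : (⟨χ', hχ'⟩ : IrrCharacter (G ⧸ K)) = oneIrr (G ⧸ K)
  · apply Subtype.ext
    funext g
    rw [hχval g]
    have := congrFun (congrArg Subtype.val hone) (g : G ⧸ K)
    exact this
  · exfalso
    have h3 := classInner_irr (⟨χ', hχ'⟩ : IrrCharacter (G ⧸ K)) (oneIrr (G ⧸ K))
    rw [if_neg hone] at h3
    have h4 : ∑ q : G ⧸ K, χ' q = 0 := by
      have hcard : (Nat.card (G ⧸ K) : ℂ) ≠ 0 := by exact_mod_cast Nat.card_pos.ne'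
      simp only [classInner] at h3
      have h5 := (mul_eq_zero.1 h3).resolve_left (inv_ne_zero hcard)
      simpa [oneIrr] using h5
    have h6 : fsInd χ.1 = 0 := by
      simp only [fsInd]
      rw [hsum1, h4]
      simp
    rw [h6] at hfs
    exact zero_ne_one hfs

/-- Exactly one real constituent with indicator one. -/
theorem card_real_constituent_iff :
    Nat.card {χ : IrrCharacter G // classInner (indFun H (fun _ : H => (1 : ℂ))) χ.1 ≠ 0 ∧
      (∀ g : G, conj (χ.1 g) = χ.1 g) ∧ (Nat.card G : ℂ)⁻¹ * ∑ g : G, χ.1 (g * g) = 1} = 1 ↔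
      Odd H.normalCore.index := by
  classical
  haveI := Fintype.ofFinite (IrrCharacter G)
  have hone : classInner (indFun H (fun _ : H => (1 : ℂ))) (oneIrr G).1 ≠ 0 ∧
      (∀ g : G, conj ((oneIrr G).1 g) = (oneIrr G).1 g) ∧
      (Nat.card G : ℂ)⁻¹ * ∑ g : G, (oneIrr G).1 (g * g) = 1 := by
    refine ⟨?_, ?_, fsInd_one⟩
    · rw [inner_perm_one]
      exact one_ne_zero
    · intro g
      show conj (1 : ℂ) = 1
      simp
  constructor
  · intro h
    apply odd_core_of_unique H
    intro χ hχ hfs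
    have hsub := (Nat.card_eq_one_iff_unique.1 h).1
    have hreal : ∀ g, conj (χ.1 g) = χ.1 g := fun g =>
      real_of_fsInd_ne_zero χ (by rw [hfs]; exact one_ne_zero) g
    have h2 := hsub.elim ⟨χ, hχ, hreal, hfs⟩ ⟨oneIrr G, hone⟩
    exact congrArg Subtype.val h2
  · intro hodd
    rw [Nat.card_eq_one_iff_unique]
    refine ⟨⟨?_⟩, ⟨⟨oneIrr G, hone⟩⟩⟩
    rintro ⟨χ, h1, -, h3⟩ ⟨ψ, h4, -, h6⟩
    apply Subtype.ext
    exact (unique_of_odd_core H hodd χ h1 h3).trans (unique_of_odd_core H hodd ψ h4 h6).symm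

end Perm

end Cfsg.Agent.H22
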