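import Cfsg.Agent.Lib.H22.NormalAb
import Cfsg.Agent.Lib.H08.PCoreL
import Cfsg.Agent.Lib.H06.FittingHall

/-!
# `p`-solvable groups: abelian Sylow subgroups and heights in the principal block
-/

set_option autoImplicit false
set_option linter.unusedSectionVars false
set_option linter.style.haveILetI false
set_option linter.unusedSimpArgs false

namespace Cfsg.Agent.H22

open Cfsg Cfsg.Agent.H21 Module
open scoped ComplexConjugate Pointwise

universe u

variable {G : Type u} [Group G] [Finite G] {p : ℕ} [hp : Fact p.Prime] {M : Ideal AlgInt}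

theorem height_principal_eq_zero_iff [hM' : M.IsPrime] (χ : IrrCharacter G) :
    blockHeight p (principalBlock M G) χ.1 = 0 ↔ ¬ p ∣ charDegree χ.1 := by
  have hpp : p.Prime := hp.out
  have h0 : sInf ((fun ψ : IrrCharacter G => (charDegree (ψ : G → ℂ)).factorization p) ''
      principalBlock M G) = 0 := by
    rw [Nat.sInf_eq_zero]
    left
    refine ⟨oneIrr G, oneIrr_mem_principal, ?_⟩
    have h1 : charDegree ((oneIrr G : IrrCharacter G) : G → ℂ) = 1 := by
      show charDegree (fun _ : G => (1 : ℂ)) = 1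
      simp [charDegree]
    simp only [h1, Nat.factorization_one, Finsupp.coe_zero, Pi.zero_apply]
  unfold blockHeight
  rw [h0, Nat.sub_zero]
  have hne : charDegree χ.1 ≠ 0 := (irr_charDegree_pos χ.2).ne'
  rw [Nat.factorization_eq_zero_iff]
  constructor
  · rintro (h | h | h)
    · exact absurd hpp h
    · exact h
    · exact absurd h hne
  · intro h
    exact Or.inr (Or.inl h)

/-- Sylow subgroups abelian in `p`-solvable groups in terms of the principal block. -/
theorem abelian_iff_degrees_principal (hMp : IsPModular p M) (hs : IsPSolvable p G) (P : Sylow p G) :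
    (∀ a ∈ (P : Subgroup G), ∀ b ∈ (P : Subgroup G), a * b = b * a) ↔
      ∀ χ ∈ principalBlock M G, ¬ p ∣ charDegree χ.1 := by
  classical
  have hpp : p.Prime := hp.out
  haveI : M.IsPrime := hMp.2.1.isPrime
  let O : Subgroup G := pPrimeCore p G
  haveI hOn : O.Normal := pPrimeCore_normal p G
  have hOc : (Nat.card O).Coprime p := H06.coprime_card_pPrimeCore p
  let f := QuotientGroup.mk' O
  have hf : Function.Surjective f := QuotientGroup.mk'_surjective O
  have hQ : pPrimeCore p (G ⧸ O) = ⊥ := H08.pPrimeCore_quotient_eq_bot p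
  have hS : IsPSolvable p (G ⧸ O) := H03.isPSolvable_of_surjective hf hs
  have hC : Subgroup.centralizer (pCore p (G ⧸ O) : Set (G ⧸ O)) ≤ pCore p (G ⧸ O) :=
    H03.centralizer_pCore_le_of_isPSolvable hS hQ
  haveI hCn : (pCore p (G ⧸ O)).Normal := Cfsg.Agent.H01.pCore_normal p
  have hall : ∀ χ ψ : IrrCharacter (G ⧸ O), SameBlock M χ.1 ψ.1 :=
    sameBlock_of_centralizer_le hMp (pCore p (G ⧸ O)) (Cfsg.Agent.H01.pCore_isPGroup p) hC
  have hinf : ∀ χ : IrrCharacter (G ⧸ O),
      (⟨χ.1 ∘ (QuotientGroup.mk' O), isIrr_inflate O χ.2⟩ : IrrCharacter G) ∈ principalBlock M G := by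
    intro χ
    exact sameBlock_inflate O (hall (oneIrr _) χ)
  have hdeg : ∀ χ : IrrCharacter (G ⧸ O),
      charDegree ((χ.1 ∘ (QuotientGroup.mk' O)) : G → ℂ) = charDegree χ.1 := by
    intro χ
    unfold charDegree
    simp
  constructor
  · intro ha χ hχ
    let S : Sylow p (G ⧸ O) := P.mapSurjective hf
    have hSa : ∀ a ∈ (S : Subgroup (G ⧸ O)), ∀ b ∈ (S : Subgroup (G ⧸ O)), a * b = b * a := by
      rintro _ ⟨a, ha', rfl⟩ _ ⟨b, hb', rfl⟩
      rw [← map_mul, ← map_mul, ha a ha' b hb']
    have hle : pCore p (G ⧸ O) ≤ S := Cfsg.Agent.H01.pCore_le_sylow p S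
    have hSle : (S : Subgroup (G ⧸ O)) ≤ pCore p (G ⧸ O) := by
      intro a hA
      apply hC
      rw [Subgroup.mem_centralizer_iff]
      intro y hy
      exact hSa y (hle hy) a hA
    have hSeq : (S : Subgroup (G ⧸ O)) = pCore p (G ⧸ O) := le_antisymm hSle hle
    have hSn : (S : Subgroup (G ⧸ O)).Normal := by
      rw [hSeq]
      exact hCn
    have htriv := principal_trivial_on_normal hMp O hOc χ hχ
    obtain ⟨χ', hχ', hχ2⟩ := exists_descend O χ.2 htriv
    have h1 := degrees_of_normal_abelian S hSn hSa ⟨χ', hχ'⟩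
    intro hd
    apply h1
    have := hdeg ⟨χ', hχ'⟩
    simp only at this
    rw [hχ2] at this
    show p ∣ charDegree χ'
    rw [← this]
    exact hd
  · intro h a hA b hB
    have hall2 : ∀ χ : IrrCharacter (G ⧸ O), ¬ p ∣ charDegree χ.1 := by
      intro χ hd
      apply h _ (hinf χ)
      show p ∣ charDegree ((χ.1 ∘ (QuotientGroup.mk' O)) : G → ℂ)
      rw [hdeg]
      exact hd
    obtain ⟨-, hab⟩ := normal_abelian_of_degrees (Nat.card (G ⧸ O)) (G ⧸ O) rfl hS hall2
      (P.mapSurjective hf)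
    have h1 := hab (f a) ⟨a, hA, rfl⟩ (f b) ⟨b, hB, rfl⟩
    have h2 : a * b * a⁻¹ * b⁻¹ ∈ O := by
      have : f (a * b * a⁻¹ * b⁻¹) = 1 := by
        simp only [map_mul, map_inv]
        rw [h1]
        group
      exact (QuotientGroup.eq_one_iff _).1 this
    have h3 : a * b * a⁻¹ * b⁻¹ ∈ (P : Subgroup G) :=
      Subgroup.mul_mem _ (Subgroup.mul_mem _ (Subgroup.mul_mem _ hA hB)
        (Subgroup.inv_mem _ hA)) (Subgroup.inv_mem _ hB)
    have hdisj : ∀ x ∈ O, x ∈ (P : Subgroup G) → x = 1 := by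
      intro x hxN hxP
      obtain ⟨k, hk⟩ := P.2 ⟨x, hxP⟩
      have h1 : x ^ p ^ k = 1 := by
        have := congrArg Subtype.val hk
        simpa using this
      have h2 : orderOf x ∣ p ^ k := orderOf_dvd_of_pow_eq_one h1
      have h3 : orderOf x ∣ Nat.card O := Subgroup.orderOf_dvd_natCard O hxN
      have h4 : (p ^ k).Coprime (Nat.card O) := Nat.Coprime.pow_left _ hOc.symm
      have h5 : orderOf x = 1 := Nat.eq_one_of_dvd_coprimes h4 h2 h3
      exact orderOf_eq_one_iff.1 h5
    have h4 := hdisj _ h2 h3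
    calc a * b = a * b * a⁻¹ * b⁻¹ * (b * a) := by group
      _ = b * a := by rw [h4, one_mul]

end Cfsg.Agent.H22
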