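import Cfsg.Agent.Lib.H22.NormalAb
import Cfsg.Agent.Lib.H22.FSPerm
import Cfsg.Agent.Lib.H22.ExtraUnique
import Cfsg.Agent.Lib.H22.PSolvHeight
import Cfsg.Agent.Lib.H01.Fitting

/-! # The derived length of a Sylow subgroup and the number of degrees divisible by `p` -/

set_option autoImplicit false
set_option linter.unusedSectionVars false
set_option linter.style.haveILetI false
set_option linter.unusedSimpArgs false

namespace Cfsg.Agent.H22

open Cfsg Cfsg.Agent.H21 Module
open scoped ComplexConjugate Pointwise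

universe u

section Coprime

variable {T : Type u} [Group T] [Finite T] {p : ℕ} [hp : Fact p.Prime]

/-- If all characters of the normal `p'`-subgroup `N` are invariant, the `p`-subgroup `P` centralizes
`N`. -/
theorem centralizes_of_inert (N P : Subgroup T) [hN : N.Normal] (hNc : (Nat.card N).Coprime p)
    (hP : IsPGroup p P) (hinert : ∀ θ : IrrCharacter N, H06.inertiaSub N θ.1 = ⊤) :
    ∀ x ∈ P, ∀ n ∈ N, x * n * x⁻¹ = n := by
  classical
  have hpp : p.Prime := hp.out
  haveI := Fintype.ofFinite T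
  haveI := Fintype.ofFinite (IrrCharacter T)
  haveI : Fintype N := Fintype.ofFinite _
  haveI := Fintype.ofFinite (IrrCharacter N)
  have hval : ∀ (x : T) (n : N) (θ : IrrCharacter N),
      θ.1 ⟨x * n * x⁻¹, hN.conj_mem n n.2 x⟩ = θ.1 n := by
    intro x n θ
    have hx : x ∈ H06.inertiaSub N θ.1 := by rw [hinert θ]; trivial
    exact (H06.mem_inertiaSub N).1 hx n
  -- conjugation by `x` preserves classes of `N`
  have hconj : ∀ (x : T) (n : N), IsConj (⟨x * n * x⁻¹, hN.conj_mem n n.2 x⟩ : N) n := by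
    intro x n
    by_contra hnc
    have h0 := column_orthogonality_of_not_isConj hnc
    simp only [hval] at h0
    have h1 : ∑ χ : IrrCharacter N, χ.1 n * conj (χ.1 n) ≠ 0 := by
      have := column_orthogonality_of_isConj (IsConj.refl n)
      rw [this]
      exact_mod_cast Nat.card_pos.ne'
    exact h1 h0
  -- fixed points
  have hfix : ∀ n : N, ∃ m : N, IsConj m n ∧ ∀ x ∈ P, x * (m : T) * x⁻¹ = m := by
    intro n
    let act : P →* MulAut N := (MulAut.conjNormal (H := N)).comp P.subtype
    letI : MulAction P N := MulAction.compHom N act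
    have hsm : ∀ (x : P) (m : N), ((x • m : N) : T) = (x : T) * m * (x : T)⁻¹ := by
      intro x m
      rfl
    let Y : SubMulAction P N :=
      { carrier := {m | IsConj m n}
        smul_mem' := by
          intro x m hm
          have h1 : x • m = (⟨(x : T) * m * (x : T)⁻¹, hN.conj_mem m m.2 x⟩ : N) :=
            Subtype.ext (hsm x m)
          show IsConj (x • m) n
          rw [h1]
          exact (hconj x m).trans hm }
    have h1 := hP.card_modEq_card_fixedPoints Y
    have hY : Nat.card Y = Nat.card (MulAction.orbit (ConjAct N) n) := by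
      refine Nat.card_congr (Equiv.subtypeEquivRight fun m => ?_)
      rw [ConjAct.mem_orbit_conjAct]
      exact ⟨fun h => h, fun h => h⟩
    have hYdvd : Nat.card Y ∣ Nat.card N := by
      rw [hY]
      have := MulAction.card_orbit_mul_card_stabilizer_eq_card_group (ConjAct N) n
      simp only [Nat.card_eq_fintype_card] at *
      rw [ConjAct.card] at this
      exact ⟨_, this.symm⟩
    have hYc : (Nat.card Y).Coprime p := Nat.Coprime.coprime_dvd_left hYdvd hNc
    have hF : Nat.card (MulAction.fixedPoints P Y) ≠ 0 := by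
      intro h0
      rw [h0] at h1
      have h2 : p ∣ Nat.card Y := (Nat.modEq_zero_iff_dvd).1 h1
      have h3 := Nat.Coprime.eq_one_of_dvd hYc.symm h2
      exact hpp.one_lt.ne' h3
    obtain ⟨⟨m, hm⟩⟩ := (Nat.card_ne_zero.1 hF).1
    refine ⟨m.1, m.2, ?_⟩
    intro x hx
    have h2 := congrArg (fun z : Y => ((z.1 : N) : T)) (hm ⟨x, hx⟩)
    exact h2
  -- all of `N` is fixed
  let C : Subgroup N := (Subgroup.centralizer (P : Set T)).subgroupOf N
  have hCtop : C = ⊤ := by
    by_contra hne
    obtain ⟨g, hg⟩ := H20.exists_not_mem_conj C hne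
    obtain ⟨m, hm, hmfix⟩ := hfix g
    obtain ⟨c, hc⟩ := isConj_iff.1 hm
    apply hg c
    have h3 : c⁻¹ * g * c = m := by
      rw [← hc]; group
    rw [h3]
    rw [Subgroup.mem_subgroupOf, Subgroup.mem_centralizer_iff]
    intro x hx
    have := hmfix x hx
    calc x * (m : T) = x * m * x⁻¹ * x := by group
      _ = m * x := by rw [this]
  intro x hx n hn
  have h3 : (⟨n, hn⟩ : N) ∈ C := by rw [hCtop]; trivial
  rw [Subgroup.mem_subgroupOf, Subgroup.mem_centralizer_iff] at h3
  have h4 := h3 x hx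
  show x * n * x⁻¹ = n
  have h5 : x * n = n * x := h4
  rw [h5]
  group

/-- The non-centralizing coprime situation produces a character of degree divisible by `p` which is
nontrivial on `N`. -/
theorem exists_over_noncentral (N P : Subgroup T) [hN : N.Normal] (hNc : (Nat.card N).Coprime p)
    (hP : IsPGroup p P) (hNP : N ⊔ P = ⊤) (hnc : ¬ ∀ x ∈ P, ∀ n ∈ N, x * n * x⁻¹ = n) :
    ∃ ψ : IrrCharacter T, p ∣ charDegree ψ.1 ∧ ∃ n ∈ N, ψ.1 n ≠ ψ.1 1 := by
  classical
  have hpp : p.Prime := hp.out
  have hidx : ∃ k, N.index = p ^ k := by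
    have hsurj : Function.Surjective ((QuotientGroup.mk' N).comp P.subtype) := by
      intro q
      obtain ⟨g, rfl⟩ := QuotientGroup.mk'_surjective N q
      have hg : g ∈ P ⊔ N := by rw [sup_comm, hNP]; trivial
      obtain ⟨y, hy, n, hn, rfl⟩ := Subgroup.mem_sup_of_normal_right.1 hg
      refine ⟨⟨y, hy⟩, ?_⟩
      have hn1 : QuotientGroup.mk' N n = 1 := (QuotientGroup.eq_one_iff _).2 hn
      rw [map_mul, hn1, mul_one]
      rfl
    have hq : IsPGroup p (T ⧸ N) := hP.of_surjective _ hsurj
    obtain ⟨k, hk⟩ := IsPGroup.iff_card.1 hq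
    exact ⟨k, hk⟩
  obtain ⟨k, hk⟩ := hidx
  have hex : ∃ θ : IrrCharacter N, H06.inertiaSub N θ.1 ≠ ⊤ := by
    by_contra hcon
    push Not at hcon
    exact hnc (centralizes_of_inert N P hNc hP hcon)
  obtain ⟨θ, hθ⟩ := hex
  obtain ⟨ψ, hψ⟩ := exists_irr_over N θ.2
  obtain ⟨e, -, he, -⟩ := degree_over N θ.2 ψ hψ
  have h1 : N ≤ H06.inertiaSub N θ.1 :=
    H06.le_inertiaSub N (isClassFunction_of_isCharacter (isCharacter_of_irr θ.2))
  have h2 : (H06.inertiaSub N θ.1).index ∣ p ^ k := hk ▸ Subgroup.index_dvd_of_le h1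
  obtain ⟨j, -, hj⟩ := (Nat.dvd_prime_pow hpp).1 h2
  refine ⟨ψ, ?_, ?_⟩
  · rw [he, hj]
    rcases j with _ | j
    · rw [pow_zero] at hj
      exact absurd (Subgroup.index_eq_one.1 hj) hθ
    · refine Dvd.dvd.mul_right (Dvd.dvd.mul_left ?_ _) _
      exact dvd_pow_self p (Nat.succ_ne_zero j)
  · by_contra hcon
    push Not at hcon
    have h3 : ∀ n : N, θ.1 n = θ.1 1 := by
      intro n
      refine constituent_ker (isCharacter_restrict N (isCharacter_of_irr ψ.2)) ?_ θ hψ
      exact hcon n n.2
    apply hθ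
    rw [eq_top_iff]
    intro x _
    apply (H06.mem_inertiaSub N).2
    intro n
    rw [h3, h3 n]

/-- Going up from a normal subgroup. -/
theorem exists_over_of_normal {G : Type u} [Group G] [Finite G] (L : Subgroup G) [hL : L.Normal]
    (ψ : IrrCharacter L) (hd : p ∣ charDegree ψ.1) {n : L} (hn : ψ.1 n ≠ ψ.1 1) :
    ∃ χ : IrrCharacter G, p ∣ charDegree χ.1 ∧ χ.1 n ≠ χ.1 1 := by
  classical
  obtain ⟨χ, hχ⟩ := exists_irr_over L ψ.2
  obtain ⟨e, -, he, -⟩ := degree_over L ψ.2 χ hχ
  refine ⟨χ, ?_, ?_⟩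
  · rw [he]
    exact Dvd.dvd.mul_left hd _
  · intro h
    exact hn (constituent_ker (isCharacter_restrict L (isCharacter_of_irr χ.2)) h ψ hχ)

variable {G : Type u} [Group G] [Finite G]

theorem card_quot_le (p : ℕ) (N : Subgroup G) [hN : N.Normal] :
    Nat.card {β : IrrCharacter (G ⧸ N) // p ∣ charDegree β.1} ≤
      Nat.card {χ : IrrCharacter G // p ∣ charDegree χ.1} := by
  classical
  let f : {β : IrrCharacter (G ⧸ N) // p ∣ charDegree β.1} → {χ : IrrCharacter G // p ∣ charDegree χ.1} :=
    fun β => ⟨⟨β.1.1 ∘ QuotientGroup.mk' N, isIrr_inflate N β.1.2⟩, by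
      show p ∣ charDegree (β.1.1 ∘ QuotientGroup.mk' N)
      rw [charDegree_comp_mk]
      exact β.2⟩
  apply Nat.card_le_card_of_injective f
  intro a b hab
  have h1 : a.1.1 ∘ QuotientGroup.mk' N = b.1.1 ∘ QuotientGroup.mk' N :=
    congrArg (fun z : {χ : IrrCharacter G // p ∣ charDegree χ.1} => z.1.1) hab
  apply Subtype.ext
  apply Subtype.ext
  funext q
  obtain ⟨g, rfl⟩ := QuotientGroup.mk'_surjective N q
  exact congrFun h1 g

theorem card_quot_succ_le (p : ℕ) (N : Subgroup G) [hN : N.Normal] (χ₀ : IrrCharacter G)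
    (h : p ∣ charDegree χ₀.1) {n : G} (hn : n ∈ N) (hne : χ₀.1 n ≠ χ₀.1 1) :
    Nat.card {β : IrrCharacter (G ⧸ N) // p ∣ charDegree β.1} + 1 ≤
      Nat.card {χ : IrrCharacter G // p ∣ charDegree χ.1} := by
  classical
  let f : {β : IrrCharacter (G ⧸ N) // p ∣ charDegree β.1} → {χ : IrrCharacter G // p ∣ charDegree χ.1} :=
    fun β => ⟨⟨β.1.1 ∘ QuotientGroup.mk' N, isIrr_inflate N β.1.2⟩, by
      show p ∣ charDegree (β.1.1 ∘ QuotientGroup.mk' N)
      rw [charDegree_comp_mk]
      exact β.2⟩
  have hinj : Function.Injective f := by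
    intro a b hab
    have h1 : a.1.1 ∘ QuotientGroup.mk' N = b.1.1 ∘ QuotientGroup.mk' N :=
      congrArg (fun z : {χ : IrrCharacter G // p ∣ charDegree χ.1} => z.1.1) hab
    apply Subtype.ext
    apply Subtype.ext
    funext q
    obtain ⟨g, rfl⟩ := QuotientGroup.mk'_surjective N q
    exact congrFun h1 g
  let F : Option {β : IrrCharacter (G ⧸ N) // p ∣ charDegree β.1} →
      {χ : IrrCharacter G // p ∣ charDegree χ.1} := fun o => o.elim ⟨χ₀, h⟩ f
  have hF : Function.Injective F := by
    have hval : ∀ β, F (some β) ≠ ⟨χ₀, h⟩ := by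
      intro β hβ
      have h1 : β.1.1 ∘ QuotientGroup.mk' N = χ₀.1 :=
        congrArg (fun z : {χ : IrrCharacter G // p ∣ charDegree χ.1} => z.1.1) hβ
      apply hne
      rw [← h1]
      show β.1.1 (QuotientGroup.mk' N n) = β.1.1 (QuotientGroup.mk' N 1)
      have h3 : QuotientGroup.mk' N n = 1 := (QuotientGroup.eq_one_iff n).2 hn
      rw [map_one, h3]
    rintro (_ | a) (_ | b) hab
    · rfl
    · exact absurd hab.symm (hval b)
    · exact absurd hab (hval a)
    · rw [hinj hab]
  have h3 := Nat.card_le_card_of_injective F hF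
  rwa [Finite.card_option] at h3

/-- The derived series of the image controls that of the source. -/
theorem derived_mem_of_map_eq_bot (N : Subgroup G) [hN : N.Normal] (P : Subgroup G) (k : ℕ)
    (h : derivedSeries ↥(P.map (QuotientGroup.mk' N)) k = ⊥) :
    ∀ x ∈ derivedSeries P k, (x : G) ∈ N := by
  intro x hx
  let f : P →* P.map (QuotientGroup.mk' N) := (QuotientGroup.mk' N).subgroupMap P
  have h1 : f x ∈ derivedSeries ↥(P.map (QuotientGroup.mk' N)) k :=
    map_derivedSeries_le_derivedSeries f k ⟨x, hx, rfl⟩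
  rw [h] at h1
  have h2 : f x = 1 := Subgroup.mem_bot.1 h1
  have h3 : QuotientGroup.mk' N (x : G) = 1 := congrArg Subtype.val h2
  exact (QuotientGroup.eq_one_iff _).1 h3

/-- The next term of the derived series vanishes if a term lies in an abelian subset. -/
theorem derived_succ_eq_bot {S : Subgroup G} {k : ℕ} {A : Set G}
    (hA : ∀ a ∈ A, ∀ b ∈ A, a * b = b * a) (h : ∀ x ∈ derivedSeries S k, (x : G) ∈ A) :
    derivedSeries S (k + 1) = ⊥ := by
  rw [derivedSeries_succ, eq_bot_iff, Subgroup.commutator_le]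
  intro a ha b hb
  rw [Subgroup.mem_bot, commutatorElement_eq_one_iff_mul_comm]
  apply Subtype.ext
  exact hA _ (h a ha) _ (h b hb)

theorem pCore_quot_eq_bot (p : ℕ) [hp : Fact p.Prime] : pCore p (G ⧸ pCore p G) = ⊥ := by
  classical
  set Y := pCore p G with hY
  have hYp : IsPGroup p Y := H01.pCore_isPGroup p
  haveI hYn : Y.Normal := H01.pCore_normal p
  let M : Subgroup G := (pCore p (G ⧸ Y)).comap (QuotientGroup.mk' Y)
  have hMn : M.Normal := Subgroup.Normal.comap (H01.pCore_normal p) _
  have hMp : IsPGroup p M := by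
    rintro ⟨m, hm⟩
    obtain ⟨a, ha⟩ := H01.pCore_isPGroup (p := p) (G := G ⧸ Y) ⟨(m : G ⧸ Y), hm⟩
    have h1 : ((m ^ p ^ a : G) : G ⧸ Y) = 1 := by
      have := congrArg Subtype.val ha
      simpa using this
    have h2 : m ^ p ^ a ∈ Y := (QuotientGroup.eq_one_iff _).mp h1
    obtain ⟨b, hb⟩ := hYp ⟨_, h2⟩
    refine ⟨a + b, Subtype.ext ?_⟩
    have hb' : (m ^ p ^ a) ^ p ^ b = 1 := by simpa using congrArg Subtype.val hb
    simp only [Subgroup.coe_pow, Subgroup.coe_one]
    rw [pow_add, pow_mul]
    exact hb'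
  have hMY : M ≤ Y := H01.le_pCore hMn hMp
  rw [eq_bot_iff]
  intro y hy
  obtain ⟨g, rfl⟩ := QuotientGroup.mk'_surjective Y y
  have : g ∈ M := hy
  exact (QuotientGroup.eq_one_iff _).mpr (hMY this)

end Coprime

section Main

/-- The number of irreducible characters of degree divisible by `p`. -/
noncomputable abbrev npd (p : ℕ) (G : Type u) [Group G] : ℕ :=
  Nat.card {χ : IrrCharacter G // p ∣ charDegree χ.1}

variable {p : ℕ} [hp : Fact p.Prime]


/-- The inductive statement: `dl(P) ≤ n(G) + 1`, and `dl(P) ≤ n(G)` when `O_p(G) = 1`. -/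
theorem derived_main (m : ℕ) : ∀ (G : Type u) [Group G] [Finite G], Nat.card G = m →
    IsPSolvable p G →
    (pCore p G = ⊥ → ∀ P : Sylow p G, derivedSeries ↥(P : Subgroup G) (npd p G) = ⊥) ∧
    (∀ P : Sylow p G, derivedSeries ↥(P : Subgroup G) ((npd p G) + 1) = ⊥) := by
  induction m using Nat.strong_induction_on with
  | _ m ih =>
  intro G _ _ hcard hs
  have hpp : p.Prime := hp.out
  have hlt : ∀ (N : Subgroup G) [N.Normal], N ≠ ⊥ → Nat.card (G ⧸ N) < m := by
    intro N _ hNbot
    have h1 : Nat.card (G ⧸ N) * Nat.card N = Nat.card G := by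
      rw [mul_comm]
      exact (Subgroup.card_mul_index N)
    have h2 : 1 < Nat.card N := by
      have h3 : Nat.card N ≠ 1 := fun h => hNbot (Subgroup.eq_bot_of_card_eq N h)
      have h4 : 0 < Nat.card N := Nat.card_pos
      omega
    have h5 : 0 < Nat.card (G ⧸ N) := Nat.card_pos
    rw [← hcard, ← h1]
    nlinarith
  have IH : ∀ (N : Subgroup G) [N.Normal], N ≠ ⊥ →
      (pCore p (G ⧸ N) = ⊥ → ∀ P : Sylow p (G ⧸ N),
        derivedSeries ↥(P : Subgroup (G ⧸ N)) (npd p (G ⧸ N)) = ⊥) ∧
      (∀ P : Sylow p (G ⧸ N),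
        derivedSeries ↥(P : Subgroup (G ⧸ N)) ((npd p (G ⧸ N)) + 1) = ⊥) := by
    intro N _ hN
    exact ih _ (hlt N hN) (G ⧸ N) rfl
      (H03.isPSolvable_of_surjective (QuotientGroup.mk'_surjective N) hs)
  have hB : pCore p G = ⊥ → ∀ P : Sylow p G, derivedSeries ↥(P : Subgroup G) (npd p G) = ⊥ := by
    intro hQ P
    by_cases hPbot : (P : Subgroup G) = ⊥
    · have : Subsingleton ↥(P : Subgroup G) := by
        rw [hPbot]
        infer_instance
      exact Subgroup.eq_bot_of_subsingleton _
    let K := pPrimeCore p G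
    have hKc : (Nat.card K).Coprime p := H06.coprime_card_pPrimeCore p
    haveI hKn : K.Normal := pPrimeCore_normal p G
    have hdisj : ∀ x ∈ K, x ∈ (P : Subgroup G) → x = 1 := by
      intro x hxN hxP
      obtain ⟨k, hk⟩ := P.2 ⟨x, hxP⟩
      have h1 : x ^ p ^ k = 1 := by
        have := congrArg Subtype.val hk
        simpa using this
      have h2 : orderOf x ∣ p ^ k := orderOf_dvd_of_pow_eq_one h1
      have h3 : orderOf x ∣ Nat.card K := Subgroup.orderOf_dvd_natCard K hxN
      have h4 : (p ^ k).Coprime (Nat.card K) := Nat.Coprime.pow_left _ hKc.symm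
      have h5 : orderOf x = 1 := Nat.eq_one_of_dvd_coprimes h4 h2 h3
      exact orderOf_eq_one_iff.1 h5
    have hGbot : (⊤ : Subgroup G) ≠ ⊥ := by
      intro h
      apply hPbot
      rw [eq_bot_iff, ← h]
      exact le_top
    have hKbot : K ≠ ⊥ := by
      intro hK
      obtain ⟨M, -, hMn, hMbot, hMp⟩ :=
        H03.exists_normal_le_of_isPSolvable hs (R := ⊤) inferInstance hGbot
      apply hMbot
      rcases hMp with hMp | hMc
      · rw [eq_bot_iff, ← hQ]
        exact H01.le_pCore hMn hMp
      · rw [eq_bot_iff, ← hK]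
        exact le_sSup ⟨hMn, hMc⟩
    -- a normal `p`-subgroup of `G / K`
    have hsq : IsPSolvable p (G ⧸ K) :=
      H03.isPSolvable_of_surjective (QuotientGroup.mk'_surjective K) hs
    have hGKbot : (⊤ : Subgroup (G ⧸ K)) ≠ ⊥ := by
      intro h
      apply hPbot
      rw [eq_bot_iff]
      intro x hx
      have h1 : ((x : G) : G ⧸ K) ∈ (⊤ : Subgroup (G ⧸ K)) := trivial
      rw [h, Subgroup.mem_bot, QuotientGroup.eq_one_iff] at h1
      exact hdisj x h1 hx
    obtain ⟨Mb, -, hMbn, hMbbot, hMbp⟩ :=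
      H03.exists_normal_le_of_isPSolvable hsq (R := ⊤) inferInstance hGKbot
    have hMbp' : IsPGroup p Mb := by
      rcases hMbp with h | h
      · exact h
      · exfalso
        apply hMbbot
        rw [eq_bot_iff, ← H08.pPrimeCore_quotient_eq_bot (G := G) p]
        exact le_sSup ⟨hMbn, h⟩
    let L : Subgroup G := Mb.comap (QuotientGroup.mk' K)
    haveI hLn : L.Normal := Subgroup.Normal.comap hMbn _
    have hKL : K ≤ L := by
      intro x hx
      show (QuotientGroup.mk' K x) ∈ Mb
      have h1 : QuotientGroup.mk' K x = 1 := (QuotientGroup.eq_one_iff x).2 hx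
      rw [h1]
      exact one_mem _
    let N' : Subgroup L := K.subgroupOf L
    haveI hN'n : N'.Normal := Subgroup.Normal.subgroupOf hKn L
    have hN'c : (Nat.card N').Coprime p := by
      have h1 : Nat.card N' = Nat.card K :=
        Nat.card_congr (Subgroup.subgroupOfEquivOfLe hKL).toEquiv
      rw [h1]
      exact hKc
    let R : Sylow p L := Classical.arbitrary _
    have hquot : IsPGroup p (L ⧸ N') := by
      intro q
      obtain ⟨x, rfl⟩ := QuotientGroup.mk'_surjective N' q
      obtain ⟨a, ha⟩ := hMbp' ⟨QuotientGroup.mk' K (x : G), x.2⟩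
      refine ⟨a, ?_⟩
      have h1 : (QuotientGroup.mk' K (x : G)) ^ p ^ a = 1 := by
        have := congrArg Subtype.val ha
        simpa using this
      have h2 : ((x : G) ^ p ^ a) ∈ K := by
        rw [← map_pow] at h1
        exact (QuotientGroup.eq_one_iff _).1 h1
      have h3 : x ^ p ^ a ∈ N' := by
        rw [Subgroup.mem_subgroupOf]
        simpa using h2
      rw [← map_pow]
      exact (QuotientGroup.eq_one_iff _).2 h3
    have hsup : N' ⊔ (R : Subgroup L) = ⊤ := by
      obtain ⟨a, ha⟩ := IsPGroup.iff_card.1 hquot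
      have h1 : (N' ⊔ (R : Subgroup L)).index ∣ p ^ a := by
        rw [← ha]
        exact Subgroup.index_dvd_of_le le_sup_left
      have h2 : (N' ⊔ (R : Subgroup L)).index ∣ (R : Subgroup L).index :=
        Subgroup.index_dvd_of_le le_sup_right
      have h3 : ¬ p ∣ (R : Subgroup L).index := R.not_dvd_index
      obtain ⟨j, -, hj⟩ := (Nat.dvd_prime_pow hpp).1 h1
      rcases j with _ | j
      · rw [pow_zero] at hj
        exact Subgroup.index_eq_one.1 hj
      · exfalso
        apply h3
        rw [hj] at h2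
        exact (dvd_pow_self p (Nat.succ_ne_zero j)).trans h2
    by_cases hc : ∀ x ∈ (R : Subgroup L), ∀ n ∈ N', x * n * x⁻¹ = n
    · exfalso
      -- `R` is normal in `G`
      let R₀ : Subgroup G := (R : Subgroup L).map L.subtype
      have hR₀p : IsPGroup p R₀ := by
        rintro ⟨y, x, hx, rfl⟩
        obtain ⟨k, hk⟩ := R.2 ⟨x, hx⟩
        refine ⟨k, Subtype.ext ?_⟩
        have h1 : x ^ p ^ k = 1 := by
          have := congrArg Subtype.val hk
          simpa using this
        have h2 : ((x : G)) ^ p ^ k = 1 := by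
          have := congrArg Subtype.val h1
          simpa using this
        simpa using h2
      have hR₀n : R₀.Normal := by
        constructor
        rintro _ ⟨x, hx, rfl⟩ g
        have hy : g * (x : G) * g⁻¹ ∈ L := hLn.conj_mem _ x.2 g
        have hw : (⟨g * (x : G) * g⁻¹, hy⟩ : L) ∈ N' ⊔ (R : Subgroup L) := by
          rw [hsup]; trivial
        obtain ⟨a, ha, b, hb, hab⟩ := Subgroup.mem_sup_of_normal_left.1 hw
        obtain ⟨k, hk⟩ := R.2 ⟨x, hx⟩
        have hk' : x ^ p ^ k = 1 := by
          have := congrArg Subtype.val hk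
          simpa using this
        obtain ⟨l, hl⟩ := R.2 ⟨b, hb⟩
        have hl' : b ^ p ^ l = 1 := by
          have := congrArg Subtype.val hl
          simpa using this
        have hcab : Commute b a := by
          have := hc b hb a ha
          show b * a = a * b
          calc b * a = b * a * b⁻¹ * b := by group
            _ = a * b := by rw [this]
        have hpow : a ^ p ^ (k + l) = 1 := by
          have h1 : (a * b) ^ p ^ (k + l) = 1 := by
            rw [hab]
            apply Subtype.ext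
            have h2 : ((x : G)) ^ p ^ k = 1 := by
              have := congrArg Subtype.val hk'
              simpa using this
            simp only [Subgroup.coe_pow, Subgroup.coe_one]
            rw [conj_pow, pow_add, pow_mul, h2, one_pow]
            group
          rw [hcab.symm.mul_pow, pow_add, mul_comm (p ^ k), pow_mul b, hl', one_pow, mul_one] at h1
          rw [pow_add, mul_comm]
          exact h1
        have h3 : orderOf a ∣ p ^ (k + l) := orderOf_dvd_of_pow_eq_one hpow
        have h4 : orderOf a ∣ Nat.card N' := Subgroup.orderOf_dvd_natCard N' ha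
        have h5 : (p ^ (k + l)).Coprime (Nat.card N') := Nat.Coprime.pow_left _ hN'c.symm
        have h6 : orderOf a = 1 := Nat.eq_one_of_dvd_coprimes h5 h3 h4
        have h7 : a = 1 := orderOf_eq_one_iff.1 h6
        rw [h7, one_mul] at hab
        refine ⟨b, hb, ?_⟩
        have := congrArg Subtype.val hab
        exact this
      have hR₀ : R₀ = ⊥ := by
        rw [eq_bot_iff, ← hQ]
        exact H01.le_pCore hR₀n hR₀p
      have hRbot : (R : Subgroup L) = ⊥ := by
        rw [eq_bot_iff]
        intro x hx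
        have h1 : (x : G) ∈ R₀ := ⟨x, hx, rfl⟩
        rw [hR₀, Subgroup.mem_bot] at h1
        exact Subgroup.mem_bot.2 (Subtype.ext h1)
      rw [hRbot, sup_bot_eq] at hsup
      apply hMbbot
      rw [eq_bot_iff]
      intro q hq
      obtain ⟨g, rfl⟩ := QuotientGroup.mk'_surjective K q
      have hgL : g ∈ L := hq
      have h1 : (⟨g, hgL⟩ : L) ∈ N' := by rw [hsup]; trivial
      have h2 : g ∈ K := h1
      exact (QuotientGroup.eq_one_iff g).2 h2
    · obtain ⟨ψ, hψd, n, hn, hψn⟩ := exists_over_noncentral N' (R : Subgroup L) hN'c R.2 hsup hc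
      obtain ⟨χ₀, hχ₀d, hχ₀n⟩ := exists_over_of_normal L ψ hψd hψn
      have h1 : npd p (G ⧸ K) + 1 ≤ npd p G := card_quot_succ_le p K χ₀ hχ₀d hn hχ₀n
      have h2 := (IH K hKbot).2 (P.mapSurjective (QuotientGroup.mk'_surjective K))
      have h3 := derived_mem_of_map_eq_bot K (P : Subgroup G) _ h2
      have h4 : derivedSeries ↥(P : Subgroup G) (npd p (G ⧸ K) + 1) = ⊥ := by
        rw [eq_bot_iff]
        intro x hx
        exact Subgroup.mem_bot.2 (Subtype.ext (hdisj _ (h3 x hx) x.2))
      rw [eq_bot_iff, ← h4]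
      exact derivedSeries_antitone _ h1
  refine ⟨hB, ?_⟩
  intro P
  let Q := pCore p G
  have hQp : IsPGroup p Q := H01.pCore_isPGroup p
  haveI hQn : Q.Normal := H01.pCore_normal p
  have hQP : Q ≤ P := H01.pCore_le_sylow p P
  by_cases hQbot : Q = ⊥
  · have h1 := hB hQbot P
    rw [derivedSeries_succ, h1]
    simp
  by_cases hab : ∀ a ∈ Q, ∀ b ∈ Q, a * b = b * a
  · -- `O_p(G)` abelian
    have h1 := (IH Q hQbot).1 (pCore_quot_eq_bot p) (P.mapSurjective (QuotientGroup.mk'_surjective Q))
    have h2 := derived_mem_of_map_eq_bot Q (P : Subgroup G) _ h1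
    have h3 := derived_succ_eq_bot (A := (Q : Set G)) hab h2
    have h4 : npd p (G ⧸ Q) ≤ npd p G := card_quot_le p Q
    rw [eq_bot_iff, ← h3]
    exact derivedSeries_antitone _ (by omega)
  · -- `O_p(G)` nonabelian
    let N : Subgroup G := ⁅Q, Q⁆ ⊓ Subgroup.centralizer (Q : Set G)
    haveI hNn : N.Normal := by
      haveI : (⁅Q, Q⁆ : Subgroup G).Normal := Subgroup.commutator_normal Q Q
      haveI : (Subgroup.centralizer (Q : Set G)).Normal := Subgroup.normal_centralizer
      exact Subgroup.normal_inf_normal _ _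
    have hNab : ∀ a ∈ (N : Set G), ∀ b ∈ (N : Set G), a * b = b * a := by
      intro a ha b hb
      have h1 : b ∈ Q := Subgroup.commutator_le_left Q Q hb.1
      exact (Subgroup.mem_centralizer_iff.1 ha.2 b h1).symm
    have hcne : commutator Q ≠ ⊥ := by
      intro h
      apply hab
      intro a ha b hb
      have h1 : (⟨a, ha⟩ : Q) * ⟨b, hb⟩ * (⟨a, ha⟩ : Q)⁻¹ * (⟨b, hb⟩ : Q)⁻¹ ∈ commutator Q := by
        rw [commutator_def]
        exact Subgroup.commutator_mem_commutator (Subgroup.mem_top _) (Subgroup.mem_top _)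
      rw [h, Subgroup.mem_bot] at h1
      have h2 : a * b * a⁻¹ * b⁻¹ = 1 := congrArg Subtype.val h1
      calc a * b = a * b * a⁻¹ * b⁻¹ * (b * a) := by group
        _ = b * a := by rw [h2, one_mul]
    obtain ⟨w, hw⟩ := Subgroup.ne_bot_iff_exists_ne_one.1
      (H09.normal_inf_center_ne_bot hQp (commutator Q) hcne)
    have hw1 : (w : Q) ≠ 1 := fun h => hw (Subtype.ext h)
    have hwc : (w : Q) ∈ commutator Q := w.2.1
    have hwz : (w : Q) ∈ Subgroup.center Q := w.2.2
    have hyN : ((w : Q) : G) ∈ N := by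
      refine Subgroup.mem_inf.2 ⟨?_, ?_⟩
      · have h0 : (commutator Q).map Q.subtype = ⁅Q, Q⁆ := by
          exact Subgroup.map_subtype_commutator Q
        rw [← h0]
        exact ⟨w, hwc, rfl⟩
      · rw [Subgroup.mem_centralizer_iff]
        intro q hq
        have := Subgroup.mem_center_iff.1 hwz ⟨q, hq⟩
        exact congrArg Subtype.val this
    have hNbot : N ≠ ⊥ := by
      intro h
      rw [h, Subgroup.mem_bot] at hyN
      exact hw1 (Subtype.ext hyN)
    obtain ⟨θ, hθ⟩ := exists_irr_ne_of_ne_one hw1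
    have hθd : p ∣ charDegree θ.1 := by
      have h1 : charDegree θ.1 ≠ 1 := by
        intro h
        apply hθ
        rw [H23.linear_commutator (isCharacter_of_irr θ.2) h hwc,
          linear_one (isCharacter_of_irr θ.2) h]
      have h2 := charDegree_dvd_card θ
      obtain ⟨k, hk⟩ := IsPGroup.iff_card.1 hQp
      rw [hk] at h2
      obtain ⟨j, -, hj⟩ := (Nat.dvd_prime_pow hpp).1 h2
      rw [hj] at h1 ⊢
      rcases j with _ | j
      · simp at h1
      · exact Dvd.intro_left (p ^ j) (by rw [pow_succ])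
    obtain ⟨χ₀, hχ₀d, hχ₀n⟩ := exists_over_of_normal Q θ hθd hθ
    have h1 : npd p (G ⧸ N) + 1 ≤ npd p G := card_quot_succ_le p N χ₀ hχ₀d hyN hχ₀n
    have h2 := (IH N hNbot).2 (P.mapSurjective (QuotientGroup.mk'_surjective N))
    have h3 := derived_mem_of_map_eq_bot N (P : Subgroup G) _ h2
    have h4 := derived_succ_eq_bot (A := (N : Set G)) hNab h3
    rw [eq_bot_iff, ← h4]
    exact derivedSeries_antitone _ (by omega)

end Main

end Cfsg.Agent.H22
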