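import Cfsg.Agent.Lib.H22.BlockRank

/-!
# Characters of defect zero, codegrees
-/

set_option autoImplicit false
set_option linter.unusedSectionVars false
set_option linter.style.haveILetI false
set_option linter.unusedSimpArgs false

namespace Cfsg.Agent.H22

open Cfsg Cfsg.Agent.H21 Module
open scoped ComplexConjugate

universe u

section

variable {G : Type u} [Group G] [Fintype G] [Fintype (IrrCharacter G)]
variable {M : Ideal AlgInt} [hM : M.IsPrime]

open scoped Classical in
/-- The indicator of a single character. -/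
noncomputable def eOne (χ : IrrCharacter G) : IrrCharacter G → ℂ := fun ψ => if ψ = χ then 1 else 0

theorem eOne_mul_self (χ : IrrCharacter G) : eOne χ * eOne χ = eOne χ := by
  classical
  funext ψ
  simp only [Pi.mul_apply, eOne]
  split_ifs <;> simp

theorem ofOm_eOne (χ : IrrCharacter G) (g : G) :
    ofOm (eOne χ) g = (Nat.card G : ℂ)⁻¹ * (χ.1 1 * conj (χ.1 g)) := by
  classical
  unfold ofOm eOne
  congr 1
  rw [Finset.sum_eq_single χ]
  · simp
  · intro ψ _ hψ
    rw [if_neg hψ, zero_mul]
  · intro h
    exact absurd (Finset.mem_univ _) h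

/-- A character of `p`-defect zero has a local idempotent. -/
theorem eOne_mem_ZR {p : ℕ} (hMp : IsPModular p M) (χ : IrrCharacter G)
    (h : ¬ p ∣ Nat.card G / charDegree χ.1) : eOne χ ∈ ZR M := by
  intro g
  rw [ofOm_eOne]
  obtain ⟨n, hn⟩ := charDegree_dvd_card χ
  have hpos := irr_charDegree_pos χ.2
  have hn' : Nat.card G / charDegree χ.1 = n := by
    rw [hn]
    exact Nat.mul_div_cancel_left _ hpos
  rw [hn'] at h
  have h1 : ¬ MemLocalIdeal M (n : ℂ) := by
    rw [mli_natCast_iff hMp]
    exact h
  obtain ⟨hn0, hinv⟩ := mlr_inv (mlr_natCast (M := M) n) h1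
  have h2 : (Nat.card G : ℂ)⁻¹ * (χ.1 1 * conj (χ.1 g)) = (n : ℂ)⁻¹ * conj (χ.1 g) := by
    have hd : χ.1 1 = (charDegree χ.1 : ℂ) := one_eq_charDegree (isCharacter_of_irr χ.2)
    have h3 : (Nat.card G : ℂ) = (charDegree χ.1 : ℂ) * n := by
      rw [hn]; push_cast; ring
    rw [hd, h3]
    have h4 : (charDegree χ.1 : ℂ) ≠ 0 := by exact_mod_cast hpos.ne'
    field_simp
  rw [h2]
  refine mlr_mul hinv ?_
  rw [← irr_inv']
  exact mlr_of_isIntegral (irr_isIntegral' χ _)

/-- A character of `p`-defect zero vanishes at `p`-singular elements. -/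
theorem irr_eq_zero_of_defect_zero {p : ℕ} [hp : Fact p.Prime] (hMp : IsPModular p M)
    (χ : IrrCharacter G) (h : ¬ p ∣ Nat.card G / charDegree χ.1) {y : G} (hy : p ∣ orderOf y) :
    χ.1 y = 0 := by
  have h1 := ofOm_eq_zero_of_singular hMp (eOne_mem_ZR hMp χ h) (eOne_mul_self χ) hy
  rw [ofOm_eOne] at h1
  have h0 := card_ne_zero_C (G := G)
  have h2 := irr_one_ne_zero' χ
  have h3 : conj (χ.1 y) = 0 := by
    rcases mul_eq_zero.mp h1 with h4 | h4
    · exact absurd h4 (inv_ne_zero h0)
    · exact (mul_eq_zero.mp h4).resolve_left h2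
  simpa using h3

/-- The character in a singleton block. -/
theorem eq_of_mem_block_of_defect_zero {p : ℕ} (hMp : IsPModular p M)
    (χ : IrrCharacter G) (h : ¬ p ∣ Nat.card G / charDegree χ.1) {ψ : IrrCharacter G}
    (hs : SameBlock M χ.1 ψ.1) : ψ = χ := by
  classical
  by_contra hne
  have h1 := ZR_congr (eOne_mem_ZR hMp χ h) hs
  simp only [eOne, if_pos rfl, if_neg hne, sub_zero] at h1
  exact not_mli_one h1

theorem not_dvd_codegree_iff {p : ℕ} [hp : Fact p.Prime] (χ : IrrCharacter G) :
    ¬ p ∣ Nat.card G / charDegree χ.1 ↔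
      (Nat.card G).factorization p ≤ (charDegree χ.1).factorization p := by
  have hdvd := charDegree_dvd_card χ
  have hpos := irr_charDegree_pos χ.2
  have hG : Nat.card G ≠ 0 := Nat.card_pos.ne'
  have hne : Nat.card G / charDegree χ.1 ≠ 0 := by
    intro h0
    have := Nat.div_mul_cancel hdvd
    rw [h0, zero_mul] at this
    exact hG this.symm
  rw [(Fact.out : p.Prime).dvd_iff_one_le_factorization hne, Nat.factorization_div hdvd]
  simp only [Finsupp.coe_tsub, Pi.sub_apply]
  omega

/-- An irreducible character vanishing on `p`-singular elements has degree divisible by the full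
power of `p`. -/
theorem card_sylow_dvd_degree_of_vanish {p : ℕ} [hp : Fact p.Prime] (χ : IrrCharacter G)
    (h : ∀ y : G, p ∣ orderOf y → χ.1 y = 0) : ¬ p ∣ Nat.card G / charDegree χ.1 := by
  classical
  rw [not_dvd_codegree_iff]
  have hpp : p.Prime := Fact.out
  let S : Sylow p G := default
  haveI : Fintype (S : Subgroup G) := Fintype.ofFinite _
  have hcard : Nat.card (S : Subgroup G) = p ^ (Nat.card G).factorization p := S.card_eq_multiplicity
  have hS : IsPGroup p (S : Subgroup G) := S.isPGroup'
  have hsum1 : ∑ y : (S : Subgroup G), χ.1 y = χ.1 1 := by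
    rw [Finset.sum_eq_single (1 : (S : Subgroup G))]
    · rfl
    · intro y _ hy
      apply h
      obtain ⟨k, hk⟩ := IsPGroup.iff_orderOf.mp hS y
      have hk0 : k ≠ 0 := by
        rintro rfl
        apply hy
        rw [pow_zero, orderOf_eq_one_iff] at hk
        exact hk
      rw [show orderOf (y : G) = orderOf y from Subgroup.orderOf_coe y, hk]
      exact dvd_pow_self p hk0
    · intro h
      exact absurd (Finset.mem_univ _) h
  obtain ⟨m, hm⟩ := classInner_isCharacter_nat (isCharacter_restrict (S : Subgroup G) (isCharacter_of_irr χ.2)) (isCharacter_one (G := (S : Subgroup G)))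
  have h2 : ∑ y : (S : Subgroup G), χ.1 y = (Nat.card (S : Subgroup G) : ℂ) * m := by
    rw [← hm]
    unfold classInner
    have h1 : (Nat.card (S : Subgroup G) : ℂ) ≠ 0 := by
      exact_mod_cast (Nat.card_pos (α := (S : Subgroup G))).ne'
    simp only [map_one, mul_one]
    field_simp
  rw [hsum1, one_eq_charDegree (isCharacter_of_irr χ.2)] at h2
  have h3 : charDegree χ.1 = Nat.card (S : Subgroup G) * m := by exact_mod_cast h2
  have hpos := irr_charDegree_pos χ.2
  have h4 : p ^ (Nat.card G).factorization p ∣ charDegree χ.1 := by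
    rw [← hcard, h3]
    exact dvd_mul_right _ _
  exact (hpp.pow_dvd_iff_le_factorization hpos.ne').mp h4

end

end Cfsg.Agent.H22
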