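import Cfsg.Agent.Lib.H22.OverTheta
import Cfsg.Agent.Lib.H21.PrincipalCoeff
import Cfsg.Agent.Lib.H22.Third

/-! # The principal block and normal subgroups: covering in both directions -/

set_option autoImplicit false
set_option linter.unusedSectionVars false
set_option linter.style.haveILetI false
set_option linter.unusedSimpArgs false
set_option linter.unusedVariables false

namespace Cfsg.Agent.H22

open Cfsg Cfsg.Agent.H21 Module
open scoped ComplexConjugate

universe u

variable {G : Type u} [Group G] [Finite G] {p : ℕ} [hp : Fact p.Prime] {M : Ideal AlgInt}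

theorem sum_sub_eq_ite (K : Subgroup G) [DecidablePred (· ∈ K)] (F : G → ℂ) :
    ∑ g : G, (if g ∈ K then F g else 0) = ∑ k : K, F k := by
  classical
  rw [← Finset.sum_filter]
  exact Finset.sum_subtype _ (fun x => by simp) F

theorem pelem_mem_sylow (P : Sylow p G) {d : G} (hd : d ∈ Subgroup.centralizer ((P : Subgroup G) : Set G))
    {k : ℕ} (hk : orderOf d = p ^ k) : d ∈ (P : Subgroup G) := by
  classical
  have h1 : IsPGroup p (Subgroup.zpowers d) := by
    rw [IsPGroup.iff_card]
    refine ⟨k, ?_⟩
    rw [Nat.card_zpowers, hk]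
  have h3 : Subgroup.zpowers d ≤ Subgroup.normalizer ((P : Subgroup G) : Set G) := by
    rw [Subgroup.zpowers_le]
    rw [Subgroup.mem_normalizer_iff]
    intro h
    rw [Subgroup.mem_centralizer_iff] at hd
    constructor
    · intro hh
      have := hd h hh
      rw [← this]
      simpa using hh
    · intro hh
      have h4 : d * (d⁻¹ * h * d) * d⁻¹ = h := by group
      have h5 : d⁻¹ * (d * h * d⁻¹) * d = h := by group
      rw [← h5]
      have h6 : Commute d ((d * h * d⁻¹)) ∨ True := Or.inr trivial
      have h7 : d⁻¹ * (d * h * d⁻¹) * d = (d * h * d⁻¹) := by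
        have := hd _ hh
        calc d⁻¹ * (d * h * d⁻¹) * d = d⁻¹ * ((d * h * d⁻¹) * d) := by group
          _ = d⁻¹ * (d * (d * h * d⁻¹)) := by rw [this]
          _ = _ := by group
      rw [h7]
      exact hh
  have h8 := IsPGroup.to_sup_of_normal_right' h1 P.isPGroup' h3
  have h9 := P.is_maximal' h8 le_sup_right
  rw [← h9]
  exact Subgroup.mem_sup_left (Subgroup.mem_zpowers d)

/-- At a `p`-regular element centralizing a Sylow subgroup the principal block coefficient is a
constant unit modulo `M`. -/
theorem principal_coeff_centralizer (hM : IsPModular p M) (P : Sylow p G) {c : G}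
    (hc : c ∈ Subgroup.centralizer ((P : Subgroup G) : Set G)) (hreg : ¬ p ∣ orderOf c) :
    MemLocalIdeal M ((∑ x, regI p G x) * blockCoeff (principalBlock M G) c - 1) := by
  classical
  haveI : M.IsPrime := hM.2.1.isPrime
  have h1 := conv_pel_regI_congr hM c hreg
  have h2 := mli_sum_conj hM (P : Subgroup G) P.isPGroup'
    (fun h => pel p h * regI p G (h⁻¹ * c))
    (fun h => mlr_mul (pel_mlr h) (regI_mlr _))
    (by
      intro q hq g
      show pel p (q * g * q⁻¹) * regI p G ((q * g * q⁻¹)⁻¹ * c) = pel p g * regI p G (g⁻¹ * c)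
      have hqc : q * c = c * q := by
        rw [Subgroup.mem_centralizer_iff] at hc
        exact hc q hq
      congr 1
      · exact pel_isClass g q
      · have h3 : (q * g * q⁻¹)⁻¹ * c = q * (g⁻¹ * c) * q⁻¹ := by
          have : q⁻¹ * c = c * q⁻¹ := (Commute.inv_left (show Commute q c from hqc)).eq
          simp only [mul_inv_rev, inv_inv, mul_assoc, this]
        rw [h3]
        exact regI_isClass _ q)
  have h3 : ∑ d : Subgroup.centralizer ((P : Subgroup G) : Set G),
      pel p (d : G) * regI p G ((d : G)⁻¹ * c) = 1 := by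
    rw [Finset.sum_eq_single (1 : Subgroup.centralizer ((P : Subgroup G) : Set G))]
    · have h4 : pel (G := G) p 1 = 1 := by
        unfold pel
        rw [if_pos]
        exact ⟨0, by simp⟩
      simp only [Subgroup.coe_one, inv_one, one_mul, h4]
      unfold regI
      rw [rp_of_reg _ hreg]
    · intro d _ hd
      by_cases hk : ∃ k : ℕ, orderOf (d : G) = p ^ k
      · obtain ⟨k, hk⟩ := hk
        have hdP : (d : G) ∈ (P : Subgroup G) := pelem_mem_sylow P d.2 hk
        have hcomm : Commute ((d : G)⁻¹) c := by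
          rw [Subgroup.mem_centralizer_iff] at hc
          have := hc _ hdP
          exact (Commute.inv_left (show Commute (d : G) c from this))
        have hk0 : k ≠ 0 := by
          rintro rfl
          apply hd
          apply Subtype.ext
          simpa using hk
        have hcop : Nat.Coprime (orderOf ((d : G)⁻¹)) (orderOf c) := by
          rw [orderOf_inv, hk]
          exact Nat.Coprime.pow_left k ((Nat.Prime.coprime_iff_not_dvd hp.out).mpr hreg)
        have h5 : p ∣ orderOf ((d : G)⁻¹ * c) := by
          rw [hcomm.orderOf_mul_eq_mul_orderOf_of_coprime hcop, orderOf_inv, hk]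
          exact Dvd.dvd.mul_right (dvd_pow_self p hk0) _
        unfold regI
        rw [rp_of_sing _ h5, mul_zero]
      · unfold pel
        rw [if_neg hk, zero_mul]
    · intro h
      exact absurd (Finset.mem_univ _) h
  beta_reduce at h2
  rw [h3] at h2
  have h4 := mli_sub h2 h1
  convert h4 using 1
  unfold conv
  ring

/-- The key non-vanishing: the sum of the principal block coefficients on a normal subgroup. -/
theorem sum_principal_not_mli (hM : IsPModular p M) (H : Subgroup G) [hH : H.Normal] :
    ¬ MemLocalIdeal M (∑ h : H, blockCoeff (principalBlock M G) (h : G)) := by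
  classical
  haveI : M.IsPrime := hM.2.1.isPrime
  obtain ⟨P⟩ : Nonempty (Sylow p G) := inferInstance
  set a := blockCoeff (principalBlock M G) with ha
  have hB : IsPBlock M (principalBlock M G) := principalBlock_isBlock
  set f : G → ℂ := fun g => if g ∈ H then a g else 0 with hf
  have h1 : ∑ h : H, a (h : G) = ∑ g, f g := by
    simp only [hf]
    rw [sum_sub_eq_ite H a]
  have hfR : ∀ g, MemLocalRing M (f g) := by
    intro g
    simp only [hf]
    split_ifs
    · exact blockCoeff_mlr hB g
    · exact mlr_zero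
  have hfc : ∀ q ∈ (P : Subgroup G), ∀ g, f (q * g * q⁻¹) = f g := by
    intro q _ g
    simp only [hf]
    have h2 : q * g * q⁻¹ ∈ H ↔ g ∈ H := by
      constructor
      · intro h
        have := hH.conj_mem _ h q⁻¹
        simpa [mul_assoc] using this
      · exact fun h => hH.conj_mem _ h q
    simp only [h2]
    split_ifs
    · exact blockCoeff_isClass _ g q
    · rfl
  have h2 := mli_sum_conj hM (P : Subgroup G) P.isPGroup' f hfR hfc
  set R := ∑ x, regI p G x with hR
  have hRunit : ¬ MemLocalIdeal M R := sum_regI_not_mli hM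
  intro hS
  rw [h1] at hS
  have h3 : MemLocalIdeal M (∑ c : Subgroup.centralizer ((P : Subgroup G) : Set G), f c) := by
    have h4 := mli_sub hS h2
    convert h4 using 1
    ring
  let L : Subgroup G := Subgroup.centralizer ((P : Subgroup G) : Set G) ⊓ H
  have h5 : MemLocalIdeal M (∑ c : Subgroup.centralizer ((P : Subgroup G) : Set G),
      (if (c : G) ∈ H then (1 : ℂ) else 0) * regI p G (c : G)) := by
    have h6 : MemLocalIdeal M (R * ∑ c : Subgroup.centralizer ((P : Subgroup G) : Set G), f c) :=
      mli_mul_left h3 (by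
        refine mlr_sum _ _ fun x _ => regI_mlr x)
    have h7 : MemLocalIdeal M ((R * ∑ c : Subgroup.centralizer ((P : Subgroup G) : Set G), f c) -
        ∑ c : Subgroup.centralizer ((P : Subgroup G) : Set G),
          (if (c : G) ∈ H then (1 : ℂ) else 0) * regI p G (c : G)) := by
      rw [Finset.mul_sum, ← Finset.sum_sub_distrib]
      refine mli_sum _ _ fun c _ => ?_
      simp only [hf]
      by_cases hcH : (c : G) ∈ H
      · rw [if_pos hcH, if_pos hcH, one_mul]
        by_cases hc : p ∣ orderOf (c : G)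
        · have : a c = 0 := blockCoeff_eq_zero_of_singular hM hB hc
          rw [this]
          unfold regI
          rw [rp_of_sing _ hc]
          simpa using mli_zero
        · have h8 := principal_coeff_centralizer hM P c.2 hc
          unfold regI
          rw [rp_of_reg _ hc]
          exact h8
      · rw [if_neg hcH, if_neg hcH]
        simpa using mli_zero
    have h8 := mli_sub h6 h7
    convert h8 using 1
    ring
  have h9 : (∑ c : Subgroup.centralizer ((P : Subgroup G) : Set G),
      (if (c : G) ∈ H then (1 : ℂ) else 0) * regI p G (c : G)) = ∑ x : L, regI p L x := by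
    have h10 : ∑ c : Subgroup.centralizer ((P : Subgroup G) : Set G),
      (if (c : G) ∈ H then (1 : ℂ) else 0) * regI p G (c : G) =
        ∑ g : G, (if g ∈ L then (1 : ℂ) else 0) * regI p G g := by
      rw [← sum_sub_eq_ite (Subgroup.centralizer ((P : Subgroup G) : Set G))
        (fun g => (if g ∈ H then (1 : ℂ) else 0) * regI p G g)]
      refine Finset.sum_congr rfl fun g _ => ?_
      by_cases hg' : g ∈ Subgroup.centralizer ((P : Subgroup G) : Set G)
      · rw [if_pos hg']
        by_cases hgH : g ∈ H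
        · rw [if_pos hgH, if_pos (show g ∈ L from ⟨hg', hgH⟩)]
        · rw [if_neg hgH, if_neg (fun h : g ∈ L => hgH h.2)]
      · rw [if_neg hg', if_neg (fun h : g ∈ L => hg' h.1), zero_mul]
    rw [h10]
    have h11 : ∀ g : G, (if g ∈ L then (1 : ℂ) else 0) * regI p G g =
        if g ∈ L then regI p G g else 0 := by
      intro g
      split_ifs <;> simp
    simp only [h11]
    rw [sum_sub_eq_ite L (regI p G)]
    refine Finset.sum_congr rfl fun x _ => ?_
    unfold regI rp
    rw [Subgroup.orderOf_coe]
  rw [h9] at h5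
  exact sum_regI_not_mli hM h5

/-- Every member of the principal block of a normal subgroup lies under a member of the principal
block. -/
theorem exists_principal_above (hM : IsPModular p M) (H : Subgroup G) [hH : H.Normal]
    {θ : IrrCharacter H} (hθ : θ ∈ principalBlock M H) :
    ∃ χ ∈ principalBlock M G, ∑ n : H, conj (θ.1 n) * χ.1 n ≠ 0 := by
  classical
  haveI : M.IsPrime := hM.2.1.isPrime
  by_contra hcon
  push Not at hcon
  set a := blockCoeff (principalBlock M G) with ha
  have hB : IsPBlock M (principalBlock M G) := principalBlock_isBlock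
  have hcl : IsClassFunction H (fun h : H => a (h : G)) := by
    intro g k
    have := blockCoeff_isClass (principalBlock M G) (g : G) (k : G)
    simpa using this
  have h1 := ZR_congr (om_mem_ZR (M := M) hcl (fun h => blockCoeff_mlr hB _))
    (show SameBlock M (oneIrr H).1 θ.1 from hθ)
  beta_reduce at h1
  rw [om_oneIrr] at h1
  have h2 : om θ (fun h : H => a (h : G)) = 0 := by
    unfold om
    have h3 : ∑ h : H, a (h : G) * θ.1 h = 0 := by
      have h4 : ∀ h : H, a (h : G) = (Nat.card G : ℂ)⁻¹ * ∑ χ : IrrCharacter G,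
          eB (principalBlock M G) χ * (χ.1 1 * conj (χ.1 h)) := by
        intro h
        rw [ha, blockCoeff_eq_ofOm]
        rfl
      simp only [h4]
      have h5 : ∑ h : H, ((Nat.card G : ℂ)⁻¹ * ∑ χ : IrrCharacter G,
          eB (principalBlock M G) χ * (χ.1 1 * conj (χ.1 h))) * θ.1 h =
          (Nat.card G : ℂ)⁻¹ * ∑ χ : IrrCharacter G, eB (principalBlock M G) χ *
            (χ.1 1 * conj (∑ n : H, conj (θ.1 n) * χ.1 n)) := by
        simp only [map_sum, map_mul, Complex.conj_conj, Finset.mul_sum, Finset.sum_mul]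
        rw [Finset.sum_comm]
        refine Finset.sum_congr rfl fun χ _ => Finset.sum_congr rfl fun h _ => ?_
        ring
      rw [h5]
      have h6 : ∑ χ : IrrCharacter G, eB (principalBlock M G) χ *
            (χ.1 1 * conj (∑ n : H, conj (θ.1 n) * χ.1 n)) = 0 := by
        refine Finset.sum_eq_zero fun χ _ => ?_
        by_cases hχ : χ ∈ principalBlock M G
        · rw [hcon χ hχ]
          simp
        · rw [eB_apply_not_mem hχ, zero_mul]
      rw [h6, mul_zero]
    rw [h3, mul_zero]
  rw [h2, sub_zero] at h1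
  exact sum_principal_not_mli hM H h1

/-- The constituents of a member of the principal block lie in the principal block. -/
theorem principal_constituent (hM : IsPModular p M) (H : Subgroup G) [hH : H.Normal]
    {χ : IrrCharacter G} (hχ : χ ∈ principalBlock M G) {ψ : IrrCharacter H}
    (hψ : ∑ n : H, conj (ψ.1 n) * χ.1 n ≠ 0) : ψ ∈ principalBlock M H := by
  classical
  haveI : M.IsPrime := hM.2.1.isPrime
  have h1 : ∑ n : H, conj ((oneIrr H).1 n) * (oneIrr G).1 n ≠ 0 := by
    have h2 : ∀ n : H, conj ((oneIrr H).1 n) * (oneIrr G).1 n = 1 := by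
      intro n
      unfold oneIrr
      simp
    simp only [h2]
    simp only [Finset.sum_const, Finset.card_univ, nsmul_eq_mul, mul_one]
    exact_mod_cast Fintype.card_ne_zero
  obtain ⟨t, ht⟩ := exists_conj_of_cover (principalBlock_isBlock (M := M) (G := G))
    (principalBlock_isBlock (M := M) (G := H)) oneIrr_mem_principal hχ oneIrr_mem_principal h1 hψ
  have h3 : ψ = conjIrr H t⁻¹ (conjIrr H t ψ) := by
    rw [conjIrr_conjIrr]
    simp [conjIrr_one]
  rw [h3]
  have h4 := image_principalBlock (M := M) (phiK H (q := (t⁻¹)⁻¹) (normalizer_eq_top _))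
  exact h4.subset ⟨_, ht, rfl⟩

/-- The multiplicities of a normal (indeed arbitrary) subgroup character in the regular character. -/
theorem sum_degree_mult (H : Subgroup G) (θ : IrrCharacter H) :
    ∑ χ : IrrCharacter G, (charDegree χ.1 : ℂ) * classInner (fun n : H => χ.1 n) θ.1 =
      (H.index : ℂ) * (charDegree θ.1 : ℂ) := by
  classical
  have hHc : (Nat.card H : ℂ) ≠ 0 := by exact_mod_cast Nat.card_pos.ne'
  have hidx : (Nat.card G : ℂ) = (Nat.card H : ℂ) * (H.index : ℂ) := by
    have := Subgroup.card_mul_index H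
    exact_mod_cast this.symm
  unfold classInner
  have h1 : ∑ χ : IrrCharacter G, (charDegree χ.1 : ℂ) * ((Nat.card H : ℂ)⁻¹ *
      ∑ n : H, χ.1 n * conj (θ.1 n)) = (Nat.card H : ℂ)⁻¹ * ∑ n : H, conj (θ.1 n) *
        ∑ χ : IrrCharacter G, (charDegree χ.1 : ℂ) * χ.1 n := by
    simp only [Finset.mul_sum]
    rw [Finset.sum_comm]
    refine Finset.sum_congr rfl fun χ _ => Finset.sum_congr rfl fun n _ => ?_
    ring
  rw [h1, Finset.sum_eq_single (1 : H)]
  · have h2 : ∑ χ : IrrCharacter G, (charDegree χ.1 : ℂ) * χ.1 ((1 : H) : G) = (Nat.card G : ℂ) := by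
      have h3 := sum_degree_sq (G := G)
      have h4 : ((∑ χ : IrrCharacter G, (charDegree (χ : G → ℂ)) ^ 2 : ℕ) : ℂ) = (Nat.card G : ℂ) := by
        rw [h3]
      rw [← h4]
      push_cast
      refine Finset.sum_congr rfl fun χ _ => ?_
      have h5 : χ.1 1 = (charDegree χ.1 : ℂ) :=
        Cfsg.Agent.H21.one_eq_charDegree (isCharacter_of_irr χ.2)
      rw [h5]
      ring
    rw [h2, hidx]
    have h6 : conj (θ.1 1) = (charDegree θ.1 : ℂ) := by
      rw [Cfsg.Agent.H21.one_eq_charDegree (isCharacter_of_irr θ.2)]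
      simp
    rw [h6]
    field_simp
  · intro n _ hn
    have h7 : (n : G) ≠ 1 := fun h => hn (Subtype.ext h)
    rw [sum_degree_mul_value_ne h7, mul_zero]
  · intro h
    exact absurd (Finset.mem_univ _) h

/-- **`λ(H) ≤ λ(G) ≤ [G:H] λ(H)`**. -/
theorem principal_lambda (hM : IsPModular p M) (H : Subgroup G) [hH : H.Normal] :
    (∑ᶠ θ ∈ principalBlock M H, charDegree (θ : H → ℂ) ^ 2) ≤
        (∑ᶠ χ ∈ principalBlock M G, charDegree (χ : G → ℂ) ^ 2) ∧
      (∑ᶠ χ ∈ principalBlock M G, charDegree (χ : G → ℂ) ^ 2) ≤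
        H.index * ∑ᶠ θ ∈ principalBlock M H, charDegree (θ : H → ℂ) ^ 2 := by
  classical
  haveI : M.IsPrime := hM.2.1.isPrime
  have hmex : ∀ (χ : IrrCharacter G) (θ : IrrCharacter H),
      ∃ m : ℕ, classInner (fun n : H => χ.1 n) θ.1 = m := fun χ θ =>
    classInner_isNat (isCharacter_restrict H (isCharacter_of_irr χ.2)) θ
  choose m hm using hmex
  have hHc : (Nat.card H : ℂ) ≠ 0 := by exact_mod_cast Nat.card_pos.ne'
  have hmne : ∀ χ θ, m χ θ ≠ 0 → ∑ n : H, conj (θ.1 n) * χ.1 n ≠ 0 := by
    intro χ θ h h0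
    apply h
    have h1 := hm χ θ
    unfold classInner at h1
    have h2 : ∑ n : H, χ.1 n * conj (θ.1 n) = 0 := by
      rw [← h0]
      exact Finset.sum_congr rfl fun n _ => mul_comm _ _
    rw [h2, mul_zero] at h1
    exact_mod_cast h1.symm
  have hmne' : ∀ χ θ, ∑ n : H, conj (θ.1 n) * χ.1 n ≠ 0 → m χ θ ≠ 0 := by
    intro χ θ h h0
    apply h
    have h1 := hm χ θ
    unfold classInner at h1
    rw [h0] at h1
    have h2 := (mul_eq_zero.mp (by simpa using h1)).resolve_left (inv_ne_zero hHc)
    rw [← h2]
    exact Finset.sum_congr rfl fun n _ => mul_comm _ _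
  -- E1
  have hE1 : ∀ χ : IrrCharacter G, charDegree χ.1 = ∑ θ : IrrCharacter H, m χ θ * charDegree θ.1 := by
    intro χ
    have hcl : IsClassFunction H (fun n : H => χ.1 n) := by
      intro g k
      have := irr_conj' χ (g : G) (k : G)
      simpa using this
    have h1 := congrFun (classFunction_expansion (fun n : H => χ.1 n) hcl) 1
    simp only [Finset.sum_apply, Pi.smul_apply, smul_eq_mul] at h1
    have h2 : χ.1 ((1 : H) : G) = (charDegree χ.1 : ℂ) := by
      rw [Subgroup.coe_one]
      exact Cfsg.Agent.H21.one_eq_charDegree (isCharacter_of_irr χ.2)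
    rw [h2] at h1
    have h3 : ((∑ θ : IrrCharacter H, m χ θ * charDegree θ.1 : ℕ) : ℂ) = (charDegree χ.1 : ℂ) := by
      rw [h1]
      push_cast
      refine Finset.sum_congr rfl fun θ _ => ?_
      rw [hm χ θ, Cfsg.Agent.H21.one_eq_charDegree (isCharacter_of_irr θ.2)]
    exact_mod_cast h3.symm
  -- E2
  have hE2 : ∀ θ : IrrCharacter H, ∑ χ : IrrCharacter G, charDegree χ.1 * m χ θ = H.index * charDegree θ.1 := by
    intro θ
    have h1 := sum_degree_mult (G := G) H θ
    simp only [hm] at h1
    exact_mod_cast h1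
  set BG : Finset (IrrCharacter G) := Finset.univ.filter (· ∈ principalBlock M G) with hBG
  set BH : Finset (IrrCharacter H) := Finset.univ.filter (· ∈ principalBlock M H) with hBH
  have hfG : (∑ᶠ χ ∈ principalBlock M G, charDegree (χ : G → ℂ) ^ 2) = ∑ χ ∈ BG, charDegree χ.1 ^ 2 := by
    rw [finsum_mem_eq_finite_toFinset_sum _ (Set.toFinite _)]
    refine Finset.sum_congr ?_ fun _ _ => rfl
    ext χ
    simp [hBG]
  have hfH : (∑ᶠ θ ∈ principalBlock M H, charDegree (θ : H → ℂ) ^ 2) = ∑ θ ∈ BH, charDegree θ.1 ^ 2 := by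
    rw [finsum_mem_eq_finite_toFinset_sum _ (Set.toFinite _)]
    refine Finset.sum_congr ?_ fun _ _ => rfl
    ext χ
    simp [hBH]
  rw [hfG, hfH]
  -- E3
  have hE3 : ∀ χ ∈ BG, charDegree χ.1 = ∑ θ ∈ BH, m χ θ * charDegree θ.1 := by
    intro χ hχ
    rw [hE1 χ]
    symm
    refine Finset.sum_subset (Finset.subset_univ _) fun θ _ hθ => ?_
    have h1 : m χ θ = 0 := by
      by_contra h
      apply hθ
      rw [hBH, Finset.mem_filter]
      exact ⟨Finset.mem_univ _, principal_constituent hM H (Finset.mem_filter.mp hχ).2 (hmne χ θ h)⟩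
    rw [h1, zero_mul]
  have hlam : ∑ χ ∈ BG, charDegree χ.1 ^ 2 = ∑ θ ∈ BH, charDegree θ.1 * ∑ χ ∈ BG, charDegree χ.1 * m χ θ := by
    have h1 : ∀ χ ∈ BG, charDegree χ.1 ^ 2 = ∑ θ ∈ BH, charDegree χ.1 * (m χ θ * charDegree θ.1) := by
      intro χ hχ
      rw [← Finset.mul_sum, ← hE3 χ hχ, sq]
    rw [Finset.sum_congr rfl h1, Finset.sum_comm]
    refine Finset.sum_congr rfl fun θ _ => ?_
    rw [Finset.mul_sum]
    refine Finset.sum_congr rfl fun χ _ => ?_
    ring
  rw [hlam]
  constructor
  · refine Finset.sum_le_sum fun θ hθ => ?_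
    rw [sq]
    refine Nat.mul_le_mul_left _ ?_
    obtain ⟨χ, hχ, hne⟩ := exists_principal_above hM H (Finset.mem_filter.mp hθ).2
    have hm0 := hmne' χ θ hne
    have hχ' : χ ∈ BG := Finset.mem_filter.mpr ⟨Finset.mem_univ _, hχ⟩
    have h1 : charDegree θ.1 ≤ charDegree χ.1 := by
      rw [hE1 χ]
      calc charDegree θ.1 ≤ m χ θ * charDegree θ.1 := Nat.le_mul_of_pos_left _ (Nat.pos_of_ne_zero hm0)
        _ ≤ _ := Finset.single_le_sum (f := fun θ => m χ θ * charDegree θ.1) (fun _ _ => Nat.zero_le _) (Finset.mem_univ θ)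
    calc charDegree θ.1 ≤ charDegree χ.1 * m χ θ := h1.trans (Nat.le_mul_of_pos_right _ (Nat.pos_of_ne_zero hm0))
      _ ≤ _ := Finset.single_le_sum (f := fun χ => charDegree χ.1 * m χ θ) (fun _ _ => Nat.zero_le _) hχ'
  · rw [Finset.mul_sum]
    refine Finset.sum_le_sum fun θ hθ => ?_
    have h1 : ∑ χ ∈ BG, charDegree χ.1 * m χ θ ≤ H.index * charDegree θ.1 := by
      rw [← hE2 θ]
      exact Finset.sum_le_sum_of_subset (Finset.subset_univ _)
    calc charDegree θ.1 * ∑ χ ∈ BG, charDegree χ.1 * m χ θ ≤ charDegree θ.1 * (H.index * charDegree θ.1) :=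
          Nat.mul_le_mul_left _ h1
      _ = _ := by ring

end Cfsg.Agent.H22
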