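import Cfsg.Agent.Lib.H22.Inertial

/-! # The Brauer correspondence over an overgroup of the normalizer -/

set_option autoImplicit false
set_option linter.unusedSectionVars false
set_option linter.style.haveILetI false
set_option linter.unusedSimpArgs false

namespace Cfsg.Agent.H22

open Cfsg Cfsg.Agent.H21 Module
open scoped ComplexConjugate

universe u

section Main

variable {G : Type u} [Group G] [Finite G] {p : ℕ} [hp : Fact p.Prime] {M : Ideal AlgInt}

variable (hM : IsPModular p M)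
include hM

/-- A normal inclusion in `G` above a pair on a subgroup of `H` descends to `H`. -/
theorem normalSubpair_descend_H {H : Subgroup G} {D₀ : Subgroup H} {R₀ : Subgroup G}
    (hR₀ : D₀.map H.subtype = R₀) (hC : Subgroup.centralizer (R₀ : Set G) ≤ H)
    (hz : ZComp H D₀ R₀) {e₀ : Set (IrrCharacter (Subgroup.centralizer (D₀ : Set H)))}
    {R : Subgroup G} {g : Set (IrrCharacter (Subgroup.centralizer (R : Set G)))}
    (hRH : R ≤ H) (hz₁ : ZComp H (R.subgroupOf H) R)
    (h2 : IsNormalSubpair p M R₀ (irrMap (zIso hz) '' e₀) R g) :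
    IsNormalSubpair p M D₀ e₀ (R.subgroupOf H) (irrMap (zIso hz₁).symm '' g) := by
  classical
  haveI : M.IsPrime := hM.2.1.isPrime
  subst hR₀
  obtain ⟨hb₁, hg, hle, hRN, hst, hsub⟩ := isNormalSubpair_iff.mp h2
  have hRp : IsPGroup p R := hg.1
  have hR₁p : IsPGroup p (R.subgroupOf H) := hRp.comap_of_injective _ (Subgroup.subtype_injective H)
  have hg₁b : IsBrauerPair p M (R.subgroupOf H) (irrMap (zIso hz₁).symm '' g) :=
    ⟨hR₁p, isPBlock_image _ hg.2⟩
  have hD₀R : D₀ ≤ R.subgroupOf H := by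
    intro x hx
    rw [Subgroup.mem_subgroupOf]
    exact hle ⟨x, hx, rfl⟩
  have hR₁N : R.subgroupOf H ≤ Subgroup.normalizer (D₀ : Set H) := by
    intro x hx
    rw [Subgroup.mem_subgroupOf] at hx
    rw [Subgroup.mem_normalizer_iff]
    intro y
    have hxN := Subgroup.mem_normalizer_iff.mp (hRN hx)
    have hinj : ∀ w : H, w ∈ D₀ ↔ (w : G) ∈ D₀.map H.subtype := by
      intro w
      constructor
      · intro hw
        exact ⟨w, hw, rfl⟩
      · rintro ⟨w', hw', heq⟩
        have : w' = w := Subtype.ext heq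
        rwa [← this]
    rw [hinj, hinj]
    simpa using hxN (y : G)
  obtain ⟨f', hf', -⟩ := existsUnique_normalSubpair hM hg₁b hD₀R hR₁N
  have h3 := normalSubpair_phiH (Q := D₀.map H.subtype) hC (le_refl _) hf'
  have h4 : phiH H ⟨R.subgroupOf H, irrMap (zIso hz₁).symm '' g⟩ = ⟨R, g⟩ := phiH_subgroupOf hz₁ hRH g
  rw [h4] at h3
  have h5 : IsNormalSubpair p M (D₀.map H.subtype) (phiS H D₀ f') R g := h3
  rw [phiS_eq hz] at h5
  have h6 := normalSubpair_unique hM h5 h2
  have h7 : f' = e₀ := by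
    have hinj : Function.Injective (irrMap (zIso hz)) := by
      intro a b hab
      have := congrArg (irrMap (zIso hz).symm) hab
      rwa [irrMap_symm_irrMap, irrMap_symm_irrMap] at this
    exact Set.image_injective.mpr hinj h6
  rw [← h7]
  exact hf'

omit hM hp in
theorem bw_congr_sbc {P H : Subgroup G} [M.IsPrime] {B : Set (IrrCharacter G)} {c : Set (IrrCharacter H)}
    {D₀ : Subgroup H} (hz : ZComp H D₀ P) (hCH : Subgroup.centralizer (P : Set G) ≤ H)
    (hR : ∀ x : G, x ∈ Subgroup.centralizer (P : Set G) →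
      MemLocalIdeal M (blockCoeff B x - subgroupBlockCoeff H c x))
    (ξ₀ : IrrCharacter (Subgroup.centralizer (D₀ : Set H))) :
    MemLocalIdeal M (bw P (irrMap (zIso hz) ξ₀) (blockCoeff B) - bw D₀ ξ₀ (blockCoeff c)) := by
  have h1 := bw_zIso hz ξ₀ (a := subgroupBlockCoeff H c) (ã := blockCoeff c)
    (fun c' => sbc_of_coe H c _)
  rw [← h1]
  refine bw_congr _ (blockCoeff_Ad B _) (sbc_Ad_of_le hCH c) fun x => hR x x.2

/-- Congruent truncations have the same occurring characters. -/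
theorem brSet_iff_of_congr {P H : Subgroup G} {B : Set (IrrCharacter G)} {c : Set (IrrCharacter H)}
    {D₀ : Subgroup H} (hz : ZComp H D₀ P) (hCH : Subgroup.centralizer (P : Set G) ≤ H)
    (hR : ∀ x : G, x ∈ Subgroup.centralizer (P : Set G) →
      MemLocalIdeal M (blockCoeff B x - subgroupBlockCoeff H c x))
    (ξ₀ : IrrCharacter (Subgroup.centralizer (D₀ : Set H))) :
    ξ₀ ∈ brSet M D₀ (blockCoeff c) ↔ irrMap (zIso hz) ξ₀ ∈ brSet M P (blockCoeff B) := by
  haveI : M.IsPrime := hM.2.1.isPrime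
  have h := bw_congr_sbc hz hCH hR ξ₀
  constructor
  · intro h1
    have h2 : MemLocalIdeal M (bw D₀ ξ₀ (blockCoeff c) - 1) := h1
    show MemLocalIdeal M (bw P _ _ - 1)
    have h3 := mli_add h h2
    convert h3 using 1
    ring
  · intro h1
    have h2 : MemLocalIdeal M (bw P (irrMap (zIso hz) ξ₀) (blockCoeff B) - 1) := h1
    show MemLocalIdeal M (bw D₀ ξ₀ _ - 1)
    have h3 := mli_sub h2 h
    convert h3 using 1
    ring

/-- Same occurring characters give congruent truncations. -/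
theorem congr_of_brSet_iff {P H : Subgroup G} (hP : IsPGroup p P) {B : Set (IrrCharacter G)}
    {c : Set (IrrCharacter H)} (hB : IsPBlock M B) (hc : IsPBlock M c) {D₀ : Subgroup H}
    (hD₀ : IsPGroup p D₀) (hz : ZComp H D₀ P) (hCH : Subgroup.centralizer (P : Set G) ≤ H)
    (hiff : ∀ ξ₀ : IrrCharacter (Subgroup.centralizer (D₀ : Set H)),
      ξ₀ ∈ brSet M D₀ (blockCoeff c) ↔ irrMap (zIso hz) ξ₀ ∈ brSet M P (blockCoeff B)) :
    ∀ x : G, x ∈ Subgroup.centralizer (P : Set G) →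
      MemLocalIdeal M (blockCoeff B x - subgroupBlockCoeff H c x) := by
  classical
  haveI : M.IsPrime := hM.2.1.isPrime
  intro x hx
  have h1 := brT_congr_blockCoeff hM hP (a := blockCoeff B) (blockCoeff_mlr hB) (blockCoeff_Ad B _)
    (blockCoeff_Ad B _) (fun g => by rw [blockCoeff_conv_self, sub_self]; exact mli_zero) ⟨x, hx⟩
  have h2 := brT_congr_blockCoeff hM hD₀ (a := blockCoeff c) (blockCoeff_mlr hc) (blockCoeff_Ad c _)
    (blockCoeff_Ad c _) (fun g => by rw [blockCoeff_conv_self, sub_self]; exact mli_zero)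
    ((zIso hz).symm ⟨x, hx⟩)
  have hset : brSet M P (blockCoeff B) = irrMap (zIso hz) '' brSet M D₀ (blockCoeff c) := by
    ext ξ
    constructor
    · intro hξ
      refine ⟨irrMap (zIso hz).symm ξ, ?_, ?_⟩
      · rw [hiff]
        have h3 := irrMap_symm_irrMap (zIso hz).symm ξ
        rw [MulEquiv.symm_symm] at h3
        rw [h3]
        exact hξ
      · have h3 := irrMap_symm_irrMap (zIso hz).symm ξ
        rwa [MulEquiv.symm_symm] at h3
    · rintro ⟨ξ₀, hξ₀, rfl⟩
      exact (hiff ξ₀).1 hξ₀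
  rw [hset, blockCoeff_image] at h1
  have h3 : subgroupBlockCoeff H c x = blockCoeff c (((zIso hz).symm ⟨x, hx⟩ : Subgroup.centralizer (D₀ : Set H)) : H) := by
    have := sbc_of_coe H c (((zIso hz).symm ⟨x, hx⟩ : Subgroup.centralizer (D₀ : Set H)) : H)
    exact this
  rw [h3]
  have h4 := mli_sub h1 h2
  convert h4 using 1
  ring

/-- The occurring characters for a maximal pair. -/
theorem brSet_iff_of_maximal {P H : Subgroup G} (hPH : P ≤ H)
    (hH : Subgroup.normalizer (P : Set G) ≤ H) {B : Set (IrrCharacter G)} {c : Set (IrrCharacter H)}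
    (hc : IsPBlock M c) {D₀ : Subgroup H} (hD₀ : IsPGroup p D₀)
    (hD₀P : ∀ w : H, w ∈ D₀ ↔ (w : G) ∈ P) (hz : ZComp H D₀ P)
    (hind : IsInducedBlock M H c B)
    {e₀ : Set (IrrCharacter (Subgroup.centralizer (D₀ : Set H)))}
    (he₀ : IsBrauerPairOf p M c D₀ e₀)
    (hmax : IsMaximalBrauerPair p M B P (irrMap (zIso hz) '' e₀))
    (ξ₀ : IrrCharacter (Subgroup.centralizer (D₀ : Set H))) :
    ξ₀ ∈ brSet M D₀ (blockCoeff c) ↔ irrMap (zIso hz) ξ₀ ∈ brSet M P (blockCoeff B) := by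
  classical
  haveI : M.IsPrime := hM.2.1.isPrime
  have hPb := isBrauerPairOf_iff.mp hmax.1
  have hPp : IsPGroup p P := hPb.1.1
  constructor
  · intro h1
    have hblock : IsPBlock M (blockOf M ξ₀.1) := isBlock_blockOf ξ₀
    have hpair : IsBrauerPairOf p M c D₀ (blockOf M ξ₀.1) := by
      rw [isBrauerPairOf_iff]
      exact ⟨⟨hD₀, hblock⟩, hc, block_subset_brSet (blockCoeff_Ad c _) (blockCoeff_mlr hc) hblock
        (self_mem_blockOf _) h1⟩
    have h2 := pair_of_induced hM hz hD₀ hPp hind hpair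
    exact (isBrauerPairOf_iff.mp h2).2.2 ⟨ξ₀, self_mem_blockOf _, rfl⟩
  · intro h1
    have hblock : IsPBlock M (blockOf M (irrMap (zIso hz) ξ₀).1) := isBlock_blockOf _
    have hpair : IsBrauerPairOf p M B P (blockOf M (irrMap (zIso hz) ξ₀).1) := by
      rw [isBrauerPairOf_iff]
      exact ⟨⟨hPp, hblock⟩, hPb.2.1, block_subset_brSet (blockCoeff_Ad B _) (blockCoeff_mlr hPb.2.1)
        hblock (self_mem_blockOf _) h1⟩
    obtain ⟨n, hn, hEq⟩ := exists_conj_of_maximal hM hmax hpair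
    have h2 : irrMap (zIso hz) ξ₀ ∈
        irrMap (phiK _ (normalizer_le_normalizer_centralizer P hn)) '' (irrMap (zIso hz) '' e₀) := by
      rw [← hEq]
      exact self_mem_blockOf _
    obtain ⟨_, ⟨ξ₁, hξ₁, rfl⟩, h3⟩ := h2
    -- the element of `H`
    have hnH : n ∈ H := hH hn
    let n' : H := ⟨n, hnH⟩
    have hn'N : n' ∈ Subgroup.normalizer (D₀ : Set H) := by
      rw [Subgroup.mem_normalizer_iff]
      intro y
      rw [hD₀P, hD₀P]
      exact (Subgroup.mem_normalizer_iff.mp hn) (y : G)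
    have hst := brSet_stable (M := M) (R := D₀) (R₁ := Subgroup.normalizer (D₀ : Set H))
      (a := blockCoeff c) (normalizer_le_normalizer_centralizer D₀) (blockCoeff_Ad c _) ⟨n', hn'N⟩
    rw [← hst]
    refine ⟨ξ₁, (isBrauerPairOf_iff.mp he₀).2.2 hξ₁, ?_⟩
    apply Subtype.ext
    funext l
    have h4 := congrArg (fun ξ : IrrCharacter (Subgroup.centralizer (P : Set G)) => ξ.1 (zIso hz l)) h3
    simp only [irrMap_apply] at h4 ⊢
    rw [MulEquiv.symm_apply_apply] at h4
    rw [← h4]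
    refine congrArg ξ₁.1 ?_
    apply Subtype.ext
    apply Subtype.ext
    rfl

theorem zcomp_subgroupOf {P H : Subgroup G} (hPH : P ≤ H)
    (hCH : Subgroup.centralizer (P : Set G) ≤ H) : ZComp H (P.subgroupOf H) P := by
  have h1 := zComp_map' (H := H) (D := P.subgroupOf H) (Q := P) hCH
    (le_of_eq (map_subgroupOf_subtype hPH).symm)
  rwa [map_subgroupOf_subtype hPH] at h1

/-- **Brauer correspondence, from `G`.** -/
theorem brauer_corr_down {P H : Subgroup G} (hP : IsPGroup p P)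
    (hH : Subgroup.normalizer (P : Set G) ≤ H) {B : Set (IrrCharacter G)} (hB : IsPBlock M B)
    (hD : IsDefectGroup p M B P) :
    ∃! c : Set (IrrCharacter H), IsPBlock M c ∧ IsDefectGroup p M c (P.subgroupOf H) ∧
      ∀ x : G, x ∈ Subgroup.centralizer (P : Set G) →
        MemLocalIdeal M (blockCoeff B x - subgroupBlockCoeff H c x) := by
  classical
  haveI : M.IsPrime := hM.2.1.isPrime
  have hPH : P ≤ H := Subgroup.le_normalizer.trans hH
  have hCH : Subgroup.centralizer (P : Set G) ≤ H := (Subgroup.centralizer_le_normalizer _).trans hH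
  have hz := zcomp_subgroupOf (M := M) hM hPH hCH
  have hP' : IsPGroup p (P.subgroupOf H) := hP.comap_of_injective _ (Subgroup.subtype_injective H)
  have hD₀P : ∀ w : H, w ∈ P.subgroupOf H ↔ (w : G) ∈ P := fun w => Subgroup.mem_subgroupOf
  obtain ⟨e, hmax⟩ := exists_maximal_on_defect hM hD hB
  have hePb := isBrauerPairOf_iff.mp hmax.1
  set e₀ := irrMap (zIso hz).symm '' e with he₀
  have himg : irrMap (zIso hz) '' e₀ = e := by
    ext ξ
    constructor
    · rintro ⟨_, ⟨ξ', hξ', rfl⟩, rfl⟩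
      have h3 := irrMap_symm_irrMap (zIso hz).symm ξ'
      rw [MulEquiv.symm_symm] at h3
      rwa [h3]
    · intro hξ
      refine ⟨irrMap (zIso hz).symm ξ, ⟨ξ, hξ, rfl⟩, ?_⟩
      have h3 := irrMap_symm_irrMap (zIso hz).symm ξ
      rwa [MulEquiv.symm_symm] at h3
  have he₀b : IsBrauerPair p M (P.subgroupOf H) e₀ := ⟨hP', isPBlock_image _ hePb.1.2⟩
  obtain ⟨c, hcpair, hcuniq⟩ := existsUnique_block_of_pair hM he₀b
  have hcb := isBrauerPairOf_iff.mp hcpair
  have hc : IsPBlock M c := hcb.2.1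
  obtain ⟨ξ₀, hξ₀⟩ := block_nonempty he₀b.2
  have hξ₀e : irrMap (zIso hz) ξ₀ ∈ e := by
    rw [← himg]
    exact ⟨ξ₀, hξ₀, rfl⟩
  have hind : IsInducedBlock M H c B := ⟨hc, hB, fun ψ hψ χ hχ g =>
    indCC_congr_of_pair hM hz hP' hP hc hB (hcb.2.2 hξ₀) (hePb.2.2 hξ₀e) hψ hχ g⟩
  -- the defect group
  obtain ⟨D₁, hD₁⟩ := isDefectGroup_exists (p := p) hc
  obtain ⟨t, ht⟩ := subConj_of_pair hM hcpair hD₁
  obtain ⟨E, hE, hle⟩ := induced_defect_le hM hind hD₁
  have hcE := card_defect_eq hM hB hE hD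
  have hcard : Nat.card D₁ ≤ Nat.card (P.subgroupOf H) := by
    have h1 : Nat.card (D₁.map H.subtype) ≤ Nat.card E := Subgroup.card_le_of_le hle
    rw [Subgroup.card_map_of_injective (Subgroup.subtype_injective H), hcE] at h1
    have h2 : Nat.card (P.subgroupOf H) = Nat.card P :=
      Nat.card_congr (Subgroup.subgroupOfEquivOfLe hPH).toEquiv
    rw [h2]
    exact h1
  have hcq : cq t (P.subgroupOf H) = D₁ := by
    apply Subgroup.eq_of_le_of_card_ge
    · rintro _ ⟨s, hs, rfl⟩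
      exact ht s hs
    · rw [Subgroup.card_map_of_injective (MulEquiv.injective _)]
      exact hcard
  have hcD : IsDefectGroup p M c (P.subgroupOf H) := by
    have h1 := isDefectGroup_cq t⁻¹ hD₁
    rw [← hcq, cq_mul, inv_mul_cancel, cq_one] at h1
    exact h1
  have hmax' : IsMaximalBrauerPair p M B P (irrMap (zIso hz) '' e₀) := by
    rw [himg]
    exact hmax
  have hiff := brSet_iff_of_maximal hM hPH hH hc hP' hD₀P hz hind hcpair hmax'
  refine ⟨c, ⟨hc, hcD, congr_of_brSet_iff hM hP hB hc hP' hz hCH hiff⟩, ?_⟩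
  rintro c₂ ⟨hc₂, -, hR₂⟩
  apply hcuniq
  rw [isBrauerPairOf_iff]
  refine ⟨he₀b, hc₂, ?_⟩
  intro ξ hξ
  rw [brSet_iff_of_congr hM hz hCH hR₂]
  apply hePb.2.2
  rw [← himg]
  exact ⟨ξ, hξ, rfl⟩

/-- **Brauer correspondence, from `H`.** -/
theorem brauer_corr_up {P H : Subgroup G} (hP : IsPGroup p P)
    (hH : Subgroup.normalizer (P : Set G) ≤ H) {c : Set (IrrCharacter H)} (hc : IsPBlock M c)
    (hcD : IsDefectGroup p M c (P.subgroupOf H)) :
    ∃! B : Set (IrrCharacter G), IsPBlock M B ∧ IsDefectGroup p M B P ∧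
      ∀ x : G, x ∈ Subgroup.centralizer (P : Set G) →
        MemLocalIdeal M (blockCoeff B x - subgroupBlockCoeff H c x) := by
  classical
  haveI : M.IsPrime := hM.2.1.isPrime
  have hPH : P ≤ H := Subgroup.le_normalizer.trans hH
  have hCH : Subgroup.centralizer (P : Set G) ≤ H := (Subgroup.centralizer_le_normalizer _).trans hH
  have hz := zcomp_subgroupOf (M := M) hM hPH hCH
  have hP' : IsPGroup p (P.subgroupOf H) := hP.comap_of_injective _ (Subgroup.subtype_injective H)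
  have hD₀P : ∀ w : H, w ∈ P.subgroupOf H ↔ (w : G) ∈ P := fun w => Subgroup.mem_subgroupOf
  obtain ⟨e₀, hmax₀⟩ := exists_maximal_on_defect hM hcD hc
  have hcb := isBrauerPairOf_iff.mp hmax₀.1
  have heb : IsBrauerPair p M P (irrMap (zIso hz) '' e₀) := ⟨hP, isPBlock_image _ hcb.1.2⟩
  obtain ⟨B, hBpair, hBuniq⟩ := existsUnique_block_of_pair hM heb
  have hBb := isBrauerPairOf_iff.mp hBpair
  have hB : IsPBlock M B := hBb.2.1
  obtain ⟨ξ₀, hξ₀⟩ := block_nonempty hcb.1.2
  have hind : IsInducedBlock M H c B := ⟨hc, hB, fun ψ hψ χ hχ g =>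
    indCC_congr_of_pair hM hz hP' hP hc hB (hcb.2.2 hξ₀) (hBb.2.2 ⟨ξ₀, hξ₀, rfl⟩) hψ hχ g⟩
  -- maximality
  have hmax : IsMaximalBrauerPair p M B P (irrMap (zIso hz) '' e₀) := by
    refine ⟨hBpair, fun R g hRg hle => ?_⟩
    by_contra hne
    obtain ⟨⟨R₁, g₁⟩, hstep, hlt⟩ := exists_normal_step hle (Ne.symm hne)
    have hstep' : IsNormalSubpair p M P (irrMap (zIso hz) '' e₀) R₁ g₁ := hstep
    obtain ⟨hb₁, hb₂, hle₁, hN, hstb, hsub⟩ := isNormalSubpair_iff.mp hstep'
    have hlt' : P < R₁ := hlt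
    have hR₁H : R₁ ≤ H := hN.trans hH
    have hz₁ : ZComp H (R₁.subgroupOf H) R₁ :=
      zcomp_subgroupOf (M := M) hM hR₁H ((centralizer_le_of_le hle₁).trans hCH)
    have h1 := normalSubpair_descend_H hM (map_subgroupOf_subtype hPH) hCH hz hR₁H hz₁ hstep'
    have h2 := isBrauerPairOf_of_normalSubpair hM h1 hmax₀.1
    have h3 := hmax₀.2 _ _ h2 (Relation.ReflTransGen.single h1)
    have h4 : R₁ = P := by
      have h5 := map_subgroupOf_subtype hR₁H
      rw [h3, map_subgroupOf_subtype hPH] at h5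
      exact h5.symm
    exact hlt'.ne h4.symm
  have hiff := brSet_iff_of_maximal hM hPH hH hc hP' hD₀P hz hind hmax₀.1 hmax
  refine ⟨B, ⟨hB, isDefectGroup_of_maximal hM hmax, congr_of_brSet_iff hM hP hB hc hP' hz hCH hiff⟩, ?_⟩
  rintro B₂ ⟨hB₂, -, hR₂⟩
  apply hBuniq
  rw [isBrauerPairOf_iff]
  refine ⟨heb, hB₂, ?_⟩
  rintro _ ⟨ξ, hξ, rfl⟩
  rw [← brSet_iff_of_congr hM hz hCH hR₂]
  exact hcb.2.2 hξ

end Main

end Cfsg.Agent.H22
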