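import Mathlib
import Cfsg.Prelude.Def_DegreeGraph

/-!
# Abstract combinatorics of the relative degree graph: orbits, twists and determinants
-/

set_option autoImplicit false
set_option linter.unusedSectionVars false
set_option linter.unusedSimpArgs false
set_option linter.unusedVariables false
set_option linter.style.longLine false

namespace Cfsg.Agent.H22.DG

open Cfsg

section Basic

variable {G α : Type*} [Group G] [MulAction G α] [Finite α]

/-- The orbit as a finset. -/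
noncomputable def orbF (G : Type*) {α : Type*} [Group G] [MulAction G α] [Finite α] (x : α) :
    Finset α :=
  (Set.toFinite (MulAction.orbit G x)).toFinset

theorem mem_orbF {x y : α} : y ∈ orbF G x ↔ ∃ g : G, g • x = y := by
  simp [orbF, MulAction.mem_orbit_iff]

theorem self_mem_orbF (x : α) : x ∈ orbF G x := mem_orbF.mpr ⟨1, one_smul _ _⟩

/-- The orbit size. -/
noncomputable def tt (G : Type*) {α : Type*} [Group G] [MulAction G α] [Finite α] (x : α) : ℕ :=
  (orbF G x).card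

theorem tt_pos (x : α) : 0 < tt G x := Finset.card_pos.mpr ⟨x, self_mem_orbF x⟩

theorem tt_eq_index (x : α) : tt G x = (MulAction.stabilizer G x).index := by
  rw [MulAction.index_stabilizer, tt, orbF, ← Set.ncard_eq_toFinset_card]

theorem orbF_of_inv {x : α} (h : ∀ g : G, g • x = x) : orbF G x = {x} := by
  ext y
  rw [mem_orbF, Finset.mem_singleton]
  constructor
  · rintro ⟨g, rfl⟩
    exact h g
  · rintro rfl
    exact ⟨1, one_smul _ _⟩

theorem tt_of_inv {x : α} (h : ∀ g : G, g • x = x) : tt G x = 1 := by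
  rw [tt, orbF_of_inv h, Finset.card_singleton]

theorem inv_of_tt {x : α} (h : tt G x = 1) (g : G) : g • x = x := by
  rw [tt, Finset.card_eq_one] at h
  obtain ⟨y, hy⟩ := h
  have h1 : x ∈ orbF G x := self_mem_orbF x
  have h2 : g • x ∈ orbF G x := mem_orbF.mpr ⟨g, rfl⟩
  rw [hy, Finset.mem_singleton] at h1 h2
  exact h2.trans h1.symm

theorem exists_mul_of_coprime [Finite G] (H K : Subgroup G) (hc : Nat.Coprime H.index K.index)
    (g : G) : ∃ a ∈ H, ∃ b ∈ K, g = a * b := by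
  classical
  have h1 : K.relIndex H = K.index := by
    have h2 : (H ⊓ K).index = K.relIndex H * H.index := by
      rw [← Subgroup.inf_relIndex_left, Subgroup.relIndex_mul_index inf_le_left]
    have h3 : K.index ∣ K.relIndex H * H.index := by
      rw [← h2]
      exact Subgroup.index_dvd_of_le inf_le_right
    have h4 : K.index ∣ K.relIndex H := (Nat.Coprime.symm hc).dvd_of_dvd_mul_right h3
    have h5 : K.relIndex H ≤ K.index := by
      have := Subgroup.relIndex_le_of_le_right (H := K) (K := H) (L := ⊤) le_top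
        (by rw [Subgroup.relIndex_top_right]; exact Subgroup.index_ne_zero_of_finite)
      rwa [Subgroup.relIndex_top_right] at this
    have h6 : 0 < K.relIndex H := Nat.pos_of_ne_zero (by
      intro h0
      have h00 : (K.subgroupOf H).index = 0 := h0
      exact Subgroup.index_ne_zero_of_finite h00)
    exact le_antisymm h5 (Nat.le_of_dvd h6 h4)
  let q₀ : G ⧸ K := ((1 : G) : G ⧸ K)
  have hst : MulAction.stabilizer H q₀ = K.subgroupOf H := by
    ext a
    rw [MulAction.mem_stabilizer_iff, Subgroup.mem_subgroupOf]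
    show ((a : G) • q₀ = q₀) ↔ _
    show (((a : G) * 1 : G) : G ⧸ K) = _ ↔ _
    rw [mul_one, QuotientGroup.eq]
    simp
  have hcard : Nat.card (MulAction.orbit H q₀) = Nat.card (G ⧸ K) := by
    rw [Nat.card_coe_set_eq, ← MulAction.index_stabilizer, hst]
    exact h1
  have huniv : MulAction.orbit H q₀ = Set.univ := by
    apply Set.eq_of_subset_of_ncard_le (Set.subset_univ _)
    rw [Set.ncard_univ, ← Nat.card_coe_set_eq, hcard]
  have hg : ((g : G) : G ⧸ K) ∈ MulAction.orbit H q₀ := by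
    rw [huniv]
    exact Set.mem_univ _
  obtain ⟨a, ha⟩ := hg
  refine ⟨a, a.2, (a : G)⁻¹ * g, ?_, by group⟩
  have h7 : (((a : G) * 1 : G) : G ⧸ K) = (g : G ⧸ K) := ha
  rw [mul_one, QuotientGroup.eq] at h7
  exact h7

theorem exists_of_coprime [Finite G] {β : Type*} [MulAction G β] [Finite β] (x : α) (y : β)
    (h : Nat.Coprime (tt G x) (tt G y)) (g : G) : ∃ a : G, a • y = y ∧ a • x = g • x := by
  rw [tt_eq_index, tt_eq_index] at h
  obtain ⟨a, ha, b, hb, rfl⟩ := exists_mul_of_coprime _ _ h.symm g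
  refine ⟨a, ha, ?_⟩
  rw [mul_smul, MulAction.mem_stabilizer_iff.mp hb]

end Basic

section Prod

variable {G α Λ : Type*} [Group G] [MulAction G α] [Finite α] [CommGroup Λ]
  [MulDistribMulAction G Λ]

theorem prod_orb_inv (x : α) (f : α → Λ) (hf : ∀ (g : G) y, f (g • y) = g • f y) (g : G) :
    g • ∏ y ∈ orbF G x, f y = ∏ y ∈ orbF G x, f y := by
  classical
  rw [Finset.smul_prod']
  refine Finset.prod_bij (fun y _ => g • y) ?_ ?_ ?_ ?_
  · intro y hy
    obtain ⟨h, rfl⟩ := mem_orbF.mp hy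
    exact mem_orbF.mpr ⟨g * h, mul_smul _ _ _⟩
  · intro y _ y' _ h
    exact MulAction.injective g h
  · intro y hy
    obtain ⟨h, rfl⟩ := mem_orbF.mp hy
    refine ⟨g⁻¹ • h • x, mem_orbF.mpr ⟨g⁻¹ * h, mul_smul _ _ _⟩, ?_⟩
    simp
  · intro y _
    rw [hf]

end Prod

theorem eq_of_pow_eq {Λ : Type*} [CommGroup Λ] {r k : ℕ} (hr : 1 < r) (hk : Nat.Coprime k r) {x y : Λ}
    (hx : x ^ r = 1) (hy : y ^ r = 1) (h : x ^ k = y ^ k) : x = y := by
  obtain ⟨m, hm⟩ := Nat.exists_mul_mod_eq_one_of_coprime hk hr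
  have h1 : x ^ (k * m) = x := by
    rw [pow_eq_pow_mod _ hx, hm.2, pow_one]
  have h2 : y ^ (k * m) = y := by
    rw [pow_eq_pow_mod _ hy, hm.2, pow_one]
  rw [← h1, ← h2, pow_mul, pow_mul, h]

theorem one_lt_gcd_of_dvd {a b d : ℕ} (hd : 1 < d) (h1 : d ∣ a) (h2 : d ∣ b) (ha : 0 < a) :
    1 < Nat.gcd a b :=
  lt_of_lt_of_le hd (Nat.le_of_dvd (Nat.gcd_pos_of_pos_left _ ha) (Nat.dvd_gcd h1 h2))

/-- Reachability in the induced common divisor graph. -/
def Rch (V : Set ℕ) (a b : ℕ) : Prop :=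
  ∃ (ha : a ∈ V) (hb : b ∈ V), (commonDivisorGraph.induce V).Reachable ⟨a, ha⟩ ⟨b, hb⟩

theorem Rch.refl {V : Set ℕ} {a : ℕ} (ha : a ∈ V) : Rch V a a := ⟨ha, ha, SimpleGraph.Reachable.refl _⟩

theorem Rch.symm {V : Set ℕ} {a b : ℕ} (h : Rch V a b) : Rch V b a := by
  obtain ⟨ha, hb, h⟩ := h
  exact ⟨hb, ha, h.symm⟩

theorem Rch.trans {V : Set ℕ} {a b c : ℕ} (h : Rch V a b) (h' : Rch V b c) : Rch V a c := by
  obtain ⟨ha, hb, h⟩ := h
  obtain ⟨_, hc, h'⟩ := h'
  exact ⟨ha, hc, h.trans h'⟩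

theorem Rch.of_gcd {V : Set ℕ} {a b : ℕ} (ha : a ∈ V) (hb : b ∈ V) (h : 1 < Nat.gcd a b) : Rch V a b := by
  by_cases hab : a = b
  · subst hab
    exact Rch.refl ha
  · refine ⟨ha, hb, SimpleGraph.Adj.reachable ?_⟩
    show a ≠ b ∧ 1 < Nat.gcd a b
    exact ⟨hab, h⟩

/-- The data abstracted from Clifford theory. -/
structure CD (G X Λ : Type*) [Group G] [CommGroup Λ] [MulAction G X] [Finite X]
    [MulDistribMulAction G Λ] where
  tw : Λ → X → X
  D : X → Λ
  deg : X → ℕ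
  one : X
  tw_smul : ∀ (g : G) μ θ, g • tw μ θ = tw (g • μ) (g • θ)
  tw_tw : ∀ μ ν θ, tw μ (tw ν θ) = tw (μ * ν) θ
  tw_one : ∀ θ, tw 1 θ = θ
  D_tw : ∀ μ θ, D (tw μ θ) = μ ^ deg θ * D θ
  D_smul : ∀ (g : G) θ, D (g • θ) = g • D θ
  deg_smul : ∀ (g : G) θ, deg (g • θ) = deg θ
  deg_tw : ∀ μ θ, deg (tw μ θ) = deg θ
  one_inv : ∀ g : G, g • one = one
  D_one : D one = 1
  deg_one : deg one = 1
  deg_pos : ∀ θ, 0 < deg θ
  lin : ∀ θ, deg θ = 1 → θ = tw (D θ) one
  C : X → ℕ → Prop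
  C_exists : ∀ θ, ∃ a, C θ a
  C_spec : ∀ θ a, C θ a → ∃ e, 0 < e ∧ a = e * tt G θ * deg θ ∧ (∏ y ∈ orbF G θ, D y) ^ e = 1
  V : Set ℕ
  C_mem : ∀ θ a, θ ≠ one → C θ a → a ∈ V
  V_C : ∀ a ∈ V, ∃ θ, θ ≠ one ∧ C θ a

section Main

variable {G X Λ : Type*} [Group G] [Finite G] [CommGroup Λ] [Finite Λ] [MulAction G X] [Finite X]
  [MulDistribMulAction G Λ] (S : CD G X Λ)

/-- Linear characters as points of `X`. -/
def CD.L (l : Λ) : X := S.tw l S.one

theorem CD.D_L (l : Λ) : S.D (S.L l) = l := by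
  rw [CD.L, S.D_tw, S.D_one, S.deg_one, pow_one, mul_one]

theorem CD.deg_L (l : Λ) : S.deg (S.L l) = 1 := by
  rw [CD.L, S.deg_tw, S.deg_one]

theorem CD.smul_L (g : G) (l : Λ) : g • S.L l = S.L (g • l) := by
  rw [CD.L, S.tw_smul, S.one_inv, CD.L]

theorem CD.smul_L_iff (g : G) (l : Λ) : g • S.L l = S.L l ↔ g • l = l := by
  constructor
  · intro h
    have := congrArg S.D h
    rwa [S.smul_L, S.D_L, S.D_L] at this
  · intro h
    rw [S.smul_L, h]

theorem CD.tt_L (l : Λ) : tt G (S.L l) = tt G l := by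
  rw [tt_eq_index, tt_eq_index]
  congr 1
  ext g
  rw [MulAction.mem_stabilizer_iff, MulAction.mem_stabilizer_iff, S.smul_L_iff]

theorem CD.tw_inj (l : Λ) : Function.Injective (S.tw l) := by
  intro a b h
  have := congrArg (S.tw l⁻¹) h
  rwa [S.tw_tw, S.tw_tw, inv_mul_cancel, S.tw_one, S.tw_one] at this

theorem CD.deg_orb {θ y : X} (h : y ∈ orbF G θ) : S.deg y = S.deg θ := by
  obtain ⟨g, rfl⟩ := mem_orbF.mp h
  exact S.deg_smul g θ

theorem CD.prod_D_inv (θ : X) (g : G) : g • ∏ y ∈ orbF G θ, S.D y = ∏ y ∈ orbF G θ, S.D y :=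
  prod_orb_inv θ S.D S.D_smul g

theorem CD.tt_dvd {θ : X} {a : ℕ} (h : S.C θ a) : tt G θ ∣ a := by
  obtain ⟨e, _, rfl, _⟩ := S.C_spec θ a h
  exact ⟨e * S.deg θ, by ring⟩

theorem CD.deg_dvd {θ : X} {a : ℕ} (h : S.C θ a) : S.deg θ ∣ a := by
  obtain ⟨e, _, rfl, _⟩ := S.C_spec θ a h
  exact ⟨e * tt G θ, by ring⟩

theorem CD.C_pos {θ : X} {a : ℕ} (h : S.C θ a) : 0 < a := by
  obtain ⟨e, he, rfl, _⟩ := S.C_spec θ a h
  exact Nat.mul_pos (Nat.mul_pos he (tt_pos θ)) (S.deg_pos θ)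

open Classical in
theorem CD.prod_image_tw {z θ : X} {l : Λ} (h : orbF G z = (orbF G θ).image (S.tw l)) :
    ∏ u ∈ orbF G z, S.D u = l ^ (tt G θ * S.deg θ) * ∏ y ∈ orbF G θ, S.D y := by
  classical
  rw [h, Finset.prod_image (fun a _ b _ hab => S.tw_inj l hab)]
  simp_rw [S.D_tw]
  rw [Finset.prod_mul_distrib]
  congr 1
  rw [Finset.prod_congr rfl (fun y hy => by rw [S.deg_orb hy]), Finset.prod_const, tt]
  rw [← pow_mul, mul_comm]

/-- The invariant case of the common divisor argument. -/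
theorem CD.gcd_of_inv {r : ℕ} (hr : r.Prime) {θ : X} (hinv : ∀ g : G, g • θ = θ) (hθ : θ ≠ S.one)
    {a c : ℕ} (ha : S.C θ a) (hra : ¬ r ∣ a) {l : Λ} (hl : l ^ r = 1) (hc : S.C (S.tw l θ) c) :
    1 < Nat.gcd a c := by
  obtain ⟨e, he, hae, hSe⟩ := S.C_spec θ a ha
  obtain ⟨e', he', hce, hSe'⟩ := S.C_spec _ c hc
  rw [tt_of_inv hinv, mul_one] at hae
  rw [orbF_of_inv hinv, Finset.prod_singleton] at hSe
  rw [S.deg_tw] at hce
  by_cases hd : S.deg θ = 1
  · set μ := S.D θ with hμ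
    have hμ1 : μ ≠ 1 := by
      intro h0
      apply hθ
      rw [S.lin θ hd, ← hμ, h0, S.tw_one]
    rw [hd, mul_one] at hae hce
    have hμa : μ ^ a = 1 := by rw [hae, hSe]
    have hginv : ∀ g : G, g • μ = μ := by
      intro g
      rw [hμ, ← S.D_smul, hinv]
    have hu : ∀ u ∈ orbF G (S.tw l θ), S.D u ^ r = μ ^ r := by
      intro u hu
      obtain ⟨g, rfl⟩ := mem_orbF.mp hu
      rw [S.D_smul, S.D_tw, hd, pow_one, smul_mul', mul_pow, hginv, ← smul_pow', hl, smul_one,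
        one_mul]
    have h1 : μ ^ (r * c) = 1 := by
      have h2 : (∏ u ∈ orbF G (S.tw l θ), S.D u) ^ r = μ ^ (r * tt G (S.tw l θ)) := by
        rw [← Finset.prod_pow, Finset.prod_congr rfl hu, Finset.prod_const, ← pow_mul, tt]
      have h3 := congrArg (· ^ r) hSe'
      simp only [one_pow] at h3
      rw [← pow_mul, mul_comm e' r, pow_mul, h2, ← pow_mul] at h3
      rw [hce, ← h3]
      congr 1
      ring
    have hoa : orderOf μ ∣ a := orderOf_dvd_of_pow_eq_one hμa
    have ho1 : orderOf μ ≠ 1 := fun h => hμ1 (orderOf_eq_one_iff.mp h)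
    have hopos : 0 < orderOf μ := orderOf_pos _
    have hcop : Nat.Coprime (orderOf μ) r := by
      rw [Nat.coprime_comm, hr.coprime_iff_not_dvd]
      exact fun h => hra (h.trans hoa)
    have hoc : orderOf μ ∣ c := hcop.dvd_of_dvd_mul_left (orderOf_dvd_of_pow_eq_one h1)
    exact one_lt_gcd_of_dvd (by omega) hoa hoc (S.C_pos ha)
  · have hd1 : 1 < S.deg θ := by
      have := S.deg_pos θ
      omega
    refine one_lt_gcd_of_dvd hd1 (S.deg_dvd ha) ?_ (S.C_pos ha)
    have := S.deg_dvd hc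
    rwa [S.deg_tw] at this

/-- Case I: an invariant linear character of order `r`. -/
theorem CD.caseI {r : ℕ} (hr : r.Prime) {l : Λ} (hl : l ^ r = 1) (hl1 : l ≠ 1)
    (hinv : ∀ g : G, g • l = l) {θ : X} (hθ : θ ≠ S.one) {a : ℕ} (ha : S.C θ a) (hra : ¬ r ∣ a) :
    S.tw l θ ≠ S.one ∧ ∀ c, S.C (S.tw l θ) c → r ∣ c ∧ 1 < Nat.gcd a c := by
  classical
  haveI : Fact r.Prime := ⟨hr⟩
  have hord : orderOf l = r := orderOf_eq_prime hl hl1
  obtain ⟨e, he, hae, hSe⟩ := S.C_spec θ a ha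
  have hdiv : ∀ {k : ℕ}, l ^ k = 1 → r ∣ k := fun h => hord ▸ orderOf_dvd_of_pow_eq_one h
  refine ⟨?_, ?_⟩
  · intro hz
    have hθe : θ = S.L l⁻¹ := by
      have := congrArg (S.tw l⁻¹) hz
      rw [S.tw_tw, inv_mul_cancel, S.tw_one] at this
      exact this
    have hθinv : ∀ g : G, g • θ = θ := by
      intro g
      rw [hθe, S.smul_L, smul_inv', hinv]
    rw [tt_of_inv hθinv, mul_one, orbF_of_inv hθinv, Finset.prod_singleton] at *
    have hd : S.deg θ = 1 := by rw [hθe, S.deg_L]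
    have hD : S.D θ = l⁻¹ := by rw [hθe, S.D_L]
    rw [hd, mul_one] at hae
    rw [hD, inv_pow, inv_eq_one, ← hae] at hSe
    exact hra (hdiv hSe)
  · intro c hc
    obtain ⟨e', he', hce, hSe'⟩ := S.C_spec _ c hc
    have horb : orbF G (S.tw l θ) = (orbF G θ).image (S.tw l) := by
      ext u
      rw [mem_orbF, Finset.mem_image]
      constructor
      · rintro ⟨g, rfl⟩
        refine ⟨g • θ, mem_orbF.mpr ⟨g, rfl⟩, ?_⟩
        rw [S.tw_smul, hinv]
      · rintro ⟨y, hy, rfl⟩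
        obtain ⟨g, rfl⟩ := mem_orbF.mp hy
        refine ⟨g, ?_⟩
        rw [S.tw_smul, hinv]
    have htt : tt G (S.tw l θ) = tt G θ := by
      rw [tt, horb, Finset.card_image_of_injective _ (S.tw_inj l), tt]
    rw [S.deg_tw, htt] at hce
    rw [S.prod_image_tw horb, mul_pow, ← pow_mul] at hSe'
    have h1 : l ^ (c * e) = 1 := by
      have h2 := congrArg (· ^ e) hSe'
      simp only [one_pow, mul_pow] at h2
      rw [← pow_mul, ← pow_mul, mul_comm e' e, pow_mul _ e e', hSe, one_pow, mul_one] at h2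
      rw [← h2, hce]
      congr 1
      ring
    have h2 : r ∣ c * e := hdiv h1
    have hcr : r ∣ c := by
      rcases (Nat.Prime.dvd_mul hr).mp h2 with h | h
      · exact h
      · exact absurd (by rw [hae]; exact Dvd.dvd.mul_right (Dvd.dvd.mul_right h _) _) hra
    refine ⟨hcr, ?_⟩
    by_cases ht : tt G θ = 1
    · exact S.gcd_of_inv hr (inv_of_tt ht) hθ ha hra hl hc
    · have ht1 : 1 < tt G θ := by
        have := tt_pos (G := G) θ
        omega
      refine one_lt_gcd_of_dvd ht1 (S.tt_dvd ha) ?_ (S.C_pos ha)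
      have := S.tt_dvd hc
      rwa [htt] at this

/-- No invariant nontrivial element of exponent `r`. -/
def NoInv (G Λ : Type*) [Group G] [CommGroup Λ] [MulDistribMulAction G Λ] (r : ℕ) : Prop :=
  ∀ μ : Λ, (∀ g : G, g • μ = μ) → μ ^ r = 1 → μ = 1

theorem CD.caseII {r : ℕ} (hr : r.Prime) (hNo : NoInv G Λ r) {l : Λ} (hl : l ^ r = 1) (hl1 : l ≠ 1)
    {θ : X} (hθ : θ ≠ S.one) {a b : ℕ} (ha : S.C θ a) (hra : ¬ r ∣ a)
    (hrl : ¬ r ∣ tt G l) (hb : S.C (S.L l) b) (hab : Nat.Coprime a b) :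
    S.tw l θ ≠ S.one ∧ ∀ c, S.C (S.tw l θ) c → 1 < Nat.gcd c b ∧ 1 < Nat.gcd c a := by
  classical
  haveI : Fact r.Prime := ⟨hr⟩
  have hord : orderOf l = r := orderOf_eq_prime hl hl1
  have hdiv : ∀ {k : ℕ}, l ^ k = 1 → r ∣ k := fun h => hord ▸ orderOf_dvd_of_pow_eq_one h
  obtain ⟨e, he, hae, hSe⟩ := S.C_spec θ a ha
  have htb : tt G l ∣ b := by
    have := S.tt_dvd hb
    rwa [S.tt_L] at this
  have hc0 : Nat.Coprime (tt G θ) (tt G l) := Nat.Coprime.coprime_dvd_left (S.tt_dvd ha)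
    (Nat.Coprime.coprime_dvd_right htb hab)
  have hrdeg : Nat.Coprime (S.deg θ) r := by
    rw [Nat.coprime_comm, hr.coprime_iff_not_dvd]
    exact fun h => hra (h.trans (S.deg_dvd ha))
  refine ⟨?_, ?_⟩
  · intro hz
    have hθe : θ = S.L l⁻¹ := by
      have := congrArg (S.tw l⁻¹) hz
      rw [S.tw_tw, inv_mul_cancel, S.tw_one] at this
      exact this
    apply hl1
    refine hNo l (fun g => ?_) hl
    obtain ⟨x, hx, hx'⟩ := exists_of_coprime (G := G) l θ hc0.symm g
    rw [← hx']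
    rw [hθe, S.smul_L_iff, smul_inv', inv_inj] at hx
    exact hx
  · intro c hc
    obtain ⟨e', he', hce, hSe'⟩ := S.C_spec _ c hc
    have hcz : tt G (S.tw l θ) ∣ c := S.tt_dvd hc
    have htz : ∀ g : G, g • (S.tw l θ) = S.tw (g • l) (g • θ) := fun g => S.tw_smul g l θ
    refine ⟨?_, ?_⟩
    · by_contra hcon
      have hcb : Nat.Coprime c b := by
        have := Nat.gcd_pos_of_pos_left b (S.C_pos hc)
        rw [Nat.Coprime]
        omega
      have hc1 : Nat.Coprime (tt G (S.tw l θ)) (tt G l) :=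
        Nat.Coprime.coprime_dvd_left hcz (Nat.Coprime.coprime_dvd_right htb hcb)
      have horb : orbF G (S.tw l θ) = (orbF G θ).image (S.tw l) := by
        ext u
        rw [mem_orbF, Finset.mem_image]
        constructor
        · rintro ⟨g, rfl⟩
          obtain ⟨x, hx, hx'⟩ := exists_of_coprime (G := G) (S.tw l θ) l hc1 g
          refine ⟨x • θ, mem_orbF.mpr ⟨x, rfl⟩, ?_⟩
          rw [← hx', htz, hx]
        · rintro ⟨y, hy, rfl⟩
          obtain ⟨g, rfl⟩ := mem_orbF.mp hy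
          obtain ⟨x, hx, hx'⟩ := exists_of_coprime (G := G) θ l hc0 g
          exact ⟨x, by rw [htz, hx, hx']⟩
      have hS := S.prod_image_tw horb
      set ν := l ^ (tt G θ * S.deg θ) with hν
      have hνinv : ∀ g : G, g • ν = ν := by
        intro g
        have h1 := S.prod_D_inv (S.tw l θ) g
        have h2 := S.prod_D_inv θ g
        rw [hS, smul_mul', h2] at h1
        exact mul_right_cancel h1
      have hνr : ν ^ r = 1 := by
        rw [hν, ← pow_mul, mul_comm, pow_mul, hl, one_pow]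
      have hν1 := hNo ν hνinv hνr
      have hdvd := hdiv (hν ▸ hν1)
      apply hra
      rw [hae, mul_assoc]
      exact Dvd.dvd.mul_left hdvd _
    · by_cases ht : tt G θ = 1
      · rw [Nat.gcd_comm]
        exact S.gcd_of_inv hr (inv_of_tt ht) hθ ha hra hl hc
      · by_contra hcon
        have hca : Nat.Coprime c a := by
          have := Nat.gcd_pos_of_pos_left a (S.C_pos hc)
          rw [Nat.Coprime]
          omega
        have hc1 : Nat.Coprime (tt G (S.tw l θ)) (tt G θ) :=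
          Nat.Coprime.coprime_dvd_left hcz (Nat.Coprime.coprime_dvd_right (S.tt_dvd ha) hca)
        have hyr : ∀ y ∈ orbF G l, y ^ r = 1 := by
          intro y hy
          obtain ⟨g, rfl⟩ := mem_orbF.mp hy
          rw [← smul_pow', hl, smul_one]
        have horb : orbF G (S.tw l θ) = (orbF G l).image (fun y => S.tw y θ) := by
          ext u
          rw [mem_orbF, Finset.mem_image]
          constructor
          · rintro ⟨g, rfl⟩
            obtain ⟨x, hx, hx'⟩ := exists_of_coprime (G := G) (S.tw l θ) θ hc1 g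
            refine ⟨x • l, mem_orbF.mpr ⟨x, rfl⟩, ?_⟩
            rw [← hx', htz, hx]
          · rintro ⟨y, hy, rfl⟩
            obtain ⟨g, rfl⟩ := mem_orbF.mp hy
            obtain ⟨x, hx, hx'⟩ := exists_of_coprime (G := G) l θ hc0.symm g
            exact ⟨x, by rw [htz, hx, hx']⟩
        have hinj : Set.InjOn (fun y => S.tw y θ) (orbF G l : Set Λ) := by
          intro y hy y' hy' h
          have h1 := congrArg S.D h
          simp only [S.D_tw] at h1
          exact eq_of_pow_eq hr.one_lt hrdeg (hyr y hy) (hyr y' hy') (mul_right_cancel h1)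
        have hP : (∏ y ∈ orbF G l, y) = 1 := by
          refine hNo _ (fun g => prod_orb_inv l id (fun _ _ => rfl) g) ?_
          rw [← Finset.prod_pow]
          exact Finset.prod_eq_one hyr
        have hS : ∏ u ∈ orbF G (S.tw l θ), S.D u = S.D θ ^ tt G l := by
          rw [horb, Finset.prod_image hinj]
          simp_rw [S.D_tw]
          rw [Finset.prod_mul_distrib, Finset.prod_pow, hP, one_pow, one_mul, Finset.prod_const, tt]
        have hDinv : ∀ g : G, g • (S.D θ ^ tt G l) = S.D θ ^ tt G l := by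
          intro g
          have := S.prod_D_inv (S.tw l θ) g
          rwa [hS] at this
        have hkc : Nat.Coprime (S.deg θ * tt G l) r :=
          Nat.Coprime.mul_left hrdeg ((Nat.coprime_comm.mp ((hr.coprime_iff_not_dvd).mpr hrl)))
        have hstl : ∀ g : G, g • (S.tw l θ) = S.tw l θ → g • l = l := by
          intro g hg
          have h1 := congrArg S.D hg
          rw [S.D_smul, S.D_tw, smul_mul', smul_pow'] at h1
          have h2 := congrArg (· ^ tt G l) h1
          simp only [mul_pow] at h2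
          have h4 : (g • S.D θ) ^ tt G l = S.D θ ^ tt G l := by rw [← smul_pow', hDinv g]
          rw [h4] at h2
          have h3 := mul_right_cancel h2
          rw [← pow_mul, ← pow_mul] at h3
          exact eq_of_pow_eq hr.one_lt hkc (by rw [← smul_pow', hl, smul_one]) hl h3
        have hstθ : ∀ g : G, g • (S.tw l θ) = S.tw l θ → g • θ = θ := by
          intro g hg
          have hgl := hstl g hg
          rw [htz, hgl] at hg
          exact S.tw_inj l hg
        have hdvd : tt G θ ∣ tt G (S.tw l θ) := by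
          rw [tt_eq_index, tt_eq_index]
          refine Subgroup.index_dvd_of_le fun g hg => ?_
          rw [MulAction.mem_stabilizer_iff] at hg ⊢
          exact hstθ g hg
        exact ht (Nat.eq_one_of_dvd_coprimes hc1.symm dvd_rfl hdvd)

/-- An invariant element of exponent `r` makes the graph connected. -/
theorem CD.all_reach {r : ℕ} (hr : r.Prime) {l : Λ} (hl : l ^ r = 1) (hl1 : l ≠ 1)
    (hinv : ∀ g : G, g • l = l) {a b : ℕ} (ha : a ∈ S.V) (hb : b ∈ S.V) : Rch S.V a b := by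
  have key : ∀ x ∈ S.V, ∃ c ∈ S.V, r ∣ c ∧ Rch S.V x c := by
    intro x hx
    by_cases hrx : r ∣ x
    · exact ⟨x, hx, hrx, Rch.refl hx⟩
    · obtain ⟨θ, hθ, hC⟩ := S.V_C x hx
      obtain ⟨hz, hcz⟩ := S.caseI hr hl hl1 hinv hθ hC hrx
      obtain ⟨c, hc⟩ := S.C_exists (S.tw l θ)
      have hcV := S.C_mem _ _ hz hc
      obtain ⟨h1, h2⟩ := hcz c hc
      exact ⟨c, hcV, h1, Rch.of_gcd hx hcV h2⟩
  obtain ⟨c, hc, hrc, h1⟩ := key a ha
  obtain ⟨d, hd, hrd, h2⟩ := key b hb
  refine h1.trans (Rch.trans (Rch.of_gcd hc hd ?_) h2.symm)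
  exact one_lt_gcd_of_dvd hr.one_lt hrc hrd (by
    obtain ⟨θ, _, hC⟩ := S.V_C c hc
    exact S.C_pos hC)

/-- The case of no invariant element. -/
theorem CD.reach_noInv {r : ℕ} (hr : r.Prime) (hNo : NoInv G Λ r) {l : Λ} (hl : l ^ r = 1)
    (hl1 : l ≠ 1) (hrl : ¬ r ∣ tt G l) :
    ∃ b₀ ∈ S.V, tt G l ∣ b₀ ∧ ∀ a ∈ S.V, ¬ r ∣ a → Rch S.V a b₀ := by
  have hL : S.L l ≠ S.one := by
    intro h
    have := congrArg S.D h
    rw [S.D_L, S.D_one] at this
    exact hl1 this
  obtain ⟨b, hb⟩ := S.C_exists (S.L l)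
  have hbV := S.C_mem _ _ hL hb
  refine ⟨b, hbV, ?_, ?_⟩
  · have := S.tt_dvd hb
    rwa [S.tt_L] at this
  · intro a ha hra
    obtain ⟨θ, hθ, hC⟩ := S.V_C a ha
    by_cases hg : 1 < Nat.gcd a b
    · exact Rch.of_gcd ha hbV hg
    · have hab : Nat.Coprime a b := by
        have := Nat.gcd_pos_of_pos_left b (S.C_pos hC)
        rw [Nat.Coprime]
        omega
      obtain ⟨hz, hcz⟩ := S.caseII hr hNo hl hl1 hθ hC hra hrl hb hab
      obtain ⟨c, hc⟩ := S.C_exists (S.tw l θ)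
      have hcV := S.C_mem _ _ hz hc
      obtain ⟨h1, h2⟩ := hcz c hc
      exact (Rch.of_gcd hcV ha h2).symm.trans (Rch.of_gcd hcV hbV h1)

theorem CD.tt_gt_one_of_noInv {r : ℕ} (hNo : NoInv G Λ r) {l : Λ} (hl : l ^ r = 1) (hl1 : l ≠ 1) :
    1 < tt G l := by
  have := tt_pos (G := G) l
  by_contra h
  have h1 : tt G l = 1 := by omega
  exact hl1 (hNo l (inv_of_tt h1) hl)

/-- Linking the two vertices for different primes. -/
theorem CD.link {r s : ℕ} (hr : r.Prime) (hs : s.Prime) (hrs : r ≠ s) (hNr : NoInv G Λ r)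
    (hNs : NoInv G Λ s) {l k : Λ} (hl : l ^ r = 1) (hl1 : l ≠ 1) (hk : k ^ s = 1) (hk1 : k ≠ 1)
    {b d : ℕ} (hb : b ∈ S.V) (hd : d ∈ S.V) (hlb : tt G l ∣ b) (hkd : tt G k ∣ d) : Rch S.V b d := by
  have hcop : Nat.Coprime r s := (Nat.coprime_primes hr hs).mpr hrs
  set w := l * k with hw
  have hst1 : ∀ g : G, g • w = w → g • l = l := by
    intro g hg
    rw [hw, smul_mul'] at hg
    have h1 := congrArg (· ^ s) hg
    simp only [mul_pow, ← smul_pow', hk, smul_one, mul_one] at h1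
    exact eq_of_pow_eq hr.one_lt hcop.symm (by rw [← smul_pow', hl, smul_one]) hl
      (by rw [smul_pow'] at h1; exact h1)
  have hst2 : ∀ g : G, g • w = w → g • k = k := by
    intro g hg
    rw [hw, smul_mul'] at hg
    have h1 := congrArg (· ^ r) hg
    simp only [mul_pow, ← smul_pow', hl, smul_one, one_mul] at h1
    exact eq_of_pow_eq hs.one_lt hcop (by rw [← smul_pow', hk, smul_one]) hk
      (by rw [smul_pow'] at h1; exact h1)
  have hw1 : w ≠ 1 := by
    intro h
    have h1 : l = k⁻¹ := eq_inv_of_mul_eq_one_left h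
    have h2 : l ^ s = 1 := by rw [h1, inv_pow, hk, inv_one]
    have h3 : l = 1 := eq_of_pow_eq hr.one_lt hcop.symm hl (one_pow r) (by rw [h2, one_pow])
    exact hl1 h3
  have hL : S.L w ≠ S.one := by
    intro h
    have := congrArg S.D h
    rw [S.D_L, S.D_one] at this
    exact hw1 this
  obtain ⟨c, hc⟩ := S.C_exists (S.L w)
  have hcV := S.C_mem _ _ hL hc
  have htw : tt G w ∣ c := by
    have := S.tt_dvd hc
    rwa [S.tt_L] at this
  have hd1 : tt G l ∣ tt G w := by
    rw [tt_eq_index, tt_eq_index]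
    refine Subgroup.index_dvd_of_le fun g hg => ?_
    rw [MulAction.mem_stabilizer_iff] at hg ⊢
    exact hst1 g hg
  have hd2 : tt G k ∣ tt G w := by
    rw [tt_eq_index, tt_eq_index]
    refine Subgroup.index_dvd_of_le fun g hg => ?_
    rw [MulAction.mem_stabilizer_iff] at hg ⊢
    exact hst2 g hg
  have hbpos : 0 < c := S.C_pos hc
  have h1 := Rch.of_gcd hcV hb (one_lt_gcd_of_dvd (CD.tt_gt_one_of_noInv hNr hl hl1) (hd1.trans htw) hlb hbpos)
  have h2 := Rch.of_gcd hcV hd (one_lt_gcd_of_dvd (CD.tt_gt_one_of_noInv hNs hk hk1) (hd2.trans htw) hkd hbpos)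
  exact h1.symm.trans h2

/-- Existence of a suitable element for a prime. -/
def HasE (G Λ : Type*) [Group G] [CommGroup Λ] [Finite Λ] [MulDistribMulAction G Λ] (r : ℕ) : Prop :=
  ∃ l : Λ, l ^ r = 1 ∧ l ≠ 1 ∧ ¬ r ∣ tt G l

/-- The key claim. -/
theorem CD.claim {r s : ℕ} (hr : r.Prime) (hs : s.Prime) (hEr : HasE G Λ r) (hEs : HasE G Λ s)
    {a b : ℕ} (ha : a ∈ S.V) (hb : b ∈ S.V) (hra : ¬ r ∣ a) (hsb : ¬ s ∣ b) : Rch S.V a b := by
  by_cases hIr : NoInv G Λ r
  · by_cases hIs : NoInv G Λ s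
    · by_cases hrs : r = s
      · subst hrs
        obtain ⟨l, hl, hl1, hrl⟩ := hEr
        obtain ⟨b₀, hb₀, _, hall⟩ := S.reach_noInv hr hIr hl hl1 hrl
        exact (hall a ha hra).trans (hall b hb hsb).symm
      · obtain ⟨l, hl, hl1, hrl⟩ := hEr
        obtain ⟨k, hk, hk1, hsk⟩ := hEs
        obtain ⟨b₀, hb₀, hlb, hall⟩ := S.reach_noInv hr hIr hl hl1 hrl
        obtain ⟨d₀, hd₀, hkd, hall'⟩ := S.reach_noInv hs hIs hk hk1 hsk
        exact (hall a ha hra).trans ((S.link hr hs hrs hIr hIs hl hl1 hk hk1 hb₀ hd₀ hlb hkd).trans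
          (hall' b hb hsb).symm)
    · unfold NoInv at hIs
      push Not at hIs
      obtain ⟨μ, h1, h2, h3⟩ := hIs
      exact S.all_reach hs h2 h3 h1 ha hb
  · unfold NoInv at hIr
    push Not at hIr
    obtain ⟨μ, h1, h2, h3⟩ := hIr
    exact S.all_reach hr h2 h3 h1 ha hb

/-- The final form: at most two components and the divisibility dichotomy. -/
theorem CD.final (hV : S.V.Finite) {m : ℕ} (hm : 1 < m) (hE : ∀ r : ℕ, r.Prime → r ∣ m → HasE G Λ r) :
    Nat.card (commonDivisorGraph.induce S.V).ConnectedComponent ≤ 2 ∧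
      ∀ (a b : ℕ) (ha : a ∈ S.V) (hb : b ∈ S.V),
        ¬ (commonDivisorGraph.induce S.V).Reachable ⟨a, ha⟩ ⟨b, hb⟩ →
          (Nat.Coprime a m ∧ ∀ r : ℕ, r.Prime → r ∣ m → r ∣ b) ∨
          (Nat.Coprime b m ∧ ∀ r : ℕ, r.Prime → r ∣ m → r ∣ a) := by
  classical
  have hpos : ∀ x ∈ S.V, 0 < x := by
    intro x hx
    obtain ⟨θ, _, hC⟩ := S.V_C x hx
    exact S.C_pos hC
  have hnot : ∀ {a b : ℕ} (ha : a ∈ S.V) (hb : b ∈ S.V),
      ¬ (commonDivisorGraph.induce S.V).Reachable ⟨a, ha⟩ ⟨b, hb⟩ → ¬ Rch S.V a b := by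
    intro a b ha hb h h'
    obtain ⟨_, _, h''⟩ := h'
    exact h h''
  have hdich : ∀ {a b : ℕ} (ha : a ∈ S.V) (hb : b ∈ S.V), ¬ Rch S.V a b →
      (Nat.Coprime a m ∧ ∀ r : ℕ, r.Prime → r ∣ m → r ∣ b) ∨
      (Nat.Coprime b m ∧ ∀ r : ℕ, r.Prime → r ∣ m → r ∣ a) := by
    intro a b ha hb hR
    have hcommon : ∀ r : ℕ, r.Prime → ¬ (r ∣ a ∧ r ∣ b) := by
      rintro r hr ⟨h1, h2⟩
      exact hR (Rch.of_gcd ha hb (one_lt_gcd_of_dvd hr.one_lt h1 h2 (hpos a ha)))
    have hmiss : ∀ r s : ℕ, r.Prime → r ∣ m → s.Prime → s ∣ m → ¬ (¬ r ∣ a ∧ ¬ s ∣ b) := by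
      rintro r s hr hrm hs hsm ⟨h1, h2⟩
      exact hR (S.claim hr hs (hE r hr hrm) (hE s hs hsm) ha hb h1 h2)
    by_cases hc : ∀ r : ℕ, r.Prime → r ∣ m → ¬ r ∣ a
    · left
      refine ⟨Nat.Coprime.symm ?_, ?_⟩
      · apply Nat.coprime_of_dvd
        intro k hk hkm hka
        exact hc k hk hkm hka
      · intro r hr hrm
        by_contra hrb
        exact hmiss r r hr hrm hr hrm ⟨hc r hr hrm, hrb⟩
    · push Not at hc
      obtain ⟨r, hr, hrm, hra⟩ := hc
      right
      have hrb : ¬ r ∣ b := fun h => hcommon r hr ⟨hra, h⟩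
      refine ⟨Nat.Coprime.symm ?_, ?_⟩
      · apply Nat.coprime_of_dvd
        intro k hk hkm hkb
        by_cases hka : k ∣ a
        · exact hcommon k hk ⟨hka, hkb⟩
        · -- `k` misses `a`, `r` misses `b`
          exact hmiss k r hk hkm hr hrm ⟨hka, hrb⟩
      · intro s hs hsm
        by_contra hsa
        exact hmiss s r hs hsm hr hrm ⟨hsa, hrb⟩
  refine ⟨?_, fun a b ha hb h => hdich ha hb (hnot ha hb h)⟩
  -- three vertices: two of them are connected
  have h3 : ∀ {a b c : ℕ}, a ∈ S.V → b ∈ S.V → c ∈ S.V → Rch S.V a b ∨ Rch S.V a c ∨ Rch S.V b c := by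
    intro a b c ha hb hc
    obtain ⟨r, hr, hrm⟩ := Nat.exists_prime_and_dvd (show m ≠ 1 by omega)
    have hEr := hE r hr hrm
    have hpair : ∀ {x y : ℕ}, x ∈ S.V → y ∈ S.V → (r ∣ x ↔ r ∣ y) → Rch S.V x y := by
      intro x y hx hy hxy
      by_cases hrx : r ∣ x
      · exact Rch.of_gcd hx hy (one_lt_gcd_of_dvd hr.one_lt hrx (hxy.mp hrx) (hpos x hx))
      · exact S.claim hr hr hEr hEr hx hy hrx (fun h => hrx (hxy.mpr h))
    by_cases h1 : r ∣ a <;> by_cases h2 : r ∣ b <;> by_cases h3 : r ∣ c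
    · exact Or.inl (hpair ha hb (by tauto))
    · exact Or.inl (hpair ha hb (by tauto))
    · exact Or.inr (Or.inl (hpair ha hc (by tauto)))
    · exact Or.inr (Or.inr (hpair hb hc (by tauto)))
    · exact Or.inr (Or.inr (hpair hb hc (by tauto)))
    · exact Or.inr (Or.inl (hpair ha hc (by tauto)))
    · exact Or.inl (hpair ha hb (by tauto))
    · exact Or.inl (hpair ha hb (by tauto))
  haveI : Finite S.V := hV
  haveI : Finite (commonDivisorGraph.induce S.V).ConnectedComponent :=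
    Quot.finite _
  haveI := Fintype.ofFinite (commonDivisorGraph.induce S.V).ConnectedComponent
  rw [Nat.card_eq_fintype_card]
  by_contra hcon
  have hcon' : 2 < Fintype.card (commonDivisorGraph.induce S.V).ConnectedComponent := by omega
  obtain ⟨A, B, C, hAB, hAC, hBC⟩ := Fintype.two_lt_card_iff.mp hcon'
  induction A using SimpleGraph.ConnectedComponent.ind with | _ a => ?_
  induction B using SimpleGraph.ConnectedComponent.ind with | _ b => ?_
  induction C using SimpleGraph.ConnectedComponent.ind with | _ c => ?_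
  rcases h3 a.2 b.2 c.2 with h | h | h
  · obtain ⟨_, _, h⟩ := h
    exact hAB (SimpleGraph.ConnectedComponent.sound h)
  · obtain ⟨_, _, h⟩ := h
    exact hAC (SimpleGraph.ConnectedComponent.sound h)
  · obtain ⟨_, _, h⟩ := h
    exact hBC (SimpleGraph.ConnectedComponent.sound h)

end Main

end Cfsg.Agent.H22.DG
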