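import Cfsg.Agent.Lib.H22.DegAbs
import Cfsg.Agent.Lib.H21.NormalBlocks
import Cfsg.Agent.Lib.H06.CharExtend
import Cfsg.Agent.Lib.H06.CharGallagher
import Cfsg.Agent.Lib.H06.CharClifford
import Cfsg.Agent.Lib.H23.AcdTwo

/-!
# The relative degree graph: instantiating the abstract data
-/

set_option autoImplicit false
set_option linter.unusedSectionVars false
set_option linter.style.haveILetI false
set_option linter.unusedSimpArgs false
set_option linter.unusedVariables false

namespace Cfsg.Agent.H22.DG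

open Cfsg Cfsg.Agent Cfsg.Agent.H21 Cfsg.Agent.H06 Cfsg.Agent.H22 Cfsg.Agent.H23 Module
open scoped ComplexConjugate

universe u

variable {G : Type u} [Group G] [Finite G] (N : Subgroup G) [hN : N.Normal]

/-- Conjugation on the normal subgroup. -/
def cH (g : G) : N →* N where
  toFun n := ⟨g⁻¹ * n * g, by simpa using hN.conj_mem n n.2 g⁻¹⟩
  map_one' := Subtype.ext (by simp)
  map_mul' a b := Subtype.ext (by simp; group)

@[simp] theorem cH_coe (g : G) (n : N) : ((cH N g n : N) : G) = g⁻¹ * n * g := rfl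

theorem cH_one (n : N) : cH N 1 n = n := Subtype.ext (by simp)

theorem cH_mul (a b : G) (n : N) : cH N (a * b) n = cH N b (cH N a n) :=
  Subtype.ext (by simp; group)

/-- Action on linear characters. -/
scoped instance instActL : MulDistribMulAction G (N →* ℂˣ) where
  smul g μ := μ.comp (cH N g)
  one_smul μ := MonoidHom.ext fun n => by
    show μ (cH N 1 n) = μ n
    rw [cH_one]
  mul_smul a b μ := MonoidHom.ext fun n => by
    show μ (cH N (a * b) n) = μ (cH N b (cH N a n))
    rw [cH_mul]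
  smul_mul g a b := MonoidHom.ext fun n => rfl
  smul_one g := MonoidHom.ext fun n => rfl

theorem smulL_apply (g : G) (μ : N →* ℂˣ) (n : N) : (g • μ) n = μ (cH N g n) := rfl

/-- The conjugate of an irreducible character. -/
noncomputable def conjI (g : G) (θ : IrrCharacter N) : IrrCharacter N := by
  classical
  refine ⟨fun n => θ.1 (cH N g n), ?_⟩
  have := isIrrCharacter_twist N θ.2 g⁻¹
  convert this using 1
  funext n
  simp only [twist]
  refine congrArg θ.1 (Subtype.ext ?_)
  simp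

noncomputable scoped instance instActX : MulAction G (IrrCharacter N) where
  smul g θ := conjI N g θ
  one_smul θ := Subtype.ext (funext fun n => by
    show θ.1 (cH N 1 n) = θ.1 n
    rw [cH_one])
  mul_smul a b θ := Subtype.ext (funext fun n => by
    show θ.1 (cH N (a * b) n) = θ.1 (cH N b (cH N a n))
    rw [cH_mul])

theorem smulX_apply (g : G) (θ : IrrCharacter N) (n : N) : (g • θ).1 n = θ.1 (cH N g n) := rfl

variable {N}

/-- The twist of an irreducible character by a linear character. -/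
noncomputable def twI (μ : N →* ℂˣ) (θ : IrrCharacter N) : IrrCharacter N :=
  ⟨fun n => (μ n : ℂ) * θ.1 n, by
    exact isIrr_linear_mul θ.2 (isCharacter_hom μ) (charDegree_hom μ)⟩

theorem twI_apply (μ : N →* ℂˣ) (θ : IrrCharacter N) (n : N) :
    (twI μ θ).1 n = (μ n : ℂ) * θ.1 n := rfl

/-- The determinant homomorphism of a representation. -/
noncomputable def dU {V : Type*} [AddCommGroup V] [Module ℂ V] (σ : Representation ℂ N V) : N →* ℂˣ :=
  MonoidHom.toHomUnits ((LinearMap.det : Module.End ℂ V →* ℂ).comp σ)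

theorem coe_dU {V : Type*} [AddCommGroup V] [Module ℂ V] (σ : Representation ℂ N V) (x : N) :
    (dU σ x : ℂ) = LinearMap.det (σ x) := rfl

/-- `μ` is the determinant of every representation with character `f`. -/
def HasDet (f : N → ℂ) (μ : N →* ℂˣ) : Prop :=
  ∀ (n : ℕ) (σ : Representation ℂ N (Fin n → ℂ)), σ.character = f → ∀ x, (μ x : ℂ) = LinearMap.det (σ x)

theorem hasDet_rep {V : Type*} [AddCommGroup V] [Module ℂ V] [FiniteDimensional ℂ V] {f : N → ℂ} {μ : N →* ℂˣ}
    (h : HasDet f μ) (hf : IsCharacter N f) (τ : Representation ℂ N V) (hτ : τ.character = f) (x : N) :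
    (μ x : ℂ) = LinearMap.det (τ x) := by
  obtain ⟨n, σ, hσ⟩ := hf
  rw [h n σ hσ x]
  exact det_eq_of_character_eq σ τ (hσ.trans hτ.symm) x

theorem hasDet_add {f g : N → ℂ} {μ ν : N →* ℂˣ} (hμ : HasDet f μ) (hν : HasDet g ν)
    (hf : IsCharacter N f) (hg : IsCharacter N g) : HasDet (f + g) (μ * ν) := by
  obtain ⟨a, ρ₁, h₁⟩ := id hf
  obtain ⟨b, ρ₂, h₂⟩ := id hg
  intro n σ hσ x
  have hprod : (ρ₁.prod ρ₂).character = f + g := by
    funext y
    rw [← h₁, ← h₂]
    exact LinearMap.trace_prodMap' (ρ₁ y) (ρ₂ y)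
  rw [det_eq_of_character_eq σ (ρ₁.prod ρ₂) (hσ.trans hprod.symm) x]
  show _ = LinearMap.det (LinearMap.prodMap (ρ₁ x) (ρ₂ x))
  rw [LinearMap.det_prodMap, MonoidHom.mul_apply, Units.val_mul, hμ a ρ₁ h₁, hν b ρ₂ h₂]

theorem hasDet_zero : HasDet (0 : N → ℂ) 1 := by
  intro n σ hσ x
  have h0 : (1 : Representation ℂ N (Fin 0 → ℂ)).character = 0 := by
    funext y
    simp [Representation.character]
  rw [det_eq_of_character_eq σ (1 : Representation ℂ N (Fin 0 → ℂ)) (hσ.trans h0.symm) x]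
  simp

theorem hasDet_sum {ι : Type*} (s : Finset ι) (F : ι → N → ℂ) (M : ι → (N →* ℂˣ))
    (h : ∀ i ∈ s, HasDet (F i) (M i)) (hc : ∀ i ∈ s, IsCharacter N (F i)) :
    HasDet (∑ i ∈ s, F i) (∏ i ∈ s, M i) := by
  classical
  induction s using Finset.induction_on with
  | empty => simpa using hasDet_zero
  | insert a s ha ih =>
    rw [Finset.sum_insert ha, Finset.prod_insert ha]
    exact hasDet_add (h a (Finset.mem_insert_self _ _))
      (ih (fun i hi => h i (Finset.mem_insert_of_mem hi))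
        (fun i hi => hc i (Finset.mem_insert_of_mem hi)))
      (hc a (Finset.mem_insert_self _ _))
      (isCharacter_sum s F fun i hi => hc i (Finset.mem_insert_of_mem hi))

theorem hasDet_nsmul {f : N → ℂ} {μ : N →* ℂˣ} (h : HasDet f μ) (hf : IsCharacter N f) (e : ℕ) :
    HasDet (e • f) (μ ^ e) := by
  induction e with
  | zero =>
    rw [zero_nsmul]
    have h0 : μ ^ 0 = 1 := MonoidHom.ext fun x => by simp
    rw [h0]
    exact hasDet_zero
  | succ e ih =>
    rw [succ_nsmul]
    have h0 : μ ^ (e + 1) = μ ^ e * μ := MonoidHom.ext fun x => by simp [pow_succ]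
    rw [h0]
    exact hasDet_add ih h (isCharacter_nsmul e hf) hf

/-- The determinant of an irreducible character. -/
noncomputable def detI (θ : IrrCharacter N) : N →* ℂˣ :=
  dU (Classical.choose (Classical.choose_spec (isCharacter_of_irr θ.2)))

theorem hasDet_I (θ : IrrCharacter N) : HasDet θ.1 (detI θ) := by
  intro n σ hσ x
  have h := Classical.choose_spec (Classical.choose_spec (isCharacter_of_irr θ.2))
  rw [detI, coe_dU]
  exact det_eq_of_character_eq _ σ (h.trans hσ.symm) x

theorem irr_pos (θ : IrrCharacter N) : 0 < charDegree θ.1 := by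
  have h1 := one_eq_charDegree (isCharacter_of_irr θ.2)
  have h2 := Cfsg.Agent.H06.irr_one_ne_zero' θ.2
  rw [h1] at h2
  exact Nat.pos_of_ne_zero (by exact_mod_cast h2)

theorem rep_dim {n : ℕ} (σ : Representation ℂ N (Fin n → ℂ)) {f : N → ℂ} (h : σ.character = f)
    (hf : IsCharacter N f) : charDegree f = n := by
  have h1 := one_eq_charDegree hf
  subst h
  have h2 : σ.character 1 = (n : ℂ) := by
    simp [Representation.character, LinearMap.trace_one]
  have h3 : (charDegree σ.character : ℂ) = n := by rw [← h1, h2]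
  exact_mod_cast h3

theorem detI_tw (μ : N →* ℂˣ) (θ : IrrCharacter N) :
    detI (twI μ θ) = μ ^ charDegree θ.1 * detI θ := by
  obtain ⟨n, σ, hσ⟩ := isCharacter_of_irr θ.2
  refine MonoidHom.ext fun x => Units.ext ?_
  let f : N →* ℂ := (Units.coeHom ℂ).comp μ
  have hτ : (scalarTwist σ f).character = (twI μ θ).1 := by
    funext y
    rw [scalarTwist_character, hσ]
    rfl
  rw [hasDet_I (twI μ θ) n (scalarTwist σ f) hτ x, scalarTwist_det,
    MonoidHom.mul_apply, Units.val_mul, MonoidHom.pow_apply, Units.val_pow_eq_pow_val,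
    hasDet_I θ n σ hσ x, rep_dim σ hσ (isCharacter_of_irr θ.2)]
  simp [f]

theorem detI_smul (g : G) (θ : IrrCharacter N) : detI (g • θ) = g • detI θ := by
  obtain ⟨n, σ, hσ⟩ := isCharacter_of_irr θ.2
  refine MonoidHom.ext fun x => Units.ext ?_
  let τ : Representation ℂ N (Fin n → ℂ) := σ.comp (cH N g)
  have hτ : τ.character = (g • θ).1 := by
    funext y
    show σ.character (cH N g y) = θ.1 (cH N g y)
    rw [hσ]
  rw [hasDet_I (g • θ) n τ hτ x, smulL_apply, hasDet_I θ n σ hσ]
  rfl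

theorem deg_smul' (g : G) (θ : IrrCharacter N) : charDegree (g • θ).1 = charDegree θ.1 := by
  unfold charDegree
  rw [smulX_apply, map_one]

theorem deg_tw' (μ : N →* ℂˣ) (θ : IrrCharacter N) : charDegree (twI μ θ).1 = charDegree θ.1 := by
  unfold charDegree
  rw [twI_apply, map_one]
  simp

/-- The principal character. -/
def oneI (N : Subgroup G) : IrrCharacter N := ⟨fun _ => 1, isIrrCharacter_one⟩

theorem detI_one : detI (oneI N) = 1 := by
  have hτ : (Representation.trivial ℂ N (Fin 1 → ℂ)).character = (oneI N).1 := by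
    funext y
    simp [Representation.character, oneI, Representation.trivial, LinearMap.trace_one]
  refine MonoidHom.ext fun x => Units.ext ?_
  rw [hasDet_I (oneI N) 1 _ hτ x]
  simp [Representation.trivial]

theorem deg_one' : charDegree (oneI N).1 = 1 := by
  simp [charDegree, oneI]

theorem lin' (θ : IrrCharacter N) (h : charDegree θ.1 = 1) : θ = twI (detI θ) (oneI N) := by
  obtain ⟨n, σ, hσ⟩ := isCharacter_of_irr θ.2
  have hn := rep_dim σ hσ (isCharacter_of_irr θ.2)
  rw [h] at hn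
  subst hn
  refine Subtype.ext (funext fun x => ?_)
  rw [twI_apply, hasDet_I θ 1 σ hσ x, ← hσ]
  show LinearMap.trace ℂ _ (σ x) = LinearMap.det (σ x) * 1
  rw [mul_one, LinearMap.trace_eq_matrix_trace ℂ (Pi.basisFun ℂ (Fin 1)),
    ← LinearMap.det_toMatrix (Pi.basisFun ℂ (Fin 1))]
  simp [Matrix.trace, Matrix.det_fin_one]

/-- Clifford's theorem in the form of a sum over the orbit. -/
theorem clifford_sum (χ : IrrCharacter G) (θ : IrrCharacter N)
    (h : ∑ n : N, conj (θ.1 n) * χ.1 n ≠ 0) :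
    ∃ e : ℕ, 0 < e ∧ (fun n : N => χ.1 n) = ∑ y ∈ orbF G θ, e • y.1 := by
  classical
  have hχc := isCharacter_of_irr χ.2
  have hres : IsCharacter N (fun n : N => χ.1 n) := isCharacter_restrict N hχc
  obtain ⟨m, hm, hm'⟩ := isCharacter_decomp hres
  have hNpos : (Nat.card N : ℂ)⁻¹ ≠ 0 := inv_ne_zero (Nat.cast_ne_zero.mpr Nat.card_pos.ne')
  -- multiplicity of the conjugates
  have hinv : ∀ (g : G) (ψ : IrrCharacter N), m (g • ψ) = m ψ := by
    intro g ψ
    have h1 : classInner (fun n : N => χ.1 n) (g • ψ).1 = classInner (fun n : N => χ.1 n) ψ.1 := by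
      simp only [classInner]
      congr 1
      let e : N ≃ N := ⟨cH N g, cH N g⁻¹, fun n => Subtype.ext (by simp; group),
        fun n => Subtype.ext (by simp; group)⟩
      refine Fintype.sum_equiv e _ _ fun n => ?_
      rw [smulX_apply]
      have h2 : χ.1 ((e n : N) : G) = χ.1 (n : G) := by
        show χ.1 (g⁻¹ * n * g) = χ.1 n
        have := irr_conj' χ (n : G) g⁻¹
        simpa using this
      rw [h2]
      rfl
    have h2 := (hm' (g • ψ)).symm.trans (h1.trans (hm' ψ))
    exact_mod_cast h2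
  have hθm : classInner (fun n : N => χ.1 n) θ.1 ≠ 0 := by
    have h1 : classInner (fun n : N => χ.1 n) θ.1 = (Nat.card N : ℂ)⁻¹ * ∑ n : N, conj (θ.1 n) * χ.1 n := by
      simp only [classInner]
      congr 1
      · exact Finset.sum_congr (by ext; simp) fun n _ => mul_comm _ _
    rw [h1]
    exact mul_ne_zero hNpos h
  have hsupp : ∀ ψ : IrrCharacter N, m ψ ≠ 0 → ψ ∈ orbF G θ := by
    intro ψ hψ
    by_contra hcon
    have hne : ∀ g : G, ψ.1 ≠ twist N θ.1 g := by
      intro g hg
      apply hcon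
      refine mem_orbF.mpr ⟨g⁻¹, Subtype.ext (funext fun n => ?_)⟩
      rw [smulX_apply, hg]
      simp only [twist]
      refine congrArg θ.1 (Subtype.ext ?_)
      simp
    have hX := isCharacter_indFun N (isCharacter_of_irr θ.2)
    have hY := isCharacter_indFun N (isCharacter_of_irr ψ.2)
    have h1 : classInner (indFun N θ.1) (indFun N ψ.1) = 0 := by
      have h1' := classInner_indFun_eq_zero_of_not_conj N θ.2 ψ.2 hne
      rw [← classInner_comm_conj, h1', map_zero]
    have hne2 : classInner (indFun N θ.1) χ.1 ≠ 0 := by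
      rw [frobenius_reciprocity N _ _ (isClassFunction_of_isCharacter hχc), ← classInner_comm_conj]
      exact (map_ne_zero _).mpr hθm
    have h2 := no_common_of_orthogonal hX hY h1 χ hne2
    rw [frobenius_reciprocity N _ _ (isClassFunction_of_isCharacter hχc)] at h2
    apply hψ
    have h3 : classInner (fun n : N => χ.1 n) ψ.1 = 0 := by
      rw [← classInner_comm_conj, h2, map_zero]
    rw [hm' ψ] at h3
    exact_mod_cast h3
  refine ⟨m θ, ?_, ?_⟩
  · apply Nat.pos_of_ne_zero
    intro h0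
    apply hθm
    rw [hm' θ, h0]
    simp
  · rw [hm]
    have h1 : ∑ ψ : IrrCharacter N, m ψ • ψ.1 = ∑ y ∈ orbF G θ, m y • y.1 := by
      symm
      apply Finset.sum_subset (Finset.subset_univ _)
      intro ψ _ hψ
      have h0 : m ψ = 0 := by
        by_contra h0
        exact hψ (hsupp ψ h0)
      rw [h0, zero_smul]
    rw [h1]
    refine Finset.sum_congr rfl fun y hy => ?_
    obtain ⟨g, rfl⟩ := mem_orbF.mp hy
    rw [hinv]

/-- The restriction formula for the determinant when `N` lies in the commutator subgroup. -/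
theorem prod_det_eq_one (hNG : N ≤ commutator G) (χ : IrrCharacter G) (θ : IrrCharacter N) {e : ℕ}
    (he : (fun n : N => χ.1 n) = ∑ y ∈ orbF G θ, e • y.1) :
    (∏ y ∈ orbF G θ, detI y) ^ e = 1 := by
  classical
  have h1 : HasDet (∑ y ∈ orbF G θ, e • y.1) (∏ y ∈ orbF G θ, detI y ^ e) :=
    hasDet_sum _ _ _ (fun y _ => hasDet_nsmul (hasDet_I y) (isCharacter_of_irr y.2) e)
      (fun y _ => isCharacter_nsmul e (isCharacter_of_irr y.2))
  rw [Finset.prod_pow] at h1
  rw [← he] at h1
  obtain ⟨n, ρ, hρ⟩ := isCharacter_of_irr χ.2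
  let σ : Representation ℂ N (Fin n → ℂ) := ρ.comp N.subtype
  have hσ : σ.character = fun n : N => χ.1 n := by
    funext y
    show ρ.character y = χ.1 y
    rw [hρ]
  refine MonoidHom.ext fun x => Units.ext ?_
  rw [h1 n σ hσ x]
  have hker : commutator G ≤ (MonoidHom.toHomUnits ((LinearMap.det : Module.End ℂ (Fin n → ℂ) →* ℂ).comp ρ)).ker :=
    Abelianization.commutator_subset_ker _
  have h3 := hker (hNG x.2)
  rw [MonoidHom.mem_ker] at h3
  have h4 := congrArg (Units.val) h3
  show LinearMap.det (ρ x) = 1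
  simpa using h4

theorem C_spec' (hNG : N ≤ commutator G) (θ : IrrCharacter N) (a : ℕ)
    (h : ∃ χ : IrrCharacter G, ∑ n : N, conj (θ.1 n) * χ.1 n ≠ 0 ∧ charDegree χ.1 = a) :
    ∃ e, 0 < e ∧ a = e * tt G θ * charDegree θ.1 ∧ (∏ y ∈ orbF G θ, detI y) ^ e = 1 := by
  classical
  obtain ⟨χ, hχ, rfl⟩ := h
  obtain ⟨e, he, hsum⟩ := clifford_sum χ θ hχ
  refine ⟨e, he, ?_, prod_det_eq_one hNG χ θ hsum⟩
  have h1 := congrFun hsum 1
  have h2 : χ.1 1 = (charDegree χ.1 : ℂ) := one_eq_charDegree (isCharacter_of_irr χ.2)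
  have h3 : ∀ y ∈ orbF G θ, (e • y.1) 1 = (e : ℂ) * charDegree θ.1 := by
    intro y hy
    obtain ⟨g, rfl⟩ := mem_orbF.mp hy
    rw [Pi.smul_apply, nsmul_eq_mul, one_eq_charDegree (isCharacter_of_irr (g • θ).2), deg_smul']
  rw [Finset.sum_apply, Finset.sum_congr rfl h3, Finset.sum_const, nsmul_eq_mul] at h1
  have h4 : (charDegree χ.1 : ℂ) = ((e * tt G θ * charDegree θ.1 : ℕ) : ℂ) := by
    rw [← h2]
    have h5 : χ.1 ((1 : N) : G) = χ.1 1 := rfl
    rw [← h5, h1, tt]
    push_cast
    ring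
  exact_mod_cast h4

theorem C_mem' (θ : IrrCharacter N) (a : ℕ) (hθ : θ ≠ oneI N)
    (h : ∃ χ : IrrCharacter G, ∑ n : N, conj (θ.1 n) * χ.1 n ≠ 0 ∧ charDegree χ.1 = a) :
    a ∈ relCharDegrees N := by
  obtain ⟨χ, hχ, rfl⟩ := h
  refine ⟨χ, ?_, rfl⟩
  by_contra hcon
  push Not at hcon
  apply hχ
  have h1 : ∀ n : N, χ.1 n = χ.1 1 := fun n => hcon n n.2
  simp_rw [h1]
  rw [← Finset.sum_mul, ← map_sum]
  have h2 := Cfsg.Agent.H06.classInner_irr_ne θ.2 (oneI N).2 (fun h => hθ (Subtype.ext h))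
  have h3 : (∑ n : N, θ.1 n) = 0 := by
    simp only [classInner, oneI, map_one, mul_one] at h2
    rcases mul_eq_zero.mp h2 with h4 | h4
    · exact absurd h4 (inv_ne_zero (Nat.cast_ne_zero.mpr Nat.card_pos.ne'))
    · exact h4
  rw [h3]
  simp

theorem V_C' (a : ℕ) (ha : a ∈ relCharDegrees N) :
    ∃ θ : IrrCharacter N, θ ≠ oneI N ∧
      ∃ χ : IrrCharacter G, ∑ n : N, conj (θ.1 n) * χ.1 n ≠ 0 ∧ charDegree χ.1 = a := by
  classical
  obtain ⟨χ, ⟨x, hx, hne⟩, rfl⟩ := ha
  obtain ⟨θ, hθ⟩ := exists_constituent N χ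
  refine ⟨θ, ?_, χ, hθ, rfl⟩
  rintro rfl
  obtain ⟨e, he, hsum⟩ := clifford_sum χ (oneI N) hθ
  have hinv : ∀ g : G, g • oneI N = oneI N := fun g => Subtype.ext (funext fun n => rfl)
  rw [orbF_of_inv hinv, Finset.sum_singleton] at hsum
  have h1 := congrFun hsum ⟨x, hx⟩
  have h2 := congrFun hsum 1
  apply hne
  have h3 : χ.1 ((⟨x, hx⟩ : N) : G) = χ.1 x := rfl
  have h4 : χ.1 ((1 : N) : G) = χ.1 1 := rfl
  simp only [h3, h4] at h1 h2
  rw [h1, h2]
  simp [oneI]

/-- The data of the abstract theorem. -/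
noncomputable def theCD (hNG : N ≤ commutator G) : CD G (IrrCharacter N) (N →* ℂˣ) where
  tw := twI
  D := detI
  deg θ := charDegree θ.1
  one := oneI N
  tw_smul g μ θ := Subtype.ext (funext fun n => rfl)
  tw_tw μ ν θ := Subtype.ext (funext fun n => by simp [twI_apply, mul_assoc])
  tw_one θ := Subtype.ext (funext fun n => by simp [twI_apply])
  D_tw := detI_tw
  D_smul := detI_smul
  deg_smul := deg_smul'
  deg_tw := deg_tw'
  one_inv g := Subtype.ext (funext fun n => rfl)
  D_one := detI_one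
  deg_one := deg_one'
  deg_pos := irr_pos
  lin := lin'
  C θ a := ∃ χ : IrrCharacter G, ∑ n : N, conj (θ.1 n) * χ.1 n ≠ 0 ∧ charDegree χ.1 = a
  C_exists θ := by
    obtain ⟨χ, hχ⟩ := exists_above (G := G) θ
    exact ⟨_, χ, hχ, rfl⟩
  C_spec := C_spec' hNG
  V := relCharDegrees N
  C_mem := C_mem'
  V_C := V_C'

scoped instance finiteLin : Finite (N →* ℂˣ) := by
  refine Finite.of_injective (fun μ : N →* ℂˣ =>
    (⟨fun n => (μ n : ℂ), isIrrCharacter_hom μ⟩ : IrrCharacter N)) ?_
  intro a b h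
  refine MonoidHom.ext fun n => Units.ext ?_
  exact congrFun (congrArg Subtype.val h) n

theorem hasE_of_dvd {r : ℕ} (hr : r.Prime) (hrm : r ∣ ⁅N, N⁆.relIndex N) : HasE G (N →* ℂˣ) r := by
  classical
  haveI : Fact r.Prime := ⟨hr⟩
  have hcard : Nat.card (Abelianization N) = ⁅N, N⁆.relIndex N := by
    have h1 : ⁅N, N⁆.subgroupOf N = commutator N := by
      rw [Subgroup.subgroupOf, ← Subgroup.map_subtype_commutator,
        Subgroup.comap_map_eq_self_of_injective N.subtype_injective]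
    rw [Subgroup.relIndex, h1]
    rfl
  obtain ⟨a, ha⟩ := exists_prime_orderOf_dvd_card' r (hcard ▸ hrm : r ∣ Nat.card (Abelianization N))
  have ha1 : a ≠ 1 := by
    rintro rfl
    rw [orderOf_one] at ha
    exact hr.one_lt.ne ha
  obtain ⟨φ, hφ⟩ := CommGroup.exists_apply_ne_one_of_hasEnoughRootsOfUnity (Abelianization N) ℂ ha1
  have hφa : (φ a) ^ r = 1 := by
    rw [← map_pow, ← ha, pow_orderOf_eq_one, map_one]
  have hord : orderOf (φ a) = r := orderOf_eq_prime hφa hφ
  have hφn : φ ^ Nat.card (Abelianization N) = 1 := MonoidHom.ext fun x => by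
    simp [← map_pow, pow_card_eq_one']
  have ho0 : orderOf φ ≠ 0 := by
    have h1 := orderOf_dvd_of_pow_eq_one hφn
    intro h0
    rw [h0, zero_dvd_iff] at h1
    exact Nat.card_pos.ne' h1
  have hro : r ∣ orderOf φ := by
    rw [← hord]
    apply orderOf_dvd_of_pow_eq_one
    have h1 : (φ ^ orderOf φ) a = 1 := by rw [pow_orderOf_eq_one]; rfl
    rw [MonoidHom.pow_apply] at h1
    exact h1
  have hν' := orderOf_pow_orderOf_div ho0 hro
  set ν' := φ ^ (orderOf φ / r) with hν'def
  let ν : N →* ℂˣ := ν'.comp Abelianization.of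
  have hνr : ν ^ r = 1 := MonoidHom.ext fun x => by
    have h1 : ν' ^ r = 1 := by rw [← hν', pow_orderOf_eq_one]
    have h2 : (ν' ^ r) (Abelianization.of x) = 1 := by rw [h1]; rfl
    simpa [ν] using h2
  have hν1 : ν ≠ 1 := by
    intro h0
    have h1 : ν' = 1 := by
      refine MonoidHom.ext fun x => ?_
      induction x using QuotientGroup.induction_on with | H y => ?_
      exact DFunLike.congr_fun h0 y
    rw [h1, orderOf_one] at hν'
    exact hr.one_lt.ne hν'
  -- the group of elements of exponent `r`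
  let K0 : Subgroup (N →* ℂˣ) := (powMonoidHom r : (N →* ℂˣ) →* (N →* ℂˣ)).ker
  have hK0 : ∀ μ, μ ∈ K0 ↔ μ ^ r = 1 := fun μ => MonoidHom.mem_ker
  letI : MulAction G K0 :=
    { smul := fun g y => ⟨g • y.1, (hK0 _).mpr (by rw [← smul_pow', (hK0 _).mp y.2]; exact MonoidHom.ext fun n => rfl)⟩
      one_smul := fun y => Subtype.ext (one_smul G y.1)
      mul_smul := fun a b y => Subtype.ext (mul_smul a b y.1) }
  have hsm : ∀ (g : G) (y : K0), ((g • y : K0) : N →* ℂˣ) = g • (y : N →* ℂˣ) := fun _ _ => rfl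
  have hνK : ν ∈ K0 := (hK0 _).mpr hνr
  have hrY : r ∣ Nat.card K0 := by
    have h1 : orderOf (⟨ν, hνK⟩ : K0) = r := by
      rw [Subgroup.orderOf_mk]
      exact orderOf_eq_prime hνr hν1
    rw [← h1]
    exact orderOf_dvd_natCard _
  let R : Sylow r G := default
  have hR : IsPGroup r (R : Subgroup G) := R.isPGroup'
  have ha0 : (1 : K0) ∈ MulAction.fixedPoints (R : Subgroup G) K0 := by
    intro x
    exact Subtype.ext (smul_one (x : G))
  obtain ⟨b, hb, hab⟩ := hR.exists_fixed_point_of_prime_dvd_card_of_fixed_point K0 hrY ha0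
  refine ⟨b.1, (hK0 _).mp b.2, fun h => hab (Subtype.ext h.symm), ?_⟩
  have hle : (R : Subgroup G) ≤ MulAction.stabilizer G b.1 := by
    intro x hx
    rw [MulAction.mem_stabilizer_iff]
    have := hb ⟨x, hx⟩
    exact congrArg Subtype.val this
  rw [tt_eq_index]
  intro hdvd
  exact R.not_dvd_index (hdvd.trans (Subgroup.index_dvd_of_le hle))

theorem rel_finite : (relCharDegrees N).Finite := by
  refine (Set.finite_range (fun χ : IrrCharacter G => charDegree χ.1)).subset ?_
  rintro a ⟨χ, _, rfl⟩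
  exact ⟨χ, rfl⟩

/-- **The relative degree graph.** -/
theorem rel_final (hN' : ⁅N, N⁆ < N) (hNG : N ≤ commutator G) :
    Nat.card (commonDivisorGraph.induce (relCharDegrees N)).ConnectedComponent ≤ 2 ∧
      ∀ (a b : ℕ) (ha : a ∈ relCharDegrees N) (hb : b ∈ relCharDegrees N),
        ¬ (commonDivisorGraph.induce (relCharDegrees N)).Reachable ⟨a, ha⟩ ⟨b, hb⟩ →
          (Nat.Coprime a (⁅N, N⁆.relIndex N) ∧ ∀ r : ℕ, r.Prime → r ∣ ⁅N, N⁆.relIndex N → r ∣ b) ∨
          (Nat.Coprime b (⁅N, N⁆.relIndex N) ∧ ∀ r : ℕ, r.Prime → r ∣ ⁅N, N⁆.relIndex N → r ∣ a) := by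
  have hm : 1 < ⁅N, N⁆.relIndex N := by
    have h1 : ⁅N, N⁆.relIndex N ≠ 1 := by
      rw [Ne, Subgroup.relIndex_eq_one]
      exact fun h => hN'.not_ge h
    have h2 : ⁅N, N⁆.relIndex N ≠ 0 := by
      show (⁅N, N⁆.subgroupOf N).index ≠ 0
      exact Subgroup.index_ne_zero_of_finite
    omega
  exact (theCD hNG).final rel_finite hm (fun r hr hrm => hasE_of_dvd hr hrm)

end Cfsg.Agent.H22.DG
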