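import Cfsg.Agent.Lib.H22.DegConc
import Cfsg.Agent.Lib.H22.ExtraUnique

/-!
# Manz: the character degree graph of a solvable group has at most two components
-/

set_option autoImplicit false
set_option linter.unusedSectionVars false
set_option linter.style.haveILetI false
set_option linter.unusedSimpArgs false
set_option linter.unusedVariables false

namespace Cfsg.Agent.H22.DG

open Cfsg Cfsg.Agent Cfsg.Agent.H21 Cfsg.Agent.H06 Cfsg.Agent.H22 Module

universe u

variable {G : Type u} [Group G] [Finite G]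

theorem nonlinear_mem (χ : IrrCharacter G) (h : charDegree χ.1 ≠ 1) :
    charDegree χ.1 ∈ relCharDegrees (commutator G) := by
  refine ⟨χ, ?_, rfl⟩
  by_contra hcon
  push Not at hcon
  exact h (Cfsg.Agent.H22.degree_one_of_commutator_ker χ.2 hcon)

/-- Two primes dividing one degree are connected. -/
theorem reach_same {p q d : ℕ} (hp : p.Prime) (hq : q.Prime) (hd : d ∈ charDegrees G) (hpd : p ∣ d)
    (hqd : q ∣ d) (hd0 : 0 < d) (hP : p ∈ degreePrimes G) (hQ : q ∈ degreePrimes G) :
    ((degreeGraph G).induce (degreePrimes G)).Reachable ⟨p, hP⟩ ⟨q, hQ⟩ := by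
  by_cases hpq : p = q
  · subst hpq
    exact SimpleGraph.Reachable.refl _
  · refine SimpleGraph.Adj.reachable ?_
    show p ≠ q ∧ p.Prime ∧ q.Prime ∧ ∃ d ∈ charDegrees G, p * q ∣ d
    refine ⟨hpq, hp, hq, d, hd, ?_⟩
    exact Nat.Coprime.mul_dvd_of_dvd_of_dvd ((Nat.coprime_primes hp hq).mpr hpq) hpd hqd

theorem rel_sub (a : ℕ) (ha : a ∈ relCharDegrees (commutator G)) : a ∈ charDegrees G := by
  obtain ⟨χ, _, rfl⟩ := ha
  exact ⟨χ, rfl⟩

theorem char_pos {a : ℕ} (ha : a ∈ charDegrees G) : 0 < a := by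
  obtain ⟨χ, rfl⟩ := ha
  have h1 := one_eq_charDegree (isCharacter_of_irr χ.2)
  have h2 := Cfsg.Agent.H06.irr_one_ne_zero' χ.2
  rw [h1] at h2
  exact Nat.pos_of_ne_zero (by exact_mod_cast h2)

/-- Reachability of degrees gives reachability of their prime divisors. -/
theorem reach_of_walk {u v : relCharDegrees (commutator G)}
    (h : (commonDivisorGraph.induce (relCharDegrees (commutator G))).Reachable u v) :
    ∀ {p q : ℕ} (hp : p.Prime) (hq : q.Prime) (hpu : p ∣ u.1) (hqv : q ∣ v.1)
      (hP : p ∈ degreePrimes G) (hQ : q ∈ degreePrimes G),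
      ((degreeGraph G).induce (degreePrimes G)).Reachable ⟨p, hP⟩ ⟨q, hQ⟩ := by
  obtain ⟨w⟩ := h
  induction w with
  | nil =>
    intro p q hp hq hpu hqv hP hQ
    rename_i x
    have hx := rel_sub _ x.2
    exact reach_same hp hq hx hpu hqv (char_pos hx) hP hQ
  | cons hadj w ih =>
    intro p q hp hq hpu hqv hP hQ
    rename_i x y z
    have hadj' : commonDivisorGraph.Adj x.1 y.1 := hadj
    have hgcd : 1 < Nat.gcd x.1 y.1 := hadj'.2
    obtain ⟨s, hs, hsg⟩ := Nat.exists_prime_and_dvd (show Nat.gcd x.1 y.1 ≠ 1 by omega)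
    have hsx : s ∣ x.1 := hsg.trans (Nat.gcd_dvd_left _ _)
    have hsy : s ∣ y.1 := hsg.trans (Nat.gcd_dvd_right _ _)
    have hS : s ∈ degreePrimes G := ⟨hs, x.1, rel_sub _ x.2, hsx⟩
    have hx := rel_sub _ x.2
    exact (reach_same hp hs hx hpu hsx (char_pos hx) hP hS).trans (ih hs hq hsy hqv hS hQ)

/-- **Manz.** -/
theorem manz_two [Group.IsSolvable G] :
    Nat.card ((degreeGraph G).induce (degreePrimes G)).ConnectedComponent ≤ 2 := by
  classical
  by_contra hcon
  have h2 : 2 < Nat.card ((degreeGraph G).induce (degreePrimes G)).ConnectedComponent := by omega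
  haveI : Finite ((degreeGraph G).induce (degreePrimes G)).ConnectedComponent :=
    Nat.finite_of_card_ne_zero (by omega)
  haveI := Fintype.ofFinite ((degreeGraph G).induce (degreePrimes G)).ConnectedComponent
  rw [Nat.card_eq_fintype_card] at h2
  obtain ⟨A, B, C, hAB, hAC, hBC⟩ := Fintype.two_lt_card_iff.mp h2
  induction A using SimpleGraph.ConnectedComponent.ind with | _ p₁ => ?_
  induction B using SimpleGraph.ConnectedComponent.ind with | _ p₂ => ?_
  induction C using SimpleGraph.ConnectedComponent.ind with | _ p₃ => ?_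
  have hdeg : ∀ p : degreePrimes G, ∃ u : relCharDegrees (commutator G), p.1 ∣ u.1 := by
    rintro ⟨p, hp, d, ⟨χ, rfl⟩, hpd⟩
    refine ⟨⟨_, nonlinear_mem χ ?_⟩, hpd⟩
    intro h1
    rw [h1] at hpd
    exact hp.one_lt.ne' (Nat.dvd_one.mp hpd)
  obtain ⟨u₁, hu₁⟩ := hdeg p₁
  obtain ⟨u₂, hu₂⟩ := hdeg p₂
  obtain ⟨u₃, hu₃⟩ := hdeg p₃
  have hN : commutator G ≠ ⊥ := by
    intro h0
    obtain ⟨χ, ⟨x, hx, hne⟩, _⟩ := u₁.2
    rw [h0, Subgroup.mem_bot] at hx
    exact hne (by rw [hx])
  have hlt : ⁅commutator G, commutator G⁆ < commutator G := Group.IsSolvable.commutator_lt_of_ne_bot hN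
  have hcard := (rel_final hlt le_rfl).1
  haveI : Finite (relCharDegrees (commutator G)) := rel_finite.to_subtype
  haveI : Finite (commonDivisorGraph.induce (relCharDegrees (commutator G))).ConnectedComponent :=
    Quot.finite _
  haveI := Fintype.ofFinite (commonDivisorGraph.induce (relCharDegrees (commutator G))).ConnectedComponent
  rw [Nat.card_eq_fintype_card] at hcard
  have hP : ∀ p : degreePrimes G, p.1.Prime := fun p => p.2.1
  have key : ∀ {p q : degreePrimes G} {u v : relCharDegrees (commutator G)}, p.1 ∣ u.1 → q.1 ∣ v.1 →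
      (commonDivisorGraph.induce (relCharDegrees (commutator G))).Reachable u v →
      ((degreeGraph G).induce (degreePrimes G)).Reachable p q := by
    intro p q u v hpu hqv h
    exact reach_of_walk h (hP p) (hP q) hpu hqv p.2 q.2
  have h12 : ¬ (commonDivisorGraph.induce (relCharDegrees (commutator G))).Reachable u₁ u₂ := fun h =>
    hAB (SimpleGraph.ConnectedComponent.sound (key hu₁ hu₂ h))
  have h13 : ¬ (commonDivisorGraph.induce (relCharDegrees (commutator G))).Reachable u₁ u₃ := fun h =>
    hAC (SimpleGraph.ConnectedComponent.sound (key hu₁ hu₃ h))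
  have h23 : ¬ (commonDivisorGraph.induce (relCharDegrees (commutator G))).Reachable u₂ u₃ := fun h =>
    hBC (SimpleGraph.ConnectedComponent.sound (key hu₂ hu₃ h))
  have h3 : 2 < Fintype.card (commonDivisorGraph.induce (relCharDegrees (commutator G))).ConnectedComponent :=
    Fintype.two_lt_card_iff.mpr ⟨SimpleGraph.connectedComponentMk _ u₁, SimpleGraph.connectedComponentMk _ u₂,
      SimpleGraph.connectedComponentMk _ u₃,
      fun h => h12 (SimpleGraph.ConnectedComponent.exact h),
      fun h => h13 (SimpleGraph.ConnectedComponent.exact h),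
      fun h => h23 (SimpleGraph.ConnectedComponent.exact h)⟩
  omega

end Cfsg.Agent.H22.DG
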