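import Cfsg.Agent.Lib.H22.PiKer5
import Cfsg.Agent.Lib.H21.KnorrCover
import Cfsg.Agent.Lib.H22.DefectZero

/-! # Central defect groups and maximal Brauer pairs -/

set_option autoImplicit false
set_option linter.unusedSectionVars false
set_option linter.style.haveILetI false
set_option linter.unusedSimpArgs false

namespace Cfsg.Agent.H22

open Cfsg Cfsg.Agent.H21 Module
open scoped ComplexConjugate

universe u

section Central

variable {K : Type u} [Group K] [Finite K] {p : ℕ} [hp : Fact p.Prime] {M : Ideal AlgInt}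

theorem central_idx (Z : Subgroup K) (hZc : ∀ z ∈ Z, ∀ g, z * g = g * z) :
    (Subgroup.centralizer (Z : Set K)).index = p ^ 0 := by
  have : Subgroup.centralizer (Z : Set K) = ⊤ := by
    rw [eq_top_iff]
    intro g _
    rw [Subgroup.mem_centralizer_iff]
    intro z hz
    exact hZc z hz g
  rw [this]
  simp

variable (hM : IsPModular p M)
include hM

theorem exists_ker_of_central_defect (Z : Subgroup K) [hZn : Z.Normal]
    (hZc : ∀ z ∈ Z, ∀ g, z * g = g * z) (hZp : IsPGroup p Z) {f : Set (IrrCharacter K)}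
    (hf : IsPBlock M f) (hD : IsDefectGroup p M f Z) :
    ∃ θ ∈ f, (∀ z ∈ Z, θ.1 z = θ.1 1) ∧
      (charDegree θ.1).factorization p + (Nat.card Z).factorization p =
        (Nat.card K).factorization p := by
  classical
  haveI : M.IsPrime := hM.2.1.isPrime
  obtain ⟨t, θ, hθ, hθeq⟩ := exists_inflation_in_block hM hZp (central_idx Z hZc) hf
  refine ⟨θ, hθ, ?_, ?_⟩
  · intro z hz
    rw [hθeq]
    simp only [Function.comp_apply]
    have : (QuotientGroup.mk' Z) z = 1 := (QuotientGroup.eq_one_iff z).2 hz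
    rw [this, map_one]
  · have hdeg : charDegree θ.1 = charDegree t.1 := by
      unfold charDegree
      rw [hθeq]
      simp
    have hdvd := charDegree_dvd_card t
    have hcard : Nat.card K = Nat.card (K ⧸ Z) * Nat.card Z :=
      Subgroup.card_eq_card_quotient_mul_card_subgroup Z
    have hpos : charDegree t.1 ≠ 0 := (irr_charDegree_pos t.2).ne'
    have hle := (Nat.factorization_le_iff_dvd hpos Nat.card_pos.ne').2 hdvd p
    have hfac : (Nat.card K).factorization p =
        (Nat.card (K ⧸ Z)).factorization p + (Nat.card Z).factorization p := by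
      rw [hcard, Nat.factorization_mul Nat.card_pos.ne' Nat.card_pos.ne']
      rfl
    have hmin := minExp_le (p := p) hθ
    have hcd := card_defect hM hf hD
    have hz : (Nat.card Z).factorization p = blockDefect p f := by
      rw [hcd, hp.out.factorization_pow]
      simp
    have hmc := minExp_le_card (p := p) hf
    rw [blockDefect_eq] at hz
    rw [hdeg] at hmin ⊢
    omega

theorem defect_le_of_char (Z : Subgroup K) [hZn : Z.Normal]
    (hZc : ∀ z ∈ Z, ∀ g, z * g = g * z) (hZp : IsPGroup p Z) {f : Set (IrrCharacter K)}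
    (hf : IsPBlock M f) {θ : IrrCharacter K} (hθ : θ ∈ f) (hker : ∀ z ∈ Z, θ.1 z = θ.1 1)
    (hdeg : (charDegree θ.1).factorization p + (Nat.card Z).factorization p =
        (Nat.card K).factorization p) {D' : Subgroup K} (hD' : IsDefectGroup p M f D') :
    D' ≤ Z := by
  classical
  haveI : M.IsPrime := hM.2.1.isPrime
  obtain ⟨x, hx, S, rfl⟩ := hD'
  have hreg : ¬ p ∣ orderOf x := by
    intro h
    apply hx.2.1
    rw [blockCoeff_eq_zero_of_singular hM hf h]
    exact mli_zero
  obtain ⟨tf, htf, htθ⟩ := exists_descend Z θ.2 hker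
  let t : IrrCharacter (K ⧸ Z) := ⟨tf, htf⟩
  have hcard : Nat.card K = Nat.card (K ⧸ Z) * Nat.card Z :=
    Subgroup.card_eq_card_quotient_mul_card_subgroup Z
  have hfac : (Nat.card K).factorization p =
      (Nat.card (K ⧸ Z)).factorization p + (Nat.card Z).factorization p := by
    rw [hcard, Nat.factorization_mul Nat.card_pos.ne' Nat.card_pos.ne']
    rfl
  have hdegt : charDegree t.1 = charDegree θ.1 := by
    unfold charDegree
    show ⌊(tf 1).re⌋₊ = _
    rw [← htθ]
    simp
  have hdz : ¬ p ∣ Nat.card (K ⧸ Z) / charDegree t.1 := by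
    rw [not_dvd_codegree_iff, hdegt]
    omega
  have huniq : ∀ ψ ∈ f, (∀ z ∈ Z, ψ.1 z = ψ.1 1) → ψ = θ := by
    intro ψ hψ hk
    obtain ⟨sf, hsf, hsψ⟩ := exists_descend Z ψ.2 hk
    let s : IrrCharacter (K ⧸ Z) := ⟨sf, hsf⟩
    have hs : SameBlock M t.1 s.1 := by
      rw [sameBlock_quot_iff hM hZp (central_idx Z hZc)]
      show SameBlock M (tf ∘ QuotientGroup.mk' Z) (sf ∘ QuotientGroup.mk' Z)
      rw [htθ, hsψ]
      exact block_sameBlock hf hθ hψ
    have h1 := eq_of_mem_block_of_defect_zero hM t hdz hs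
    apply Subtype.ext
    rw [← hsψ, ← htθ]
    have : sf = tf := congrArg Subtype.val h1
    rw [this]
  -- the sum
  have hdiv : charDegree t.1 * Nat.card Z ∣ Nat.card K := by
    rw [hcard]
    exact Nat.mul_dvd_mul_right (charDegree_dvd_card t) _
  obtain ⟨w, hw⟩ := hdiv
  have hwp : ¬ p ∣ w := by
    intro hd
    have hK0 : Nat.card K ≠ 0 := Nat.card_pos.ne'
    have h0 : charDegree t.1 * Nat.card Z ≠ 0 := fun h => by rw [h, zero_mul] at hw; exact hK0 hw
    have hw0 : w ≠ 0 := fun h => by rw [h, mul_zero] at hw; exact hK0 hw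
    have h1 : (Nat.card K).factorization p =
        (charDegree t.1).factorization p + (Nat.card Z).factorization p + w.factorization p := by
      rw [hw, Nat.factorization_mul h0 hw0, Nat.factorization_mul (left_ne_zero_of_mul h0)
        (right_ne_zero_of_mul h0)]
      rfl
    have h2 : 1 ≤ w.factorization p := (hp.out.dvd_iff_one_le_factorization hw0).1 hd
    rw [hdegt] at h1
    omega
  have hF1 : ∑ n : K, (if n ∈ Z then blockCoeff f (n * x) else 0) = blockCoeff f x := by
    rw [Finset.sum_eq_single (1 : K)]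
    · simp [Subgroup.one_mem]
    · intro n _ hn
      split_ifs with hnZ
      · apply blockCoeff_eq_zero_of_singular hM hf
        have hcomm : Commute n x := hZc n hnZ x
        obtain ⟨k, hk⟩ := (IsPGroup.iff_orderOf.1 hZp) ⟨n, hnZ⟩
        have hk' : orderOf n = p ^ k := by
          rw [← hk, Subgroup.orderOf_mk]
        have hk0 : k ≠ 0 := by
          rintro rfl
          rw [pow_zero] at hk'
          exact hn (orderOf_eq_one_iff.1 hk')
        have hcop : (orderOf n).Coprime (orderOf x) := by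
          rw [hk']
          exact Nat.Coprime.pow_left _ ((Nat.Prime.coprime_iff_not_dvd hp.out).2 hreg)
        rw [hcomm.orderOf_mul_eq_mul_orderOf_of_coprime hcop, hk']
        exact Dvd.dvd.mul_right (dvd_pow_self p hk0) _
      · rfl
    · simp
  have hF2 : ∑ n : K, (if n ∈ Z then blockCoeff f (n * x) else 0) =
      (Nat.card K : ℂ)⁻¹ * (θ.1 1 * conj ((Nat.card Z : ℂ) * θ.1 x)) := by
    have h1 : ∀ n : K, (if n ∈ Z then blockCoeff f (n * x) else 0) =
        (Nat.card K : ℂ)⁻¹ * ∑ χ : IrrCharacter K, eB f χ * (χ.1 1 *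
          conj (if n ∈ Z then χ.1 (n * x) else 0)) := by
      intro n
      split_ifs with hn
      · rw [blockCoeff_eq_ofOm]
        rfl
      · simp
    simp only [h1]
    rw [← Finset.mul_sum, Finset.sum_comm]
    congr 1
    rw [Finset.sum_eq_single θ]
    · rw [eB_apply_mem hθ]
      simp only [one_mul]
      rw [← Finset.mul_sum, ← map_sum]
      congr 2
      have h2 : ∀ n : K, (if n ∈ Z then θ.1 (n * x) else 0) = if n ∈ Z then θ.1 x else 0 := by
        intro n
        split_ifs with hn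
        · exact char_mul_of_ker (Cfsg.Agent.H21.isCharacter_of_irr θ.2) (hker n hn) x
        · rfl
      simp only [h2]
      rw [Finset.sum_ite, Finset.sum_const, Finset.sum_const_zero, add_zero, nsmul_eq_mul]
      congr 2
      rw [Nat.card_eq_fintype_card, Fintype.card_subtype]
    · intro χ _ hχ
      by_cases hχf : χ ∈ f
      · have hnot : ¬ ∀ z ∈ Z, χ.1 z = χ.1 1 := fun h => hχ (huniq χ hχf h)
        push Not at hnot
        have h3 := sum_normal_mul_eq_zero Z χ hnot x
        rw [← Finset.mul_sum, ← Finset.mul_sum, ← map_sum, h3]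
        simp
      · rw [eB_apply_not_mem hχf]
        simp
    · simp
  have hval : ¬ MemLocalIdeal M (conj (θ.1 x)) := by
    intro hmem
    apply hx.2.1
    rw [← hF1, hF2]
    have hθ1 : θ.1 1 = (charDegree θ.1 : ℂ) := one_eq_charDegree (Cfsg.Agent.H21.isCharacter_of_irr θ.2)
    have h1 : (Nat.card K : ℂ)⁻¹ * (θ.1 1 * conj ((Nat.card Z : ℂ) * θ.1 x)) =
        (w : ℂ)⁻¹ * conj (θ.1 x) := by
      rw [hθ1, map_mul, Complex.conj_natCast, ← hdegt]
      have h2 : (Nat.card K : ℂ) = (charDegree t.1 : ℂ) * (Nat.card Z : ℂ) * (w : ℂ) := by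
        rw [hw]
        push_cast
        ring
      have h3 : (charDegree t.1 : ℂ) ≠ 0 := by exact_mod_cast (irr_charDegree_pos t.2).ne'
      have h4 : (Nat.card Z : ℂ) ≠ 0 := by simp [Nat.card_pos.ne']
      have h5 : (w : ℂ) ≠ 0 := by
        intro h
        have : w = 0 := by exact_mod_cast h
        rw [this] at hwp
        exact hwp (dvd_zero p)
      rw [h2]
      field_simp
    rw [h1]
    exact mli_mul_left hmem (mlr_inv_natCast hM hwp)
  -- the conclusion
  rintro _ ⟨u', hu', rfl⟩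
  by_contra hnZ
  set u : K := u'.1 with hu
  have hucomm : Commute u x := Subgroup.mem_centralizer_singleton_iff.1 u'.2
  obtain ⟨k, hk⟩ := (IsPGroup.iff_orderOf.1 S.2) ⟨u', hu'⟩
  have hk' : orderOf u = p ^ k := by
    rw [← hk, Subgroup.orderOf_mk, Subgroup.orderOf_coe]
  have hc1 := char_mul_pElement_congr hM (Cfsg.Agent.H21.isCharacter_of_irr θ.2)
    (hucomm.inv_right) hk'
  have hzero : θ.1 (u * x⁻¹) = 0 := by
    rw [← htθ]
    show tf (QuotientGroup.mk' Z (u * x⁻¹)) = 0
    apply irr_eq_zero_of_defect_zero hM t hdz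
    rw [map_mul]
    have hcomm2 : Commute (QuotientGroup.mk' Z u) (QuotientGroup.mk' Z x⁻¹) :=
      (hucomm.inv_right).map _
    have hdvd1 : orderOf (QuotientGroup.mk' Z u) ∣ p ^ k := by
      rw [← hk']
      exact orderOf_map_dvd _ _
    have hdvd2 : orderOf (QuotientGroup.mk' Z x⁻¹) ∣ orderOf x := by
      have := orderOf_map_dvd (QuotientGroup.mk' Z) x⁻¹
      rwa [orderOf_inv] at this
    have hne1 : orderOf (QuotientGroup.mk' Z u) ≠ 1 := by
      intro h
      rw [orderOf_eq_one_iff] at h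
      exact hnZ ((QuotientGroup.eq_one_iff u).1 h)
    obtain ⟨j, -, hj⟩ := (Nat.dvd_prime_pow hp.out).1 hdvd1
    have hj0 : j ≠ 0 := by
      rintro rfl
      rw [pow_zero] at hj
      exact hne1 hj
    have hpd : ¬ p ∣ orderOf (QuotientGroup.mk' Z x⁻¹) := fun h => hreg (h.trans hdvd2)
    have hcop : (orderOf (QuotientGroup.mk' Z u)).Coprime (orderOf (QuotientGroup.mk' Z x⁻¹)) := by
      rw [hj]
      exact Nat.Coprime.pow_left _ ((Nat.Prime.coprime_iff_not_dvd hp.out).2 hpd)
    rw [hcomm2.orderOf_mul_eq_mul_orderOf_of_coprime hcop, hj]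
    exact Dvd.dvd.mul_right (dvd_pow_self p hj0) _
  rw [hzero, zero_sub] at hc1
  have hc2 := mli_neg hc1
  rw [neg_neg, irr_inv' θ x] at hc2
  exact hval hc2

end Central

section Pair

variable {G : Type u} [Group G] [Finite G] {p : ℕ} [hp : Fact p.Prime] {M : Ideal AlgInt}

variable (hM : IsPModular p M)
include hM

/-- **The inertial index of a maximal Brauer pair is prime to `p`.** -/
theorem inertial_p_index {B : Set (IrrCharacter G)} {Q : Subgroup G}
    {e : Set (IrrCharacter (Subgroup.centralizer (Q : Set G)))}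
    (hmax : IsMaximalBrauerPair p M B Q e) {T : Subgroup G}
    (hT : ∀ y : G, y ∈ T ↔ y ∈ Subgroup.normalizer (Q : Set G) ∧
      StabilizesBlock (Subgroup.centralizer (Q : Set G)) e y) :
    ¬ p ∣ ((Q ⊔ Subgroup.centralizer (Q : Set G)).subgroupOf T).index := by
  classical
  haveI : M.IsPrime := hM.2.1.isPrime
  obtain ⟨⟨hQp, he⟩, hB, hsub⟩ := isBrauerPairOf_iff.mp hmax.1
  have hCT : Subgroup.centralizer (Q : Set G) ≤ T := fun c hc =>
    (hT c).2 ⟨Subgroup.centralizer_le_normalizer _ hc, stabilizes_of_mem e hc⟩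
  have hQT : Q ≤ T := fun q hq =>
    (hT q).2 ⟨Subgroup.le_normalizer hq, stabilizes_of_centralizer e (by
      rw [Subgroup.mem_centralizer_iff]
      intro c hc
      exact ((Subgroup.mem_centralizer_iff.1 hc) q hq).symm)⟩
  have hTN : T ≤ Subgroup.normalizer (Q : Set G) := fun t ht => ((hT t).1 ht).1
  haveI hNn : ((Subgroup.centralizer (Q : Set G)).subgroupOf T).Normal :=
    normal_centralizer_subgroupOf hTN
  set N' := (Subgroup.centralizer (Q : Set G)).subgroupOf T with hN'
  set Φ := Subgroup.subgroupOfEquivOfLe hCT with hΦ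
  set b : Set (IrrCharacter N') := irrMap Φ.symm '' e with hb
  have hbb : IsPBlock M b := isPBlock_image _ he
  have hinv : ∀ t : T, ∀ θ ∈ b, conjIrr N' t θ ∈ b := by
    rintro t _ ⟨ξ, hξ, rfl⟩
    have hs := ((hT t.1).1 t.2).2
    have hsi := inv_stabilizes hs
    have hNi : (t : G)⁻¹ ∈ Subgroup.normalizer (Subgroup.centralizer (Q : Set G) : Set G) := hsi.1
    obtain ⟨ξ', hξ', hrel⟩ : ∃ ξ' ∈ e, irrMap (conjEquiv _ _ (t : G)⁻¹ (normalizer_iff_of_mem hNi)) ξ = ξ' :=
      ⟨_, (stabilizesBlock_iff hNi).mp hsi ⟨ξ, hξ, rfl⟩, rfl⟩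
    refine ⟨ξ', hξ', ?_⟩
    apply Subtype.ext
    funext n
    rw [conjIrr_apply, irrMap_apply, ← hrel, irrMap_apply, irrMap_apply]
    refine congrArg ξ.1 ?_
    apply Subtype.ext
    show ((t : G)⁻¹)⁻¹ * ((n : T) : G) * (t : G)⁻¹ = (t : G) * ((n : T) : G) * (t : G)⁻¹
    rw [inv_inv]
  obtain ⟨ξ₀, hξ₀⟩ := block_nonempty he
  obtain ⟨χ₀, hχ₀⟩ := exists_above (irrMap Φ.symm ξ₀)
  let C := (blocksF M T).filter (fun B' => ∃ χ ∈ B', ∃ θ ∈ b, ∑ n : N', conj (θ.1 n) * χ.1 n ≠ 0)
  have hCne : C.Nonempty := ⟨blockOf M χ₀.1, Finset.mem_filter.mpr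
    ⟨mem_blocksF.mpr (isBlock_blockOf χ₀), χ₀, self_mem_blockOf χ₀, _, ⟨ξ₀, hξ₀, rfl⟩, hχ₀⟩⟩
  obtain ⟨B', hB'C, hmaxB⟩ := C.exists_max_image (blockDefect p) hCne
  have hB'F := (Finset.mem_filter.mp hB'C)
  have hB' : IsPBlock M B' := mem_blocksF.mp hB'F.1
  obtain ⟨P', hP'⟩ := isDefectGroup_exists (p := p) hB'
  have hk := knorr_main hM hbb hinv hB' hB'F.2 (fun B'' hB'' hc => hmaxB B''
    (Finset.mem_filter.mpr ⟨mem_blocksF.mpr hB'', hc⟩)) hP'
  obtain ⟨χ, hχ, θ, hθ, hne⟩ := hB'F.2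
  obtain ⟨ξ, hξ, rfl⟩ := hθ
  have hbr : irrMap Φ (irrMap Φ.symm ξ) ∈ brSet M Q (blockCoeff B) := by
    have h1 := irrMap_symm_irrMap Φ.symm ξ
    rw [MulEquiv.symm_symm] at h1
    rw [h1]
    exact hsub hξ
  have hind0 := induced_of_above hCT hM hQp hQT hTN χ _ hne hB hbr
  rw [← block_eq_of_mem hB' hχ] at hind0
  obtain ⟨E, hE, hPE⟩ := induced_defect_le hM hind0 hP'
  have hQD := isDefectGroup_of_maximal hM hmax
  have hcE := card_defect_eq hM hB hE hQD
  haveI hQn : (Q.subgroupOf T).Normal := normal_subgroupOf_of_le_normalizer hTN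
  have hQP' : Q.subgroupOf T ≤ P' :=
    normal_le_defect (Q := Q.subgroupOf T) hM (hQp.comap_of_injective _ (Subgroup.subtype_injective T)) hB' hP'
  have hQE : Q ≤ E := by
    intro q hq
    apply hPE
    exact ⟨⟨q, hQT hq⟩, hQP' hq, rfl⟩
  have hQEeq : Q = E := Subgroup.eq_of_le_of_card_ge hQE (le_of_eq hcE)
  have hP'le : P' ≤ (Q ⊔ Subgroup.centralizer (Q : Set G)).subgroupOf T := by
    intro x hx
    rw [Subgroup.mem_subgroupOf]
    have : (x : G) ∈ E := hPE ⟨x, hx, rfl⟩
    rw [← hQEeq] at this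
    exact (le_sup_left : Q ≤ Q ⊔ Subgroup.centralizer (Q : Set G)) this
  have hN'le : N' ≤ (Q ⊔ Subgroup.centralizer (Q : Set G)).subgroupOf T := by
    intro x hx
    rw [Subgroup.mem_subgroupOf]
    exact (le_sup_right : Subgroup.centralizer (Q : Set G) ≤ Q ⊔ Subgroup.centralizer (Q : Set G)) hx
  intro hd
  exact hk.1 (hd.trans (Subgroup.index_dvd_of_le (sup_le hP'le hN'le)))

/-- `p`-elements stabilizing the block of a maximal pair lie in `Q C(Q)`. -/
theorem inertial_p {B : Set (IrrCharacter G)} {Q : Subgroup G}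
    {e : Set (IrrCharacter (Subgroup.centralizer (Q : Set G)))}
    (hmax : IsMaximalBrauerPair p M B Q e) {T : Subgroup G}
    (hT : ∀ y : G, y ∈ T ↔ y ∈ Subgroup.normalizer (Q : Set G) ∧
      StabilizesBlock (Subgroup.centralizer (Q : Set G)) e y) {y : G} (hy : y ∈ T)
    (hyp : ∃ k : ℕ, orderOf y = p ^ k) : y ∈ Q ⊔ Subgroup.centralizer (Q : Set G) := by
  classical
  have hidx := inertial_p_index hM hmax hT
  set L := (Q ⊔ Subgroup.centralizer (Q : Set G)).subgroupOf T with hL
  have hTN : T ≤ Subgroup.normalizer (Q : Set G) := fun t ht => ((hT t).1 ht).1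
  haveI hLn : L.Normal := by
    constructor
    intro n hn g
    rw [hL, Subgroup.mem_subgroupOf] at hn ⊢
    have h1 : (Q ⊔ Subgroup.centralizer (Q : Set G)).map (MulAut.conj (g : G)).toMonoidHom ≤
        Q ⊔ Subgroup.centralizer (Q : Set G) := by
      rw [Subgroup.map_sup]
      apply sup_le_sup
      · rintro _ ⟨q, hq, rfl⟩
        exact (Subgroup.mem_normalizer_iff.mp (hTN g.2) q).mp hq
      · rintro _ ⟨c, hc, rfl⟩
        exact (Subgroup.mem_normalizer_iff.mp (normalizer_le_normalizer_centralizer Q (hTN g.2)) c).mp hc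
    exact h1 ⟨_, hn, rfl⟩
  obtain ⟨k, hk⟩ := hyp
  have h1 : orderOf ((⟨y, hy⟩ : T) : T ⧸ L) ∣ L.index := by
    rw [Subgroup.index_eq_card]
    exact orderOf_dvd_natCard _
  have h2 : orderOf ((⟨y, hy⟩ : T) : T ⧸ L) ∣ p ^ k := by
    have h3 := orderOf_map_dvd (QuotientGroup.mk' L) (⟨y, hy⟩ : T)
    rw [Subgroup.orderOf_mk, hk] at h3
    exact h3
  have h4 : Nat.Coprime (p ^ k) L.index :=
    Nat.Coprime.pow_left _ ((Nat.Prime.coprime_iff_not_dvd hp.out).2 hidx)
  have h5 : orderOf ((⟨y, hy⟩ : T) : T ⧸ L) = 1 :=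
    Nat.eq_one_of_dvd_coprimes h4 h2 h1
  rw [orderOf_eq_one_iff, QuotientGroup.eq_one_iff] at h5
  exact Subgroup.mem_subgroupOf.mp h5

omit hM in
theorem exists_normal_step [M.IsPrime] {a b : BrauerPairIdx G}
    (h : Relation.ReflTransGen (NormalSubpairRel p M) a b) :
    a.1 ≠ b.1 → ∃ c, NormalSubpairRel p M a c ∧ a.1 < c.1 := by
  induction h using Relation.ReflTransGen.head_induction_on with
  | refl =>
    intro h
    exact absurd rfl h
  | @head a c h1 h2 ih =>
    intro hne
    by_cases hac : a.1 = c.1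
    · have hEq : a = c := chain_eq_of_fst_eq (Relation.ReflTransGen.single h1) hac
      subst hEq
      exact ih hne
    · refine ⟨c, h1, lt_of_le_of_ne ?_ hac⟩
      exact (isNormalSubpair_iff.mp h1).2.2.1

omit hM hp in
theorem mem_sup_centralizer {Q : Subgroup G} {r : G} (h : r ∈ Q ⊔ Subgroup.centralizer (Q : Set G)) :
    ∃ q ∈ Q, ∃ c ∈ Subgroup.centralizer (Q : Set G), r = q * c := by
  let W : Subgroup G :=
    { carrier := {x | ∃ q ∈ Q, ∃ c ∈ Subgroup.centralizer (Q : Set G), x = q * c}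
      one_mem' := ⟨1, Q.one_mem, 1, Subgroup.one_mem _, by simp⟩
      mul_mem' := by
        rintro _ _ ⟨q, hq, c, hc, rfl⟩ ⟨q', hq', c', hc', rfl⟩
        refine ⟨q * q', Q.mul_mem hq hq', c * c', Subgroup.mul_mem _ hc hc', ?_⟩
        have h1 : c * q' = q' * c := ((Subgroup.mem_centralizer_iff.1 hc) q' hq').symm
        calc q * c * (q' * c') = q * (c * q') * c' := by group
          _ = q * (q' * c) * c' := by rw [h1]
          _ = q * q' * (c * c') := by group
      inv_mem' := by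
        rintro _ ⟨q, hq, c, hc, rfl⟩
        refine ⟨q⁻¹, Q.inv_mem hq, c⁻¹, Subgroup.inv_mem _ hc, ?_⟩
        have h1 : c * q = q * c := ((Subgroup.mem_centralizer_iff.1 hc) q hq).symm
        rw [mul_inv_rev]
        have h2 : c⁻¹ * q⁻¹ = (q * c)⁻¹ := by rw [mul_inv_rev]
        have h3 : q⁻¹ * c⁻¹ = (c * q)⁻¹ := by rw [mul_inv_rev]
        rw [h3, h1, mul_inv_rev] }
  have hle : Q ⊔ Subgroup.centralizer (Q : Set G) ≤ W := by
    apply sup_le
    · intro q hq
      exact ⟨q, hq, 1, Subgroup.one_mem _, by simp⟩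
    · intro c hc
      exact ⟨1, Q.one_mem, c, hc, by simp⟩
  exact hle h

/-- **Characterization of maximal Brauer pairs.** -/
theorem maximal_pair_iff (Q : Subgroup G)
    (e : Set (IrrCharacter (Subgroup.centralizer (Q : Set G)))) (he : IsBrauerPair p M Q e) :
    (∃ B : Set (IrrCharacter G), IsMaximalBrauerPair p M B Q e) ↔
      ∃ θ ∈ e, (∀ z : Subgroup.centralizer (Q : Set G), (z : G) ∈ Q → θ.1 z = θ.1 1) ∧
        (charDegree θ.1).factorization p +
          (Nat.card ↥(Q ⊓ Subgroup.centralizer (Q : Set G))).factorization p =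
            (Nat.card (Subgroup.centralizer (Q : Set G))).factorization p ∧
        (∀ g : G, g ∈ Subgroup.normalizer (Q : Set G) →
          StabilizesBlock (Subgroup.centralizer (Q : Set G)) e g → (∃ k : ℕ, orderOf g = p ^ k) →
            g ∈ Q ⊔ Subgroup.centralizer (Q : Set G)) := by
  classical
  haveI : M.IsPrime := hM.2.1.isPrime
  set Z : Subgroup (Subgroup.centralizer (Q : Set G)) :=
    (Q ⊓ Subgroup.centralizer (Q : Set G)).subgroupOf (Subgroup.centralizer (Q : Set G)) with hZ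
  have hZc : ∀ z ∈ Z, ∀ g, z * g = g * z := by
    intro z hz g
    apply Subtype.ext
    have hzQ : (z : G) ∈ Q := (Subgroup.mem_subgroupOf.mp hz).1
    exact (Subgroup.mem_centralizer_iff.1 g.2) z hzQ
  haveI hZn : Z.Normal := by
    constructor
    intro n hn g
    rw [← hZc n hn g, mul_assoc, mul_inv_cancel, mul_one]
    exact hn
  have hZp : IsPGroup p Z := by
    have h1 : IsPGroup p ↥(Q ⊓ Subgroup.centralizer (Q : Set G)) := he.1.to_le inf_le_left
    exact h1.comap_of_injective _ (Subgroup.subtype_injective _)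
  have hcard : Nat.card Z = Nat.card ↥(Q ⊓ Subgroup.centralizer (Q : Set G)) :=
    Nat.card_congr (Subgroup.subgroupOfEquivOfLe inf_le_right).toEquiv
  constructor
  · rintro ⟨B, hmax⟩
    have hD := defect_of_maximal hM hmax
    obtain ⟨θ, hθ, hk, hdeg⟩ := exists_ker_of_central_defect hM Z hZc hZp he.2 hD
    refine ⟨θ, hθ, fun z hz => hk z (Subgroup.mem_subgroupOf.mpr ⟨hz, z.2⟩), ?_, ?_⟩
    · rwa [hcard] at hdeg
    · intro g hgN hgS hgp
      exact inertial_p hM hmax
        (T := Subgroup.normalizer (Q : Set G) ⊓ stabG (Subgroup.centralizer (Q : Set G)) e)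
        (fun y => Iff.rfl) ⟨hgN, hgS⟩ hgp
  · rintro ⟨θ, hθ, hk, hdeg, hst⟩
    obtain ⟨B, hB, -⟩ := existsUnique_block_of_pair hM he
    refine ⟨B, hB, fun R g hRg hle => ?_⟩
    by_contra hne
    obtain ⟨⟨R₁, g₁⟩, hstep, hlt⟩ := exists_normal_step hle (Ne.symm hne)
    have hstep' : IsNormalSubpair p M Q e R₁ g₁ := hstep
    obtain ⟨hb₁, hb₂, hle₁, hN, hstb, hsub⟩ := isNormalSubpair_iff.mp hstep'
    have hlt' : Q < R₁ := hlt
    obtain ⟨r, hr, hrQ⟩ := SetLike.exists_of_lt hlt'
    have hrp : ∃ k : ℕ, orderOf r = p ^ k := by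
      obtain ⟨k, hk'⟩ := (IsPGroup.iff_orderOf.1 hb₂.1) ⟨r, hr⟩
      exact ⟨k, by rw [← hk', Subgroup.orderOf_mk]⟩
    obtain ⟨q, hq, c, hc, rfl⟩ := mem_sup_centralizer (hst r (hN hr) (hstb r hr) hrp)
    have hcR : c ∈ R₁ := by
      have h1 : q⁻¹ * (q * c) ∈ R₁ := R₁.mul_mem (R₁.inv_mem (hle₁ hq)) hr
      simpa using h1
    have hcQ : c ∉ Q := fun h => hrQ (Q.mul_mem hq h)
    obtain ⟨D', hD', hle'⟩ := exists_defect_centralizer hM hb₂
      (Relation.ReflTransGen.single hstep') he.2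
    have hker : ∀ z ∈ Z, θ.1 z = θ.1 1 := fun z hz => hk z (Subgroup.mem_subgroupOf.mp hz).1
    have hdeg' : (charDegree θ.1).factorization p + (Nat.card Z).factorization p =
        (Nat.card (Subgroup.centralizer (Q : Set G))).factorization p := by
      rw [hcard]
      exact hdeg
    have h1 := defect_le_of_char hM Z hZc hZp he.2 hθ hker hdeg' hD'
    have h2 : (⟨c, hc⟩ : Subgroup.centralizer (Q : Set G)) ∈ D' :=
      hle' (Subgroup.mem_subgroupOf.mpr ⟨hcR, hc⟩)
    exact hcQ (Subgroup.mem_subgroupOf.mp (h1 h2)).1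

end Pair

end Cfsg.Agent.H22
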