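import Cfsg.Agent.Lib.H21.NormalBlocks

/-! # The squared degrees of the characters of a block over a character of a normal subgroup -/

set_option autoImplicit false
set_option linter.unusedSectionVars false
set_option linter.style.haveILetI false
set_option linter.unusedSimpArgs false
set_option linter.unusedVariables false

namespace Cfsg.Agent.H22

open Cfsg Cfsg.Agent.H21 Module
open scoped ComplexConjugate

universe u

variable {G : Type u} [Group G] [Finite G] {p : ℕ} [hp : Fact p.Prime] {M : Ideal AlgInt}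

theorem constituents_conj (χ : IrrCharacter G) {N : Subgroup G} [hN : N.Normal]
    {θ ψ : IrrCharacter N}
    (hθ : ∑ n : N, conj (θ.1 n) * χ.1 n ≠ 0) (hψ : ∑ n : N, conj (ψ.1 n) * χ.1 n ≠ 0) :
    ∃ t : G, conjIrr N t ψ = θ := by
  refine exists_conj_of_eq (fun n => ?_)
  rw [← cc_eq_indCC χ ψ hψ n, ← cc_eq_indCC χ θ hθ n]

/-- A prime dividing the index: Sylow subgroup not in a normal subgroup. -/
theorem dvd_index_of_not_le (N : Subgroup G) [hN : N.Normal] (P : Sylow p G)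
    (hPN : ¬ (P : Subgroup G) ≤ N) : p ∣ N.index := by
  have hp' : p.Prime := Fact.out
  by_contra hnd
  apply hPN
  intro x hx
  obtain ⟨k, hk⟩ := (IsPGroup.iff_orderOf.mp P.isPGroup') ⟨x, hx⟩
  have h1 : x ^ (p ^ k) = 1 := by
    have h2 : ((⟨x, hx⟩ : (P : Subgroup G))) ^ (p ^ k) = 1 := by
      rw [← hk]; exact pow_orderOf_eq_one _
    simpa using congrArg Subtype.val h2
  have h3 : ((x : G ⧸ N)) ^ (p ^ k) = 1 := by
    rw [← QuotientGroup.mk_pow, h1]; rfl
  have h4 : ((x : G ⧸ N)) ^ N.index = 1 := by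
    have h5 : Nat.card (G ⧸ N) = N.index := rfl
    rw [← h5]
    exact pow_card_eq_one'
  have h6 : orderOf (x : G ⧸ N) ∣ Nat.gcd (p ^ k) N.index :=
    Nat.dvd_gcd (orderOf_dvd_of_pow_eq_one h3) (orderOf_dvd_of_pow_eq_one h4)
  have h7 : Nat.gcd (p ^ k) N.index = 1 :=
    Nat.Coprime.pow_left k ((Nat.Prime.coprime_iff_not_dvd hp').mpr hnd)
  rw [h7, Nat.dvd_one, orderOf_eq_one_iff] at h6
  exact (QuotientGroup.eq_one_iff x).mp h6

/-- The sum `Σ_{χ ∈ B} χ(1) [χ|N, θ]` lies in `|G:N|` times the local ring. -/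
theorem block_mult_sum (hM : IsPModular p M) {B : Set (IrrCharacter G)} (hB : IsPBlock M B)
    (N : Subgroup G) (hdvd : p ∣ N.index) (ψ : IrrCharacter N) :
    MemLocalIdeal M (∑ χ : IrrCharacter G, eB B χ * (χ.1 1 *
      ((Nat.card N : ℂ)⁻¹ * ∑ n : N, conj (ψ.1 n) * χ.1 n))) := by
  classical
  haveI : M.IsPrime := hM.2.1.isPrime
  have hG : (Nat.card G : ℂ) ≠ 0 := by exact_mod_cast Nat.card_pos.ne'
  have hNc : (Nat.card N : ℂ) ≠ 0 := by exact_mod_cast Nat.card_pos.ne'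
  have hidx : (Nat.card G : ℂ) = (Nat.card N : ℂ) * (N.index : ℂ) := by
    have := Subgroup.card_mul_index N
    exact_mod_cast this.symm
  have hcoef : ∀ n : N, ∑ χ : IrrCharacter G, eB B χ * (χ.1 1 * χ.1 n) =
      (Nat.card G : ℂ) * blockCoeff B ((n : G)⁻¹) := by
    intro n
    rw [blockCoeff_eq_ofOm]
    unfold ofOm
    rw [← mul_assoc, mul_inv_cancel₀ hG, one_mul]
    refine Finset.sum_congr rfl fun χ _ => ?_
    rw [irr_inv', Complex.conj_conj]
  have hmain : (∑ χ : IrrCharacter G, eB B χ * (χ.1 1 *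
      ((Nat.card N : ℂ)⁻¹ * ∑ n : N, conj (ψ.1 n) * χ.1 n))) =
      (N.index : ℂ) * ∑ n : N, conj (ψ.1 n) * blockCoeff B ((n : G)⁻¹) := by
    have h1 : (∑ χ : IrrCharacter G, eB B χ * (χ.1 1 *
      ((Nat.card N : ℂ)⁻¹ * ∑ n : N, conj (ψ.1 n) * χ.1 n))) =
        (Nat.card N : ℂ)⁻¹ * ∑ n : N, conj (ψ.1 n) *
          ∑ χ : IrrCharacter G, eB B χ * (χ.1 1 * χ.1 n) := by
      simp only [Finset.mul_sum]
      rw [Finset.sum_comm]
      refine Finset.sum_congr rfl fun χ _ => Finset.sum_congr rfl fun n _ => ?_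
      ring
    rw [h1]
    simp only [hcoef]
    rw [hidx]
    rw [Finset.mul_sum, Finset.mul_sum]
    refine Finset.sum_congr rfl fun n _ => ?_
    field_simp
  rw [hmain]
  refine mli_mul_right ((mli_natCast_iff hM _).mpr hdvd) ?_
  refine mlr_sum _ _ fun n _ => mlr_mul ?_ (blockCoeff_mlr hB _)
  rw [← irr_inv']
  exact mlr_of_isIntegral (irr_isIntegral' ψ _)

open scoped Classical in
/-- The squared degrees over a character of a normal subgroup of index divisible by `p`. -/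
theorem sum_sq_over_dvd (hM : IsPModular p M) {B : Set (IrrCharacter G)} (hB : IsPBlock M B)
    (N : Subgroup G) [hN : N.Normal] (hdvd : p ∣ N.index) (θ : IrrCharacter N) :
    p ∣ ∑ χ ∈ (Finset.univ : Finset (IrrCharacter G)).filter
      (fun χ => χ ∈ B ∧ ∑ n : N, conj (θ.1 n) * χ.1 n ≠ 0), (charDegree χ.1) ^ 2 := by
  classical
  haveI : M.IsPrime := hM.2.1.isPrime
  set O : Finset (IrrCharacter N) := Finset.univ.filter (fun ψ => ∃ t : G, conjIrr N t ψ = θ) with hO
  set I : IrrCharacter G → IrrCharacter N → ℂ := fun χ ψ =>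
    (Nat.card N : ℂ)⁻¹ * ∑ n : N, conj (ψ.1 n) * χ.1 n with hI
  have hNc : (Nat.card N : ℂ) ≠ 0 := by exact_mod_cast Nat.card_pos.ne'
  have hI0 : ∀ χ ψ, I χ ψ = 0 ↔ ∑ n : N, conj (ψ.1 n) * χ.1 n = 0 := by
    intro χ ψ
    simp only [hI]
    constructor
    · intro h
      exact (mul_eq_zero.mp h).resolve_left (inv_ne_zero hNc)
    · intro h
      rw [h, mul_zero]
  -- the expansion of `χ(1)` on `N`
  have hexp : ∀ χ : IrrCharacter G, χ.1 1 = ∑ ψ : IrrCharacter N, I χ ψ * ψ.1 1 := by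
    intro χ
    have hcl : IsClassFunction N (fun n : N => χ.1 n) := by
      intro g k
      have := irr_conj' χ (g : G) (k : G)
      simpa using this
    have h1 := congrFun (classFunction_expansion (fun n : N => χ.1 n) hcl) 1
    simp only [Finset.sum_apply, Pi.smul_apply, smul_eq_mul] at h1
    have h2 : χ.1 ((1 : N) : G) = χ.1 1 := rfl
    rw [h2] at h1
    rw [h1]
    refine Finset.sum_congr rfl fun ψ _ => ?_
    simp only [hI]
    congr 1
    unfold classInner
    congr 1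
    refine Finset.sum_congr rfl fun n _ => mul_comm _ _
  have hover : ∀ χ : IrrCharacter G, ∑ n : N, conj (θ.1 n) * χ.1 n ≠ 0 →
      ∑ ψ ∈ O, I χ ψ * ψ.1 1 = χ.1 1 := by
    intro χ hne
    rw [hexp χ]
    refine Finset.sum_subset (Finset.subset_univ _) fun ψ _ hψ => ?_
    have h1 : I χ ψ = 0 := by
      rw [hI0]
      by_contra hc
      apply hψ
      rw [hO, Finset.mem_filter]
      exact ⟨Finset.mem_univ _, constituents_conj χ hne hc⟩
    rw [h1, zero_mul]
  have hnotover : ∀ χ : IrrCharacter G, ∑ n : N, conj (θ.1 n) * χ.1 n = 0 →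
      ∑ ψ ∈ O, I χ ψ * ψ.1 1 = 0 := by
    intro χ hzero
    refine Finset.sum_eq_zero fun ψ hψ => ?_
    obtain ⟨-, t, rfl⟩ := Finset.mem_filter.mp hψ
    have h1 : I χ ψ = 0 := by
      rw [hI0, ← const_conj χ ψ t]
      exact hzero
    rw [h1, zero_mul]
  -- the total
  have htot : MemLocalIdeal M (∑ χ : IrrCharacter G, eB B χ * (χ.1 1 * ∑ ψ ∈ O, I χ ψ * ψ.1 1)) := by
    have h1 : (∑ χ : IrrCharacter G, eB B χ * (χ.1 1 * ∑ ψ ∈ O, I χ ψ * ψ.1 1)) =
        ∑ ψ ∈ O, (∑ χ : IrrCharacter G, eB B χ * (χ.1 1 * I χ ψ)) * ψ.1 1 := by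
      simp only [Finset.mul_sum, Finset.sum_mul]
      rw [Finset.sum_comm]
      refine Finset.sum_congr rfl fun ψ _ => Finset.sum_congr rfl fun χ _ => ?_
      ring
    rw [h1]
    refine mli_sum _ _ fun ψ _ => mli_mul_right (block_mult_sum hM hB N hdvd ψ) ?_
    exact mlr_of_isIntegral (irr_isIntegral' ψ _)
  have hval : (∑ χ : IrrCharacter G, eB B χ * (χ.1 1 * ∑ ψ ∈ O, I χ ψ * ψ.1 1)) =
      ((∑ χ ∈ (Finset.univ : Finset (IrrCharacter G)).filter
      (fun χ => χ ∈ B ∧ ∑ n : N, conj (θ.1 n) * χ.1 n ≠ 0), (charDegree χ.1) ^ 2 : ℕ) : ℂ) := by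
    push_cast
    rw [Finset.sum_filter]
    refine Finset.sum_congr rfl fun χ _ => ?_
    by_cases hb : χ ∈ B
    · rw [eB_apply_mem hb, one_mul]
      by_cases hne : ∑ n : N, conj (θ.1 n) * χ.1 n = 0
      · rw [hnotover χ hne, mul_zero, if_neg]
        rintro ⟨-, h⟩
        exact h hne
      · rw [hover χ hne, if_pos ⟨hb, hne⟩, Cfsg.Agent.H21.one_eq_charDegree (Cfsg.Agent.H21.isCharacter_of_irr χ.2)]
        push_cast
        ring
    · rw [eB_apply_not_mem hb, zero_mul, if_neg]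
      rintro ⟨h, -⟩
      exact hb h
  rw [hval] at htot
  exact (mli_natCast_iff hM _).mp htot

end Cfsg.Agent.H22
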