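import Cfsg.Agent.Lib.H21.PairDefect
import Cfsg.Agent.Lib.H22.HChain
import Cfsg.Agent.Lib.H21.BlockBasics
import Cfsg.Agent.Lib.H08.PiCore
import Cfsg.Agent.Lib.H21.Second4

/-! # Normal `p'`-subgroups in kernels of blocks, along Brauer pairs -/

set_option autoImplicit false
set_option linter.unusedSectionVars false
set_option linter.style.haveILetI false
set_option linter.unusedSimpArgs false

namespace Cfsg.Agent.H22

open Cfsg Cfsg.Agent.H21 Module
open scoped ComplexConjugate

universe u

section Ind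

variable {K : Type*} [Group K] [Finite K]

open Classical in
theorem om_normal_ind (W : Subgroup K) [hW : W.Normal] (u : ℂ) (θ : IrrCharacter K) :
    om θ (fun c => if c ∈ W then u else 0) =
      if (∀ w ∈ W, θ.1 w = θ.1 1) then u * (Nat.card W : ℂ) else 0 := by
  have hne := irr_one_ne_zero' θ
  unfold om
  have h1 : ∑ g, (if g ∈ W then u else 0) * θ.1 g = u * ∑ g, if g ∈ W then θ.1 g else 0 := by
    rw [Finset.mul_sum]
    refine Finset.sum_congr rfl fun g _ => ?_
    split_ifs <;> simp
  rw [h1]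
  split_ifs with h
  · have h2 : ∑ g, (if g ∈ W then θ.1 g else 0) = (Nat.card W : ℂ) * θ.1 1 := by
      have h3 : ∀ g, (if g ∈ W then θ.1 g else 0) = (if g ∈ W then θ.1 1 else 0) := by
        intro g
        split_ifs with hg
        · exact h g hg
        · rfl
      simp only [h3]
      rw [Finset.sum_ite, Finset.sum_const, Finset.sum_const_zero, add_zero, nsmul_eq_mul]
      have h4 : Nat.card W = (Finset.univ.filter (fun n : K => n ∈ W)).card := by
        rw [Nat.card_eq_fintype_card, Fintype.card_subtype]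
      rw [h4]
    rw [h2]
    field_simp
  · push Not at h
    obtain ⟨x, hx, hxne⟩ := h
    have := sum_normal_mul_eq_zero W θ ⟨x, hx, hxne⟩ 1
    simp only [mul_one] at this
    rw [this]
    simp

theorem mlr_inv_natCast {p : ℕ} {M : Ideal AlgInt} (hM : IsPModular p M) {n : ℕ} (hn : ¬ p ∣ n) :
    MemLocalRing M ((n : ℂ)⁻¹) := by
  haveI : M.IsPrime := hM.2.1.isPrime
  have hcardne : ((n : ℕ) : AlgInt) ∉ M := by
    rw [natCast_mem_iff hM]
    exact hn
  refine ⟨1, ((n : ℕ) : AlgInt), hcardne, ?_⟩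
  have : (((n : ℕ) : AlgInt) : ℂ) = (n : ℂ) := map_natCast (algebraMap AlgInt ℂ) _
  rw [this]
  simp

/-- `a / b` is a unit at `M` if `p` divides neither. -/
theorem not_mli_ratio {p : ℕ} {M : Ideal AlgInt} (hM : IsPModular p M) {a b : ℕ} (ha : ¬ p ∣ a)
    (hb : ¬ p ∣ b) : ¬ MemLocalIdeal M ((b : ℂ)⁻¹ * (a : ℂ)) := by
  haveI : M.IsPrime := hM.2.1.isPrime
  intro h
  have hb0 : (b : ℂ) ≠ 0 := by
    intro h0
    have : b = 0 := by exact_mod_cast h0
    exact hb (this ▸ dvd_zero p)
  have h1 : MemLocalIdeal M ((a : ℂ)) := by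
    have h2 := mli_mul_left (r := (b : ℂ)) h (mlr_natCast b)
    have h3 : (b : ℂ) * ((b : ℂ)⁻¹ * (a : ℂ)) = a := by field_simp
    rwa [h3] at h2
  have h2 : ((a : ℕ) : AlgInt) ∈ M := by
    rw [← mli_algInt_iff]
    have : (((a : ℕ) : AlgInt) : ℂ) = (a : ℂ) := map_natCast (algebraMap AlgInt ℂ) _
    rw [this]
    exact h1
  rw [natCast_mem_iff hM] at h2
  exact ha h2

variable {p : ℕ} {M : Ideal AlgInt}

/-- A normal `p'`-subgroup is in the kernel of one member of a block iff it is in all. -/
theorem ker_of_block (hM : IsPModular p M) (W : Subgroup K) [hW : W.Normal] (hp : ¬ p ∣ Nat.card W)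
    {f : Set (IrrCharacter K)} (hf : IsPBlock M f) {θ θ' : IrrCharacter K} (hθ : θ ∈ f) (hθ' : θ' ∈ f)
    (h : ∀ w ∈ W, θ.1 w = θ.1 1) : ∀ w ∈ W, θ'.1 w = θ'.1 1 := by
  classical
  haveI : M.IsPrime := hM.2.1.isPrime
  by_contra hcon
  set u : ℂ := (Nat.card W : ℂ)⁻¹ with hu
  let a : K → ℂ := fun c => if c ∈ W then u else 0
  have hcl : IsClassFunction K a := by
    intro x k
    simp only [a]
    have : k * x * k⁻¹ ∈ W ↔ x ∈ W := by
      constructor
      · intro h
        have := hW.conj_mem _ h k⁻¹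
        simpa [mul_assoc] using this
      · intro h
        exact hW.conj_mem _ h k
    simp only [this]
  have hR : ∀ g, MemLocalRing M (a g) := by
    intro g
    simp only [a]
    split_ifs
    · exact mlr_inv_natCast hM hp
    · exact mlr_zero
  have hZ := om_mem_ZR hcl hR
  have hc := ZR_congr (M := M) hZ (χ := θ) (ψ := θ') (block_sameBlock hf hθ hθ')
  have hne0 : (Nat.card W : ℂ) ≠ 0 := by simp [Nat.card_pos.ne']
  have h0 : om θ a = 1 := by
    show om θ (fun c => if c ∈ W then u else 0) = 1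
    rw [om_normal_ind, if_pos h, hu]
    field_simp
  have h1 : om θ' a = 0 := by
    show om θ' (fun c => if c ∈ W then u else 0) = 0
    rw [om_normal_ind, if_neg hcon]
  simp only [h0, h1, sub_zero] at hc
  exact not_mli_one hc

end Ind

section Main

variable {G : Type u} [Group G] [Finite G] {p : ℕ} [hp : Fact p.Prime] {M : Ideal AlgInt}

open Classical in
/-- The Brauer map applied to the normalized indicator function of a subgroup. -/
theorem bw_ind (P : Subgroup G) (V : Subgroup G)
    (hV : ∀ c ∈ Subgroup.centralizer (P : Set G), ∀ v ∈ V, c * v * c⁻¹ ∈ V) (u : ℂ)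
    (ξ : IrrCharacter (Subgroup.centralizer (P : Set G))) :
    bw P ξ (fun g => if g ∈ V then u else 0) =
      if (∀ c : Subgroup.centralizer (P : Set G), (c : G) ∈ V → ξ.1 c = ξ.1 1) then
        u * (Nat.card (V.comap (Subgroup.centralizer (P : Set G)).subtype) : ℂ) else 0 := by
  haveI : (V.comap (Subgroup.centralizer (P : Set G)).subtype).Normal := by
    constructor
    intro n hn g
    exact hV g.1 g.2 n.1 hn
  have h1 := om_normal_ind (V.comap (Subgroup.centralizer (P : Set G)).subtype) u ξ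
  have h2 : (∀ w ∈ V.comap (Subgroup.centralizer (P : Set G)).subtype, ξ.1 w = ξ.1 1) ↔
      (∀ c : Subgroup.centralizer (P : Set G), (c : G) ∈ V → ξ.1 c = ξ.1 1) := Iff.rfl
  unfold bw brT
  exact h1

theorem card_comap_not_dvd {K V : Subgroup G} (h : ¬ p ∣ Nat.card V) :
    ¬ p ∣ Nat.card (V.comap K.subtype) := fun hd =>
  h (hd.trans (Subgroup.card_comap_dvd_of_injective V K.subtype (Subgroup.subtype_injective K)))


open Classical in
/-- The truncation of the idempotent times a normal indicator. -/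
theorem conv_ind_sbc (K V : Subgroup G) (hVK : V ≤ K) (hVC : ∀ c ∈ K, ∀ v ∈ V, c * v * c⁻¹ ∈ V)
    (f : Set (IrrCharacter K)) :
    conv (fun c => if c ∈ V then (Nat.card V : ℂ)⁻¹ else 0) (subgroupBlockCoeff K f) =
      extK K (ofOm ((fun θ : IrrCharacter K => if (∀ c : K, (c : G) ∈ V → θ.1 c = θ.1 1) then (1 : ℂ) else 0)
        * eB f)) := by
  set u : ℂ := (Nat.card V : ℂ)⁻¹ with hu
  have hne0 : (Nat.card V : ℂ) ≠ 0 := by simp [Nat.card_pos.ne']
  let W : Subgroup K := V.subgroupOf K
  haveI hWn : W.Normal := by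
    constructor
    intro n hn c
    exact hVC c.1 c.2 n.1 hn
  have hcardW : Nat.card W = Nat.card V := Nat.card_congr (Subgroup.subgroupOfEquivOfLe hVK).toEquiv
  let a' : K → ℂ := fun c => if c ∈ W then u else 0
  have ha'ext : (fun c => if c ∈ V then u else 0) = extK K a' := by
    funext x
    by_cases hx : x ∈ K
    · rw [extK_of_mem K _ hx]
      rfl
    · rw [extK_of_not_mem K _ hx]
      have : x ∉ V := fun h => hx (hVK h)
      simp only [if_neg this]
  have hcl' : IsClassFunction K a' := by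
    intro x k
    simp only [a']
    have : k * x * k⁻¹ ∈ W ↔ x ∈ W := by
      constructor
      · intro h
        have := hWn.conj_mem _ h k⁻¹
        simpa [mul_assoc] using this
      · intro h
        exact hWn.conj_mem _ h k
    simp only [this]
  have hom' : (fun θ : IrrCharacter K => om θ a') =
      fun θ => if (∀ c : K, (c : G) ∈ V → θ.1 c = θ.1 1) then 1 else 0 := by
    funext θ
    show om θ (fun c => if c ∈ W then u else 0) = _
    rw [om_normal_ind]
    have hiff : (∀ w ∈ W, θ.1 w = θ.1 1) ↔ (∀ c : K, (c : G) ∈ V → θ.1 c = θ.1 1) := Iff.rfl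
    by_cases hc : ∀ c : K, (c : G) ∈ V → θ.1 c = θ.1 1
    · rw [if_pos (hiff.2 hc), if_pos hc, hcardW, hu]
      field_simp
    · rw [if_neg (fun h => hc (hiff.1 h)), if_neg hc]
  have hbext : subgroupBlockCoeff K f = extK K (ofOm (eB f)) := by
    rw [← blockCoeff_fun_eq]
    rfl
  have ha'of : a' = ofOm (fun θ => om θ a') := (ofOm_om a' hcl').symm
  rw [ha'ext, hbext, conv_extK, ← hom', ofOm_mul, ← ha'of]

variable (hM : IsPModular p M)
include hM

/-- **Kernels and Brauer pairs.** -/
theorem ker_iff_of_brSet {P : Subgroup G} (hP : IsPGroup p P) {B : Set (IrrCharacter G)}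
    (hB : IsPBlock M B) {ξ : IrrCharacter (Subgroup.centralizer (P : Set G))}
    (hξ : ξ ∈ brSet M P (blockCoeff B)) {χ : IrrCharacter G} (hχ : χ ∈ B)
    (N : Subgroup G) [hN : N.Normal] (hp' : ¬ p ∣ Nat.card N) :
    (∀ n ∈ N, χ.1 n = χ.1 1) ↔
      ∀ c : Subgroup.centralizer (P : Set G), (c : G) ∈ N → ξ.1 c = ξ.1 1 := by
  classical
  haveI : M.IsPrime := hM.2.1.isPrime
  set u : ℂ := (Nat.card N : ℂ)⁻¹ with hu
  let a : G → ℂ := fun c => if c ∈ N then u else 0
  have hcl : IsClassFunction G a := by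
    intro x k
    simp only [a]
    have : k * x * k⁻¹ ∈ N ↔ x ∈ N := by
      constructor
      · intro h
        have := hN.conj_mem _ h k⁻¹
        simpa [mul_assoc] using this
      · intro h
        exact hN.conj_mem _ h k
    simp only [this]
  have hR : ∀ g, MemLocalRing M (a g) := by
    intro g
    simp only [a]
    split_ifs
    · exact mlr_inv_natCast hM hp'
    · exact mlr_zero
  have hc := bw_class_congr hM hP hB hξ hχ hcl hR
  have hne0 : (Nat.card N : ℂ) ≠ 0 := by simp [Nat.card_pos.ne']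
  have h0 : om χ a = if (∀ w ∈ N, χ.1 w = χ.1 1) then 1 else 0 := by
    show om χ (fun c => if c ∈ N then u else 0) = _
    rw [om_normal_ind]
    split_ifs
    · rw [hu]; field_simp
    · rfl
  have h1 : bw P ξ a = _ := bw_ind P N (fun c _ v hv => hN.conj_mem v hv c) u ξ
  rw [h0, h1] at hc
  have hW := card_comap_not_dvd (K := Subgroup.centralizer (P : Set G)) hp'
  constructor
  · intro h
    rw [if_pos h] at hc
    by_contra hcon
    rw [if_neg hcon, zero_sub] at hc
    exact not_mli_one (by simpa using mli_neg hc)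
  · intro h
    by_contra hcon
    rw [if_pos h, if_neg hcon, sub_zero] at hc
    exact not_mli_ratio hM hW hp' hc

/-- **Kernels and normal subpairs.** -/
theorem ker_iff_of_normalSubpair {Q R : Subgroup G}
    {f : Set (IrrCharacter (Subgroup.centralizer (Q : Set G)))}
    {g : Set (IrrCharacter (Subgroup.centralizer (R : Set G)))}
    (h : IsNormalSubpair p M Q f R g) (V : Subgroup G) (hVQ : V ≤ Subgroup.centralizer (Q : Set G))
    (hVC : ∀ c ∈ Subgroup.centralizer (Q : Set G), ∀ v ∈ V, c * v * c⁻¹ ∈ V)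
    (hVR : ∀ r ∈ R, ∀ v ∈ V, r * v * r⁻¹ ∈ V) (hp' : ¬ p ∣ Nat.card V)
    {ξ : IrrCharacter (Subgroup.centralizer (R : Set G))} (hξ : ξ ∈ g) :
    (∀ θ ∈ f, ∀ c : Subgroup.centralizer (Q : Set G), (c : G) ∈ V → θ.1 c = θ.1 1) ↔
      ∀ c : Subgroup.centralizer (R : Set G), (c : G) ∈ V → ξ.1 c = ξ.1 1 := by
  classical
  haveI : M.IsPrime := hM.2.1.isPrime
  obtain ⟨hb₁, hb₂, hle, hN, hst, hsub⟩ := isNormalSubpair_iff.mp h
  have hCRQ : Subgroup.centralizer (R : Set G) ≤ Subgroup.centralizer (Q : Set G) :=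
    centralizer_le_of_le hle
  set u : ℂ := (Nat.card V : ℂ)⁻¹ with hu
  have hne0 : (Nat.card V : ℂ) ≠ 0 := by simp [Nat.card_pos.ne']
  -- the functions
  let a : G → ℂ := fun c => if c ∈ V then u else 0
  let b : G → ℂ := subgroupBlockCoeff (Subgroup.centralizer (Q : Set G)) f
  have haR : ∀ g, MemLocalRing M (a g) := by
    intro g
    simp only [a]
    split_ifs
    · exact mlr_inv_natCast hM hp'
    · exact mlr_zero
  have hbR : ∀ g, MemLocalRing M (b g) := sbc_mlr _ (blockSat_of_isBlock hb₁.2)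
  have conj_iff : ∀ k : G, (∀ v ∈ V, k * v * k⁻¹ ∈ V) → (∀ v ∈ V, k⁻¹ * v * k⁻¹⁻¹ ∈ V) →
      ∀ x, a (k * x * k⁻¹) = a x := by
    intro k h1 h2 x
    simp only [a]
    have : k * x * k⁻¹ ∈ V ↔ x ∈ V := by
      constructor
      · intro h3
        have := h2 _ h3
        simpa [mul_assoc] using this
      · intro h3
        exact h1 x h3
    simp only [this]
  have haP : Ad R a := fun q hq x =>
    conj_iff q (hVR q hq) (hVR q⁻¹ (R.inv_mem hq)) x
  have haC : Ad (Subgroup.centralizer (R : Set G)) a := fun q hq x =>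
    conj_iff q (hVC q (hCRQ hq)) (hVC q⁻¹ (Subgroup.inv_mem _ (hCRQ hq))) x
  have hbP : Ad R b := sbc_Ad_of_stable hst
  have hbC : Ad (Subgroup.centralizer (R : Set G)) b := sbc_Ad_of_le hCRQ f
  have hm := bw_conv hM hb₂.1 ξ haR hbR haP hbP haC hbC
  have h1 : MemLocalIdeal M (bw R ξ b - 1) := hsub hξ
  have hbwa : bw R ξ a = _ := bw_ind R V (fun c hc v hv => hVC c (hCRQ hc) v hv) u ξ
  have hW := card_comap_not_dvd (K := Subgroup.centralizer (R : Set G)) hp'
  have hconv := conv_ind_sbc (Subgroup.centralizer (Q : Set G)) V hVQ hVC f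
  have hp'W : ¬ p ∣ Nat.card (V.subgroupOf (Subgroup.centralizer (Q : Set G))) := by
    rwa [Nat.card_congr (Subgroup.subgroupOfEquivOfLe hVQ).toEquiv]
  haveI hWn : (V.subgroupOf (Subgroup.centralizer (Q : Set G))).Normal := by
    constructor
    intro n hn c
    exact hVC c.1 c.2 n.1 hn
  have hbext : b = extK (Subgroup.centralizer (Q : Set G)) (ofOm (eB f)) := by
    simp only [b]
    rw [← blockCoeff_fun_eq]
    rfl
  constructor
  · intro hker
    have hval : (fun θ : IrrCharacter (Subgroup.centralizer (Q : Set G)) =>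
        if (∀ c : Subgroup.centralizer (Q : Set G), (c : G) ∈ V → θ.1 c = θ.1 1) then (1 : ℂ) else 0)
        * eB f = eB f := by
      funext θ
      simp only [Pi.mul_apply]
      by_cases hθ : θ ∈ f
      · rw [if_pos (hker θ hθ), one_mul]
      · rw [eB_apply_not_mem hθ, mul_zero]
    have hcb : conv a b = b := by
      show conv (fun c => if c ∈ V then (Nat.card V : ℂ)⁻¹ else 0) _ = _
      rw [hconv, hval, hbext]
    rw [hcb] at hm
    by_contra hcon
    rw [hbwa, if_neg hcon, zero_mul, sub_zero] at hm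
    have h2 := mli_sub hm h1
    have h3 : bw R ξ b - (bw R ξ b - 1) = 1 := by ring
    rw [h3] at h2
    exact not_mli_one h2
  · intro hker θ hθ
    by_contra hcon
    have hval : (fun θ : IrrCharacter (Subgroup.centralizer (Q : Set G)) =>
        if (∀ c : Subgroup.centralizer (Q : Set G), (c : G) ∈ V → θ.1 c = θ.1 1) then (1 : ℂ) else 0)
        * eB f = 0 := by
      funext θ'
      simp only [Pi.mul_apply, Pi.zero_apply]
      by_cases hθ' : θ' ∈ f
      · have hnot : ¬ ∀ c : Subgroup.centralizer (Q : Set G), (c : G) ∈ V → θ'.1 c = θ'.1 1 := by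
          intro h5
          apply hcon
          exact ker_of_block hM (V.subgroupOf (Subgroup.centralizer (Q : Set G))) hp'W hb₁.2 hθ' hθ h5
        rw [if_neg hnot, zero_mul]
      · rw [eB_apply_not_mem hθ', mul_zero]
    have hcb : conv a b = 0 := by
      show conv (fun c => if c ∈ V then (Nat.card V : ℂ)⁻¹ else 0) _ = _
      rw [hconv, hval]
      funext x
      by_cases hx : x ∈ Subgroup.centralizer (Q : Set G)
      · rw [extK_of_mem _ _ hx]
        simp [ofOm]
      · rw [extK_of_not_mem _ _ hx]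
        rfl
    rw [hcb] at hm
    have hb0 : bw R ξ (0 : G → ℂ) = 0 := by
      simp [bw, om, brT]
    rw [hb0, hbwa, if_pos hker, zero_sub] at hm
    have hm' := mli_neg hm
    rw [neg_neg] at hm'
    -- `|W'|/|V| * bw b ≡ |W'|/|V|`
    have h2 := mli_mul_left (r := u * (Nat.card (V.comap (Subgroup.centralizer (R : Set G)).subtype) : ℂ))
      h1 (mlr_mul (mlr_inv_natCast hM hp') (mlr_natCast _))
    have h3 := mli_sub hm' h2
    have h4 : u * (Nat.card (V.comap (Subgroup.centralizer (R : Set G)).subtype) : ℂ) * bw R ξ b -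
        u * (Nat.card (V.comap (Subgroup.centralizer (R : Set G)).subtype) : ℂ) * (bw R ξ b - 1) =
        u * (Nat.card (V.comap (Subgroup.centralizer (R : Set G)).subtype) : ℂ) := by ring
    rw [h4] at h3
    exact not_mli_ratio hM hW hp' h3

end Main

end Cfsg.Agent.H22
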