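import Cfsg.Agent.Lib.H22.PiKer

/-! # Brauer's theorem on `π'`-cores and blocks -/

set_option autoImplicit false
set_option linter.unusedSectionVars false
set_option linter.style.haveILetI false
set_option linter.unusedSimpArgs false

namespace Cfsg.Agent.H22

open Cfsg Cfsg.Agent.H21 Cfsg.Agent.H08 Module
open scoped ComplexConjugate

universe u

section Core

theorem mem_piCore_of_equiv {K L : Type*} [Group K] [Group L] [Finite K] [Finite L] (π : Set ℕ) (φ : K ≃* L) {c : K}
    (h : φ c ∈ piCore π L) : c ∈ piCore π K := by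
  have hle : (piCore π L).comap φ.toMonoidHom ≤ piCore π K := by
    apply le_piCore
    · exact Subgroup.Normal.comap (piCore_normal π L) _
    · intro q hq hd
      exact piCore_isPi π q hq (hd.trans
        (Subgroup.card_comap_dvd_of_injective _ φ.toMonoidHom φ.injective))
  exact hle h

variable {G : Type u} [Group G] [Finite G]

theorem mem_piCore_of_image (π : Set ℕ) {K : Subgroup G} (V : Subgroup G)
    (hn : ∀ c ∈ K, ∀ v ∈ V, c * v * c⁻¹ ∈ V) (hV : ∀ q : ℕ, q.Prime → q ∣ Nat.card V → q ∈ π)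
    {c : K} (hc : (c : G) ∈ V) : c ∈ piCore π K := by
  have hle : V.comap K.subtype ≤ piCore π K := by
    apply le_piCore
    · constructor
      intro n hn' g
      exact hn g.1 g.2 n.1 hn'
    · intro q hq hd
      exact hV q hq (hd.trans (Subgroup.card_comap_dvd_of_injective V K.subtype (Subgroup.subtype_injective K)))
  exact hle hc

theorem primes_image_piCore (π : Set ℕ) (K : Subgroup G) :
    ∀ q : ℕ, q.Prime → q ∣ Nat.card ((piCore π K).map K.subtype) → q ∈ π := by
  intro q hq hd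
  rw [Subgroup.card_map_of_injective (Subgroup.subtype_injective K)] at hd
  exact piCore_isPi π q hq hd

theorem not_dvd_card_piCore {K : Type*} [Group K] [Finite K] {π : Set ℕ} {p : ℕ} (hp : p.Prime) (hpπ : p ∈ π) :
    ¬ p ∣ Nat.card (piCore {q | q ∉ π} K) := fun hd =>
  (piCore_isPi {q | q ∉ π} p hp hd) hpπ

end Core

section Main

variable {G : Type u} [Group G] [Finite G] {p : ℕ} [hp : Fact p.Prime] {M : Ideal AlgInt}

/-- The kernel property of a Brauer pair. -/
def PKer (π : Set ℕ) (a : BrauerPairIdx G) : Prop :=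
  ∀ ξ ∈ a.2, ∀ c ∈ piCore {q | q ∉ π} (Subgroup.centralizer (a.1 : Set G)), ξ.1 c = ξ.1 1

theorem conj_mem_image_piCore (π : Set ℕ) {K : Subgroup G} {r : G}
    (hr : r ∈ Subgroup.normalizer (K : Set G)) {v : G} (hv : v ∈ (piCore π K).map K.subtype) :
    r * v * r⁻¹ ∈ (piCore π K).map K.subtype := by
  obtain ⟨w, hw, rfl⟩ := hv
  have h1 : (phiK K hr) w ∈ piCore π K := by
    apply mem_piCore_of_equiv π (phiK K hr).symm
    rw [MulEquiv.symm_apply_apply]
    exact hw
  exact ⟨_, h1, rfl⟩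

variable (hM : IsPModular p M)
include hM

theorem pKer_step {π : Set ℕ} (hpπ : p ∈ π) {a b : BrauerPairIdx G} (h : NormalSubpairRel p M a b)
    (hb : PKer π b) : PKer π a := by
  haveI : M.IsPrime := hM.2.1.isPrime
  obtain ⟨Q, f⟩ := a
  obtain ⟨R, g⟩ := b
  have h' : IsNormalSubpair p M Q f R g := h
  obtain ⟨hb₁, hb₂, hle, hN, hst, hsub⟩ := isNormalSubpair_iff.mp h'
  set π' : Set ℕ := {q | q ∉ π} with hπ'
  set V : Subgroup G := (piCore π' (Subgroup.centralizer (Q : Set G))).map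
    (Subgroup.centralizer (Q : Set G)).subtype with hV
  have hVQ : V ≤ Subgroup.centralizer (Q : Set G) := Subgroup.map_subtype_le _
  have hCRQ : Subgroup.centralizer (R : Set G) ≤ Subgroup.centralizer (Q : Set G) :=
    centralizer_le_of_le hle
  have hVC : ∀ c ∈ Subgroup.centralizer (Q : Set G), ∀ v ∈ V, c * v * c⁻¹ ∈ V := fun c hc v hv =>
    conj_mem_image_piCore π' (Subgroup.le_normalizer hc) hv
  have hVR : ∀ r ∈ R, ∀ v ∈ V, r * v * r⁻¹ ∈ V := fun r hr v hv =>
    conj_mem_image_piCore π' (normalizer_le_normalizer_centralizer Q (hN hr)) hv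
  have hp' : ¬ p ∣ Nat.card V := by
    rw [hV, Subgroup.card_map_of_injective (Subgroup.subtype_injective _)]
    exact not_dvd_card_piCore hp.out hpπ
  obtain ⟨ξ, hξ⟩ := block_nonempty hb₂.2
  have h1 := (ker_iff_of_normalSubpair hM h' V hVQ hVC hVR hp' hξ).2 (fun c hc =>
    hb ξ hξ c (mem_piCore_of_image π' V (fun c' hc' v hv => hVC c' (hCRQ hc') v hv)
      (primes_image_piCore π' _) hc))
  intro θ hθ c hc
  exact h1 θ hθ c ⟨c, hc, rfl⟩

theorem pKer_chain {π : Set ℕ} (hpπ : p ∈ π) {a b : BrauerPairIdx G}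
    (h : Relation.ReflTransGen (NormalSubpairRel p M) a b) (hb : PKer π b) : PKer π a := by
  induction h using Relation.ReflTransGen.head_induction_on with
  | refl => exact hb
  | head h1 _ ih => exact pKer_step hM hpπ h1 ih

omit hM in
theorem pKer_conj {π : Set ℕ} (x : G) {a : BrauerPairIdx G} (h : PKer π a) : PKer π (cp x a) := by
  obtain ⟨Q, f⟩ := a
  show ∀ ξ' ∈ conjBlock Q x f, ∀ c' ∈ piCore {q | q ∉ π}
    (Subgroup.centralizer ((cq x Q : Subgroup G) : Set G)), ξ'.1 c' = ξ'.1 1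
  intro ξ' hξ' c' hc'
  rw [conjBlock_eq] at hξ'
  obtain ⟨ξ, hξ, rfl⟩ := hξ'
  have hc : (phiC x Q).symm c' ∈ piCore {q | q ∉ π} (Subgroup.centralizer (Q : Set G)) := by
    apply mem_piCore_of_equiv _ (phiC x Q)
    rw [MulEquiv.apply_symm_apply]
    exact hc'
  have h1 := h ξ hξ _ hc
  rw [irrMap_apply, irrMap_apply, h1, map_one]

omit hM in
theorem pKer_conj_iff {π : Set ℕ} (x : G) {a : BrauerPairIdx G} : PKer π (cp x a) ↔ PKer π a := by
  refine ⟨fun h => ?_, pKer_conj x⟩
  have := pKer_conj x⁻¹ h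
  rwa [cp_inv_cp] at this

/-- A pair of a block of `H` on a subgroup with centralizer in `H` is a pair of the induced block. -/
theorem pair_of_induced {H : Subgroup G} {D₀ : Subgroup H} {R : Subgroup G} (hz : ZComp H D₀ R)
    (hD₀ : IsPGroup p D₀) (hR : IsPGroup p R) {b : Set (IrrCharacter H)} {B : Set (IrrCharacter G)}
    (hind : IsInducedBlock M H b B) {e₀ : Set (IrrCharacter (Subgroup.centralizer (D₀ : Set H)))}
    (he₀ : IsBrauerPairOf p M b D₀ e₀) : IsBrauerPairOf p M B R (irrMap (zIso hz) '' e₀) := by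
  classical
  haveI : M.IsPrime := hM.2.1.isPrime
  obtain ⟨h1, hb, h3⟩ := isBrauerPairOf_iff.mp he₀
  rw [isBrauerPairOf_iff]
  refine ⟨⟨hR, isPBlock_image _ h1.2⟩, hind.2.1, ?_⟩
  rintro _ ⟨ξ₀, hξ₀, rfl⟩
  obtain ⟨⟨B', hBF⟩, hB1, -⟩ := existsUnique_block_of_char hM hR (irrMap (zIso hz) ξ₀)
  have hB' : IsPBlock M B' := mem_blocksF.mp hBF
  have hξ₁ : irrMap (zIso hz) ξ₀ ∈ brSet M R (blockCoeff B') := hB1
  suffices hEq : B' = B by rwa [hEq] at hξ₁
  obtain ⟨χ', hχ'⟩ := block_nonempty hB'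
  obtain ⟨χ, hχ⟩ := block_nonempty hind.2.1
  obtain ⟨ψ, hψ⟩ := block_nonempty hb
  have hsame : χ ∈ B' := by
    rw [block_eq_of_mem hB' hχ']
    intro g
    have h4 := bw_class_congr hM hR hB' hξ₁ hχ' (classIndicator_isClass g) (classIndicator_mlr g)
    rw [om_classIndicator] at h4
    have h5 := bw_class_congr hM hD₀ hb (h3 hξ₀) hψ
      (a := fun h : H => classIndicator g (h : G))
      (fun x k => classIndicator_isClass g (x : G) (k : G))
      (fun x => classIndicator_mlr g (x : G))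
    rw [show om ψ (fun h : H => classIndicator g h) = inducedCentralChar H ψ.1 g from
      om_indicator_eq ψ g] at h5
    have h6 := bw_zIso hz ξ₀ (a := classIndicator g) (ã := fun h : H => classIndicator g (h : G))
      (fun c => rfl)
    rw [h6] at h4
    have h7 := hind.2.2 ψ hψ χ hχ g
    have h8 := mli_sub h4 (mli_add h5 h7)
    have h9 : bw D₀ ξ₀ (fun h : H => classIndicator g (h : G)) - cc g χ' -
        (bw D₀ ξ₀ (fun h : H => classIndicator g (h : G)) - inducedCentralChar H ψ.1 g +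
          (inducedCentralChar H ψ.1 g - centralChar χ.1 g)) = centralChar χ.1 g - centralChar χ'.1 g := by
      unfold cc
      ring
    rw [h9] at h8
    have h10 := mli_neg h8
    rwa [neg_sub] at h10
  exact block_eq_of_inter hB' hind.2.1 hsame hχ

/-- The top of the chain. -/
theorem top_pKer {π : Set ℕ} (hpπ : p ∈ π) {B : Set (IrrCharacter G)} {D : Subgroup G}
    (hBD : IsDefectGroup p M B D) {B₁ : Set (IrrCharacter (Subgroup.normalizer (D : Set G)))}
    (hB₁ : IsInducedBlock M (Subgroup.normalizer (D : Set G)) B₁ B)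
    (hB₁D : IsDefectGroup p M B₁ (D.subgroupOf (Subgroup.normalizer (D : Set G))))
    (hker : ∀ n : Subgroup.normalizer (D : Set G),
      n ∈ piCore {q | q ∉ π} (Subgroup.normalizer (D : Set G)) → n ∈ blockKer B₁) :
    ∃ e, IsMaximalBrauerPair p M B D e ∧ PKer π ⟨D, e⟩ := by
  classical
  haveI : M.IsPrime := hM.2.1.isPrime
  set N := Subgroup.normalizer (D : Set G) with hN
  set π' : Set ℕ := {q | q ∉ π} with hπ'
  obtain ⟨e₁, hmax₁⟩ := exists_maximal_on_defect hM hB₁D hB₁.1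
  have hDN : D ≤ N := Subgroup.le_normalizer
  have hz : ZComp N (D.subgroupOf N) D := by
    have h1 := zComp_map' (H := N) (D := D.subgroupOf N) (Q := D)
      (Subgroup.centralizer_le_normalizer _)
      (le_of_eq (map_subgroupOf_subtype hDN).symm)
    rwa [map_subgroupOf_subtype hDN] at h1
  have hDp : IsPGroup p D := defect_isPGroup hBD
  have hD₁p : IsPGroup p (D.subgroupOf N) := hDp.comap_of_injective _ (Subgroup.subtype_injective N)
  have hpair := pair_of_induced hM hz hD₁p hDp hB₁ hmax₁.1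
  refine ⟨_, maximal_of_defect hM hpair hBD, ?_⟩
  rintro _ ⟨ξ₁, hξ₁, rfl⟩ c hc
  obtain ⟨χ₁, hχ₁⟩ := block_nonempty hB₁.1
  have hp' : ¬ p ∣ Nat.card (piCore π' N) := not_dvd_card_piCore hp.out hpπ
  have hbr := (isBrauerPairOf_iff.mp hmax₁.1).2.2 hξ₁
  have h1 := (ker_iff_of_brSet hM hD₁p hB₁.1 hbr hχ₁ (piCore π' N) hp').1
    (fun n hn => hker n hn χ₁ hχ₁)
  rw [irrMap_apply, irrMap_apply, map_one]
  apply h1
  -- the element lies in the core
  set V : Subgroup G := (piCore π' (Subgroup.centralizer (D : Set G))).map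
    (Subgroup.centralizer (D : Set G)).subtype with hV
  apply mem_piCore_of_image π' V
  · intro n hn v hv
    exact conj_mem_image_piCore π' (normalizer_le_normalizer_centralizer D hn) hv
  · exact primes_image_piCore π' _
  · exact ⟨c, hc, rfl⟩

/-- The bottom of the chain. -/
theorem bottom_pKer {π : Set ℕ} (hpπ : p ∈ π) {H : Subgroup G} {D₀ : Subgroup H} {R : Subgroup G}
    (hz : ZComp H D₀ R) (hD₀ : IsPGroup p D₀) {b : Set (IrrCharacter H)}
    {e₀ : Set (IrrCharacter (Subgroup.centralizer (D₀ : Set H)))} (he₀ : IsBrauerPairOf p M b D₀ e₀)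
    (hk : PKer π ⟨R, irrMap (zIso hz) '' e₀⟩) :
    ∀ x : H, x ∈ piCore {q | q ∉ π} H → x ∈ blockKer b := by
  classical
  haveI : M.IsPrime := hM.2.1.isPrime
  obtain ⟨h1, hb, h3⟩ := isBrauerPairOf_iff.mp he₀
  set π' : Set ℕ := {q | q ∉ π} with hπ'
  intro x hx χ hχ
  obtain ⟨ξ₀, hξ₀⟩ := block_nonempty h1.2
  have hp' : ¬ p ∣ Nat.card (piCore π' H) := not_dvd_card_piCore hp.out hpπ
  refine (ker_iff_of_brSet hM hD₀ hb (h3 hξ₀) hχ (piCore π' H) hp').2 (fun c hc => ?_) x hx
  have h2 := hk (irrMap (zIso hz) ξ₀) ⟨ξ₀, hξ₀, rfl⟩ (zIso hz c) (by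
    set V : Subgroup G := (piCore π' H).map H.subtype with hV
    apply mem_piCore_of_image π' V
    · intro n hn v hv
      have hnH : n ∈ H := ((hz n).mp hn).1
      exact conj_mem_image_piCore π' (Subgroup.le_normalizer hnH) hv
    · exact primes_image_piCore π' _
    · exact ⟨_, hc, rfl⟩)
  rw [irrMap_apply', irrMap_apply, map_one] at h2
  exact h2

/-- **Brauer's theorem on `π'`-cores**, the core statement. -/
theorem ker_of_top {π : Set ℕ} (hpπ : p ∈ π) {B : Set (IrrCharacter G)} {D : Subgroup G}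
    (hBD : IsDefectGroup p M B D) {B₁ : Set (IrrCharacter (Subgroup.normalizer (D : Set G)))}
    (hB₁ : IsInducedBlock M (Subgroup.normalizer (D : Set G)) B₁ B)
    (hB₁D : IsDefectGroup p M B₁ (D.subgroupOf (Subgroup.normalizer (D : Set G))))
    (hker : ∀ n : Subgroup.normalizer (D : Set G),
      n ∈ piCore {q | q ∉ π} (Subgroup.normalizer (D : Set G)) → n ∈ blockKer B₁)
    (G₀ : Subgroup G) (B₀ : Set (IrrCharacter G₀)) (hB₀ : IsInducedBlock M G₀ B₀ B)
    (D₀ : Subgroup G₀) (hD₀ : IsDefectGroup p M B₀ D₀)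
    (hC : Subgroup.centralizer ((D₀.map G₀.subtype : Subgroup G) : Set G) ≤ G₀) :
    ∀ x : G₀, x ∈ piCore {q | q ∉ π} G₀ → x ∈ blockKer B₀ := by
  classical
  haveI : M.IsPrime := hM.2.1.isPrime
  obtain ⟨e, hmax, hk⟩ := top_pKer hM hpπ hBD hB₁ hB₁D hker
  obtain ⟨e₀, hmax₀⟩ := exists_maximal_on_defect hM hD₀ hB₀.1
  have hD₀p : IsPGroup p D₀ := defect_isPGroup hD₀
  have hRp : IsPGroup p (D₀.map G₀.subtype) := hD₀p.map _
  have hz : ZComp G₀ D₀ (D₀.map G₀.subtype) := zComp_map' hC le_rfl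
  have hpair := pair_of_induced hM hz hD₀p hRp hB₀ hmax₀.1
  obtain ⟨x, hx⟩ := exists_conj_subpairLE hM hmax hpair
  have h1 : PKer π (cp x ⟨D₀.map G₀.subtype, irrMap (zIso hz) '' e₀⟩) := pKer_chain hM hpπ hx hk
  rw [pKer_conj_iff] at h1
  exact bottom_pKer hM hpπ hz hD₀p hmax₀.1 h1

end Main

end Cfsg.Agent.H22
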