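import Cfsg.Agent.Lib.H22.PiKer2
import Cfsg.Agent.Lib.H22.TCase

/-! # Brauer's theorem on `π'`-sections -/

set_option autoImplicit false
set_option linter.unusedSectionVars false
set_option linter.style.haveILetI false
set_option linter.unusedSimpArgs false

namespace Cfsg.Agent.H22

open Cfsg Cfsg.Agent.H21 Cfsg.Agent.H08 Module
open scoped ComplexConjugate

universe u

section Main

variable {G : Type u} [Group G] [Finite G] {p : ℕ} [hp : Fact p.Prime] {M : Ideal AlgInt}

variable (hM : IsPModular p M)
include hM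

/-- **Brauer's theorem on sections**. -/
theorem hall_section {π : Set ℕ} (hpπ : p ∈ π) {B : Set (IrrCharacter G)} (hB : IsPBlock M B)
    {D : Subgroup G}
    (hBD : IsDefectGroup p M B D) {B₁ : Set (IrrCharacter (Subgroup.normalizer (D : Set G)))}
    (hB₁ : IsInducedBlock M (Subgroup.normalizer (D : Set G)) B₁ B)
    (hB₁D : IsDefectGroup p M B₁ (D.subgroupOf (Subgroup.normalizer (D : Set G))))
    (hker : ∀ n : Subgroup.normalizer (D : Set G),
      n ∈ piCore {q | q ∉ π} (Subgroup.normalizer (D : Set G)) → n ∈ blockKer B₁)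
    (y : G) (hy : ∃ k : ℕ, orderOf y = p ^ k)
    (hC : ∀ x : Subgroup.centralizer ({y} : Set G), (∀ q : ℕ, q.Prime → q ∣ orderOf x → q ∉ π) →
      x ∈ piCore {q | q ∉ π} (Subgroup.centralizer ({y} : Set G))) :
    ∀ χ ∈ B, ∀ x : G, x ∈ Subgroup.centralizer ({y} : Set G) →
      (∀ q : ℕ, q.Prime → q ∣ orderOf x → q ∉ π) → χ.1 (y * x) = χ.1 y := by
  classical
  haveI : M.IsPrime := hM.2.1.isPrime
  intro χ hχ x hx hxπ
  obtain ⟨k, hk⟩ := hy
  set K := Subgroup.centralizer ({y} : Set G) with hK
  let x' : K := ⟨x, hx⟩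
  let ϑ : K → ℂ := fun c => χ.1 (y * (c : G))
  have hϑ : IsClassFunction K ϑ := section_isClass χ y
  have hord : orderOf x' = orderOf x := Subgroup.orderOf_mk _ _
  have hreg : ¬ p ∣ orderOf x' := by
    rw [hord]
    intro hd
    exact hxπ p hp.out hd hpπ
  have hyK : y ∈ K := Subgroup.mem_centralizer_singleton_iff.2 rfl
  have key : ∀ b ∈ blocksF M K, blockPart b ϑ x' = blockPart b ϑ 1 := by
    intro b hb
    have hb' : IsPBlock M b := mem_blocksF.mp hb
    by_cases hind : IsInducedBlock M K b B
    · obtain ⟨D₀, hD₀⟩ := isDefectGroup_exists (p := p) hb'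
      -- `y` lies in the defect group
      let U : Subgroup K := Subgroup.zpowers (⟨y, hyK⟩ : K)
      have hUcent : ∀ u ∈ U, ∀ c : K, u * c = c * u := by
        intro u hu c
        obtain ⟨m, rfl⟩ := Subgroup.mem_zpowers_iff.1 hu
        have h1 : Commute (⟨y, hyK⟩ : K) c := by
          apply Subtype.ext
          exact (Subgroup.mem_centralizer_singleton_iff.1 c.2).symm
        exact (h1.zpow_left m)
      haveI hUn : U.Normal := by
        constructor
        intro n hn g
        rw [← hUcent n hn g, mul_assoc, mul_inv_cancel, mul_one]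
        exact hn
      have hUp : IsPGroup p U := by
        apply isPGroup_zpowers_of_orderOf (k := k)
        rw [Subgroup.orderOf_mk]
        exact hk
      have hyD : (⟨y, hyK⟩ : K) ∈ D₀ :=
        normal_le_defect hM hUp hb' hD₀ (Subgroup.mem_zpowers _)
      have hcent : Subgroup.centralizer ((D₀.map K.subtype : Subgroup G) : Set G) ≤ K := by
        intro c hc
        rw [Subgroup.mem_centralizer_iff] at hc
        have := hc y ⟨⟨y, hyK⟩, hyD, rfl⟩
        exact Subgroup.mem_centralizer_singleton_iff.2 this.symm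
      have hkerb := ker_of_top hM hpπ hBD hB₁ hB₁D hker K b hind D₀ hD₀ hcent x'
        (hC x' (by
          intro q hq hd
          rw [hord] at hd
          exact hxπ q hq hd))
      unfold blockPart
      refine finsum_mem_congr rfl fun ψ hψ => ?_
      rw [hkerb ψ hψ]
    · rw [second_main hM hk hB hχ hb' hind x' hreg,
        second_main hM hk hB hχ hb' hind 1 (by simp [hp.out.one_lt.ne', Nat.Prime.ne_one hp.out])]
  have h1 := sum_blockPart (M := M) ϑ hϑ x'
  have h2 := sum_blockPart (M := M) ϑ hϑ 1
  rw [Finset.sum_congr rfl key, h2] at h1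
  have h3 : ϑ 1 = χ.1 y := by simp [ϑ]
  rw [h3] at h1
  exact h1.symm

end Main

end Cfsg.Agent.H22
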