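import Cfsg.Agent.Lib.H22.PiKer3

/-! # Blocks with centralizers of defect groups inside; the upward `π'`-theorem -/

set_option autoImplicit false
set_option linter.unusedSectionVars false
set_option linter.style.haveILetI false
set_option linter.unusedSimpArgs false

namespace Cfsg.Agent.H22

open Cfsg Cfsg.Agent.H21 Cfsg.Agent.H08 Module
open scoped ComplexConjugate

universe u

section Aux

theorem char_mul_of_ker {G : Type*} [Group G] [Finite G] {χ : G → ℂ} (hχ : IsCharacter G χ) {n : G}
    (h : χ n = χ 1) (g : G) : χ (n * g) = χ g := by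
  obtain ⟨m, ρ, rfl⟩ := hχ
  have h1 : ρ n = 1 := by
    rw [← character_eq_finrank_iff]
    simpa using h
  simp [Representation.character, map_mul, h1]

/-- A constituent of the restriction of a character with `N` in the kernel has `N` in the kernel. -/
theorem ker_of_constituent {G : Type*} [Group G] [Finite G] (L : Subgroup G) {ξ : G → ℂ}
    (hξ : IsCharacter G ξ) (θ : IrrCharacter L)
    (hne : ∑ n : L, conj (θ.1 n) * ξ n ≠ 0) (N : Subgroup L) [hN : N.Normal]
    (hker : ∀ n ∈ N, ξ (n : L) = ξ 1) : ∀ n ∈ N, θ.1 n = θ.1 1 := by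
  classical
  by_contra hcon
  push Not at hcon
  obtain ⟨x, hx, hxne⟩ := hcon
  apply hne
  have hcard : (Nat.card N : ℂ) ≠ 0 := by simp [Nat.card_pos.ne']
  set S := ∑ n : L, conj (θ.1 n) * ξ n with hS
  have h1 : ∀ n ∈ N, S = ∑ l : L, conj (θ.1 (n * l)) * ξ l := by
    intro n hn
    rw [hS, ← Equiv.sum_comp (Equiv.mulLeft n)]
    refine Finset.sum_congr rfl fun l _ => ?_
    simp only [Equiv.coe_mulLeft]
    congr 1
    have := char_mul_of_ker hξ (hker n hn) (l : G)
    simpa using this
  have h2 : (Nat.card N : ℂ) * S = ∑ n : L, if n ∈ N then S else 0 := by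
    rw [Finset.sum_ite, Finset.sum_const, Finset.sum_const_zero, add_zero, nsmul_eq_mul]
    congr 2
    rw [Nat.card_eq_fintype_card, Fintype.card_subtype]
  have h3 : ∑ n : L, (if n ∈ N then S else 0) =
      ∑ n : L, if n ∈ N then ∑ l : L, conj (θ.1 (n * l)) * ξ l else 0 := by
    refine Finset.sum_congr rfl fun n _ => ?_
    split_ifs with hn
    · exact h1 n hn
    · rfl
  have h4 : ∑ n : L, (if n ∈ N then ∑ l : L, conj (θ.1 (n * l)) * ξ l else 0) =
      ∑ l : L, ξ l * conj (∑ n : L, if n ∈ N then θ.1 (n * l) else 0) := by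
    have h5 : ∀ n : L, (if n ∈ N then ∑ l : L, conj (θ.1 (n * l)) * ξ l else 0) =
        ∑ l : L, if n ∈ N then conj (θ.1 (n * l)) * ξ l else 0 := by
      intro n
      split_ifs <;> simp
    simp only [h5]
    rw [Finset.sum_comm]
    refine Finset.sum_congr rfl fun l _ => ?_
    rw [map_sum, Finset.mul_sum]
    refine Finset.sum_congr rfl fun n _ => ?_
    split_ifs
    · ring
    · simp
  have h6 : ∀ l : L, ∑ n : L, (if n ∈ N then θ.1 (n * l) else 0) = 0 :=
    fun l => sum_normal_mul_eq_zero N θ ⟨x, hx, hxne⟩ l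
  rw [h3, h4] at h2
  simp only [h6, map_zero, mul_zero, Finset.sum_const_zero] at h2
  exact (mul_eq_zero.mp h2).resolve_left hcard

end Aux

section Main

variable {G : Type u} [Group G] [Finite G] {p : ℕ} [hp : Fact p.Prime] {M : Ideal AlgInt}

variable (hM : IsPModular p M)
include hM

/-- Induced central characters through a pair. -/
theorem indCC_congr_of_pair {H : Subgroup G} {D₀ : Subgroup H} {R : Subgroup G} (hz : ZComp H D₀ R)
    (hD₀ : IsPGroup p D₀) (hR : IsPGroup p R) {b : Set (IrrCharacter H)} (hb : IsPBlock M b)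
    {B : Set (IrrCharacter G)} (hB : IsPBlock M B)
    {ξ₀ : IrrCharacter (Subgroup.centralizer (D₀ : Set H))} (hξ₀ : ξ₀ ∈ brSet M D₀ (blockCoeff b))
    (hξ : irrMap (zIso hz) ξ₀ ∈ brSet M R (blockCoeff B)) {ψ : IrrCharacter H} (hψ : ψ ∈ b)
    {χ : IrrCharacter G} (hχ : χ ∈ B) (g : G) :
    MemLocalIdeal M (inducedCentralChar H ψ.1 g - centralChar χ.1 g) := by
  classical
  haveI : M.IsPrime := hM.2.1.isPrime
  have h4 := bw_class_congr hM hR hB hξ hχ (classIndicator_isClass g) (classIndicator_mlr g)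
  rw [om_classIndicator] at h4
  have h5 := bw_class_congr hM hD₀ hb hξ₀ hψ
    (a := fun h : H => classIndicator g (h : G))
    (fun x k => classIndicator_isClass g (x : G) (k : G))
    (fun x => classIndicator_mlr g (x : G))
  rw [show om ψ (fun h : H => classIndicator g h) = inducedCentralChar H ψ.1 g from
    om_indicator_eq ψ g] at h5
  have h6 := bw_zIso hz ξ₀ (a := classIndicator g) (ã := fun h : H => classIndicator g (h : G))
    (fun c => rfl)
  rw [h6] at h4
  have h8 := mli_sub h4 h5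
  have h9 : bw D₀ ξ₀ (fun h : H => classIndicator g (h : G)) - cc g χ -
      (bw D₀ ξ₀ (fun h : H => classIndicator g (h : G)) - inducedCentralChar H ψ.1 g) =
        inducedCentralChar H ψ.1 g - centralChar χ.1 g := by
    unfold cc
    ring
  rwa [h9] at h8

/-- **Induced blocks exist** when the centralizer of a defect group is inside. -/
theorem induced_defined_of_defect {H : Subgroup G} {b : Set (IrrCharacter H)} (hb : IsPBlock M b)
    {D₀ : Subgroup H} (hD₀ : IsDefectGroup p M b D₀)
    (hC : Subgroup.centralizer ((D₀.map H.subtype : Subgroup G) : Set G) ≤ H) :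
    InducedBlockDefined M H b := by
  classical
  haveI : M.IsPrime := hM.2.1.isPrime
  obtain ⟨e₀, hmax₀⟩ := exists_maximal_on_defect hM hD₀ hb
  have hD₀p : IsPGroup p D₀ := defect_isPGroup hD₀
  have hRp : IsPGroup p (D₀.map H.subtype) := hD₀p.map _
  have hz : ZComp H D₀ (D₀.map H.subtype) := zComp_map' hC le_rfl
  have hpb := isBrauerPairOf_iff.mp hmax₀.1
  obtain ⟨ξ₀, hξ₀⟩ := block_nonempty hpb.1.2
  obtain ⟨⟨B, hBF⟩, hB1, -⟩ := existsUnique_block_of_char hM hRp (irrMap (zIso hz) ξ₀)
  have hB : IsPBlock M B := mem_blocksF.mp hBF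
  exact ⟨B, hb, hB, fun ψ hψ χ hχ g =>
    indCC_congr_of_pair hM hz hD₀p hRp hb hB (hpb.2.2 hξ₀) hB1 hψ hχ g⟩

/-- The centre of the big defect group lies in the small one. -/
theorem center_le_of_maximal {H : Subgroup G} {b : Set (IrrCharacter H)}
    {D₀ : Subgroup H} {B : Set (IrrCharacter G)}
    (hC : Subgroup.centralizer ((D₀.map H.subtype : Subgroup G) : Set G) ≤ H)
    {e₀ : Set (IrrCharacter (Subgroup.centralizer (D₀ : Set H)))}
    (hmax₀ : IsMaximalBrauerPair p M b D₀ e₀)
    (hz : ZComp H D₀ (D₀.map H.subtype))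
    {D : Subgroup G} {d : Set (IrrCharacter (Subgroup.centralizer (D : Set G)))}
    (hmax : IsMaximalBrauerPair p M B D d)
    (hle : SubpairLE p M (D₀.map H.subtype) (irrMap (zIso hz) '' e₀) D d) :
    (Subgroup.center D).map D.subtype ≤ D₀.map H.subtype := by
  classical
  haveI : M.IsPrime := hM.2.1.isPrime
  set R₀ : Subgroup G := D₀.map H.subtype with hR₀
  set Z : Subgroup G := (Subgroup.center D).map D.subtype with hZ
  have hR₀D : R₀ ≤ D := subpairLE_le hle
  have hDb := (isBrauerPairOf_iff.mp hmax.1).1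
  have hZD : Z ≤ D := Subgroup.map_subtype_le _
  have hZC : Z ≤ Subgroup.centralizer (R₀ : Set G) := by
    rintro _ ⟨z, hz', rfl⟩
    rw [Subgroup.mem_centralizer_iff]
    intro r hr
    have h1 := (Subgroup.mem_center_iff.1 hz') ⟨r, hR₀D hr⟩
    exact congrArg Subtype.val h1
  set R : Subgroup G := R₀ ⊔ Z with hR
  have hRD : R ≤ D := sup_le hR₀D hZD
  have hRN : R ≤ Subgroup.normalizer (R₀ : Set G) :=
    sup_le Subgroup.le_normalizer (hZC.trans (Subgroup.centralizer_le_normalizer _))
  obtain ⟨g, hg, hgle⟩ := exists_subpairLE hM hDb R hRD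
  have h1 := subpairLE_intermediate hM hDb hle hgle (le_sup_left : R₀ ≤ R)
  have h2 := normalSubpair_of_subpairLE hM hg (le_sup_left : R₀ ≤ R) hRN h1
  have hRH : R ≤ H := sup_le (Subgroup.map_subtype_le _) (hZC.trans hC)
  -- descend to `H`
  have hz₁ : ZComp H (R.subgroupOf H) R := by
    have h3 := zComp_map' (H := H) (D := R.subgroupOf H) (Q := R₀) hC
      (by rw [map_subgroupOf_subtype hRH]; exact le_sup_left)
    rwa [map_subgroupOf_subtype hRH] at h3
  have hRp : IsPGroup p R := hg.1
  have hR₁p : IsPGroup p (R.subgroupOf H) := hRp.comap_of_injective _ (Subgroup.subtype_injective H)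
  set g₁ := irrMap (zIso hz₁).symm '' g with hg₁
  have hg₁b : IsBrauerPair p M (R.subgroupOf H) g₁ := ⟨hR₁p, isPBlock_image _ hg.2⟩
  have hD₀R : D₀ ≤ R.subgroupOf H := by
    intro x hx
    rw [Subgroup.mem_subgroupOf]
    exact (le_sup_left : R₀ ≤ R) ⟨x, hx, rfl⟩
  have hR₁N : R.subgroupOf H ≤ Subgroup.normalizer (D₀ : Set H) := by
    intro x hx
    rw [Subgroup.mem_subgroupOf] at hx
    rw [Subgroup.mem_normalizer_iff]
    intro y
    have hxN := Subgroup.mem_normalizer_iff.mp (hRN hx)
    have hinj : ∀ w : H, w ∈ D₀ ↔ (w : G) ∈ R₀ := by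
      intro w
      constructor
      · intro hw
        exact ⟨w, hw, rfl⟩
      · rintro ⟨w', hw', heq⟩
        have : w' = w := Subtype.ext heq
        rwa [← this]
    rw [hinj, hinj]
    simpa using hxN (y : G)
  obtain ⟨f', hf', -⟩ := existsUnique_normalSubpair hM hg₁b hD₀R hR₁N
  have h3 := normalSubpair_phiH (Q := R₀) hC (le_refl _) hf'
  have h4 : phiH H ⟨R.subgroupOf H, g₁⟩ = ⟨R, g⟩ := phiH_subgroupOf hz₁ hRH g
  rw [h4] at h3
  have h5 : IsNormalSubpair p M R₀ (phiS H D₀ f') R g := h3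
  rw [phiS_eq hz] at h5
  have h6 := normalSubpair_unique hM h5 h2
  have h7 : f' = e₀ := by
    have hinj : Function.Injective (irrMap (zIso hz)) := by
      intro a b hab
      have := congrArg (irrMap (zIso hz).symm) hab
      rwa [irrMap_symm_irrMap, irrMap_symm_irrMap] at this
    exact Set.image_injective.mpr hinj h6
  rw [h7] at hf'
  have h8 := isBrauerPairOf_of_normalSubpair hM hf' hmax₀.1
  have h9 := hmax₀.2 _ _ h8 (Relation.ReflTransGen.single hf')
  have h10 : R = R₀ := by
    have := map_subgroupOf_subtype hRH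
    rw [h9] at this
    exact this.symm
  rw [h10] at hRD
  calc Z ≤ R := le_sup_right
    _ = R₀ := h10

/-- **The defect group of the induced block.** -/
theorem induced_defect_center {H : Subgroup G} {b : Set (IrrCharacter H)} (hb : IsPBlock M b)
    {D₀ : Subgroup H} (hD₀ : IsDefectGroup p M b D₀)
    (hC : Subgroup.centralizer ((D₀.map H.subtype : Subgroup G) : Set G) ≤ H)
    {B : Set (IrrCharacter G)} (hind : IsInducedBlock M H b B) :
    (∃ D : Subgroup G, IsDefectGroup p M B D ∧
      (Subgroup.center D).map D.subtype ≤ ((Subgroup.center D₀).map D₀.subtype).map H.subtype ∧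
      ((Subgroup.center D₀).map D₀.subtype).map H.subtype ≤ D₀.map H.subtype ∧
      D₀.map H.subtype ≤ D) ∧
    (∀ D : Subgroup G, IsDefectGroup p M B D → IsMulCommutative D →
      IsDefectGroup p M B (D₀.map H.subtype)) := by
  classical
  haveI : M.IsPrime := hM.2.1.isPrime
  obtain ⟨e₀, hmax₀⟩ := exists_maximal_on_defect hM hD₀ hb
  have hD₀p : IsPGroup p D₀ := defect_isPGroup hD₀
  have hRp : IsPGroup p (D₀.map H.subtype) := hD₀p.map _
  have hz : ZComp H D₀ (D₀.map H.subtype) := zComp_map' hC le_rfl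
  have hpair := pair_of_induced hM hz hD₀p hRp hind hmax₀.1
  obtain ⟨P, d, hmax, hle⟩ := exists_maximal_above hM hpair
  have hPD := isDefectGroup_of_maximal hM hmax
  have hZ := center_le_of_maximal hM hC hmax₀ hz hmax hle
  have hR₀P : D₀.map H.subtype ≤ P := subpairLE_le hle
  constructor
  · refine ⟨P, hPD, ?_, ?_, hR₀P⟩
    · rintro _ ⟨z, hz', rfl⟩
      obtain ⟨x, hx, hxz⟩ := hZ ⟨z, hz', rfl⟩
      refine ⟨x, ⟨⟨x, hx⟩, ?_, rfl⟩, hxz⟩
      refine Subgroup.mem_center_iff.2 ?_
      intro w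
      apply Subtype.ext
      apply Subtype.ext
      have hwP : ((w : H) : G) ∈ P := hR₀P ⟨w, w.2, rfl⟩
      have h1 := (Subgroup.mem_center_iff.1 hz') ⟨_, hwP⟩
      have h2 := congrArg Subtype.val h1
      simp only [Subgroup.coe_mul, Subgroup.coe_mk] at h2 ⊢
      have hxz' : (x : G) = (z : G) := hxz
      rw [hxz']
      exact h2
    · exact Subgroup.map_mono (Subgroup.map_subtype_le _)
  · intro D' hD' hcomm
    obtain ⟨x, hx⟩ := subConj_of_defects hM hind.2.1 hPD hD'
    have hPc : ∀ a ∈ P, ∀ c ∈ P, a * c = c * a := by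
      intro a ha c hc
      have h1 : (⟨x * a * x⁻¹, hx a ha⟩ : D') * ⟨x * c * x⁻¹, hx c hc⟩ =
          ⟨x * c * x⁻¹, hx c hc⟩ * ⟨x * a * x⁻¹, hx a ha⟩ := hcomm.is_comm.comm _ _
      have h2 := congrArg Subtype.val h1
      simp only [Subgroup.coe_mul, Subgroup.coe_mk] at h2
      have h3 : x * (a * c) * x⁻¹ = x * (c * a) * x⁻¹ := by
        calc x * (a * c) * x⁻¹ = x * a * x⁻¹ * (x * c * x⁻¹) := by group
          _ = x * c * x⁻¹ * (x * a * x⁻¹) := h2
          _ = x * (c * a) * x⁻¹ := by group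
      simpa using h3
    have hPle : P ≤ D₀.map H.subtype := by
      intro a ha
      apply hZ
      refine ⟨⟨a, ha⟩, ?_, rfl⟩
      refine Subgroup.mem_center_iff.2 ?_
      intro w
      apply Subtype.ext
      exact hPc _ w.2 _ ha
    have : D₀.map H.subtype = P := le_antisymm hR₀P hPle
    rw [this]
    exact hPD

end Main

end Cfsg.Agent.H22
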