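import Cfsg.Agent.Lib.H22.PiKer4

/-! # The upward `π'`-theorem -/

set_option autoImplicit false
set_option linter.unusedSectionVars false
set_option linter.style.haveILetI false
set_option linter.unusedSimpArgs false

namespace Cfsg.Agent.H22

open Cfsg Cfsg.Agent.H21 Cfsg.Agent.H08 Module
open scoped ComplexConjugate

universe u

section Main

variable {G : Type u} [Group G] [Finite G] {p : ℕ} [hp : Fact p.Prime] {M : Ideal AlgInt}

/-- All `π'`-elements are in the kernel. -/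
def PEl (π : Set ℕ) (a : BrauerPairIdx G) : Prop :=
  ∀ ξ ∈ a.2, ∀ c : Subgroup.centralizer (a.1 : Set G),
    (∀ q : ℕ, q.Prime → q ∣ orderOf (c : G) → q ∉ π) → ξ.1 c = ξ.1 1

theorem pEl_conj {π : Set ℕ} (x : G) {a : BrauerPairIdx G} (h : PEl π a) : PEl π (cp x a) := by
  obtain ⟨Q, f⟩ := a
  show ∀ ξ' ∈ conjBlock Q x f, ∀ c' : Subgroup.centralizer ((cq x Q : Subgroup G) : Set G),
    (∀ q : ℕ, q.Prime → q ∣ orderOf (c' : G) → q ∉ π) → ξ'.1 c' = ξ'.1 1
  intro ξ' hξ' c' hc'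
  rw [conjBlock_eq] at hξ'
  obtain ⟨ξ, hξ, rfl⟩ := hξ'
  have h1 := h ξ hξ ((phiC x Q).symm c') (by
    intro q hq hd
    apply hc' q hq
    have h2 : orderOf ((phiC x Q).symm c') = orderOf c' := MulEquiv.orderOf_eq _ _
    rw [Subgroup.orderOf_coe] at hd ⊢
    rwa [h2] at hd)
  rw [irrMap_apply, irrMap_apply, h1, map_one]

theorem pEl_conj_iff {π : Set ℕ} (x : G) {a : BrauerPairIdx G} : PEl π (cp x a) ↔ PEl π a := by
  refine ⟨fun h => ?_, pEl_conj x⟩
  have := pEl_conj x⁻¹ h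
  rwa [cp_inv_cp] at this

variable (hM : IsPModular p M)
include hM

theorem pEl_step {π : Set ℕ} (hpπ : p ∈ π) {D₀ : Subgroup G}
    (A : Subgroup (Subgroup.centralizer (D₀ : Set G))) [hAn : A.Normal]
    (hAπ : ∀ q : ℕ, q.Prime → q ∣ Nat.card A → q ∉ π)
    (hcompl : ∀ x : Subgroup.centralizer (D₀ : Set G),
      (∀ q : ℕ, q.Prime → q ∣ orderOf x → q ∉ π) → x ∈ A)
    {a b : BrauerPairIdx G} (h : NormalSubpairRel p M a b) (hD : D₀ ≤ a.1)
    (ha : PEl π a) : PEl π b := by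
  haveI : M.IsPrime := hM.2.1.isPrime
  obtain ⟨Q, f⟩ := a
  obtain ⟨R, g⟩ := b
  have h' : IsNormalSubpair p M Q f R g := h
  obtain ⟨hb₁, hb₂, hle, hN, hst, hsub⟩ := isNormalSubpair_iff.mp h'
  have hD' : D₀ ≤ Q := hD
  have hCQ : Subgroup.centralizer (Q : Set G) ≤ Subgroup.centralizer (D₀ : Set G) :=
    centralizer_le_of_le hD'
  have hCRQ : Subgroup.centralizer (R : Set G) ≤ Subgroup.centralizer (Q : Set G) :=
    centralizer_le_of_le hle
  set A' : Subgroup G := A.map (Subgroup.centralizer (D₀ : Set G)).subtype with hA'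
  set V : Subgroup G := A' ⊓ Subgroup.centralizer (Q : Set G) with hV
  have hA'primes : ∀ q : ℕ, q.Prime → q ∣ Nat.card A' → q ∉ π := by
    intro q hq hd
    rw [hA', Subgroup.card_map_of_injective (Subgroup.subtype_injective _)] at hd
    exact hAπ q hq hd
  have hVel : ∀ v ∈ V, ∀ q : ℕ, q.Prime → q ∣ orderOf v → q ∉ π := by
    intro v hv q hq hd
    apply hA'primes q hq
    refine hd.trans ?_
    have h1 : orderOf (⟨v, hv.1⟩ : A') = orderOf v := Subgroup.orderOf_mk _ _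
    rw [← h1]
    exact orderOf_dvd_natCard _
  have hmemA : ∀ c, c ∈ Subgroup.centralizer (D₀ : Set G) →
      (∀ q : ℕ, q.Prime → q ∣ orderOf c → q ∉ π) → c ∈ A' := by
    intro c hc hel
    refine ⟨⟨c, hc⟩, hcompl ⟨c, hc⟩ ?_, rfl⟩
    intro q hq hd
    rw [Subgroup.orderOf_mk] at hd
    exact hel q hq hd
  have hVQ : V ≤ Subgroup.centralizer (Q : Set G) := inf_le_right
  have hVC : ∀ c ∈ Subgroup.centralizer (Q : Set G), ∀ v ∈ V, c * v * c⁻¹ ∈ V := by
    intro c hc v hv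
    refine ⟨?_, ?_⟩
    · obtain ⟨w, hw, rfl⟩ := hv.1
      exact ⟨⟨c, hCQ hc⟩ * w * ⟨c, hCQ hc⟩⁻¹, hAn.conj_mem w hw _, rfl⟩
    · exact Subgroup.mul_mem _ (Subgroup.mul_mem _ hc hv.2) (Subgroup.inv_mem _ hc)
  have hVR : ∀ r ∈ R, ∀ v ∈ V, r * v * r⁻¹ ∈ V := by
    intro r hr v hv
    have hrC := normalizer_le_normalizer_centralizer Q (hN hr)
    have hc : r * v * r⁻¹ ∈ Subgroup.centralizer (Q : Set G) :=
      (Subgroup.mem_normalizer_iff.mp hrC v).mp hv.2
    refine ⟨hmemA _ (hCQ hc) ?_, hc⟩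
    intro q hq hd
    have h1 : orderOf (r * v * r⁻¹) = orderOf v := by
      have := MulEquiv.orderOf_eq (MulAut.conj r) v
      rwa [MulAut.conj_apply] at this
    rw [h1] at hd
    exact hVel v hv q hq hd
  have hp' : ¬ p ∣ Nat.card V := by
    intro hd
    exact hA'primes p hp.out (hd.trans (Subgroup.card_dvd_of_le inf_le_left)) hpπ
  show ∀ ξ ∈ g, ∀ c : Subgroup.centralizer (R : Set G),
    (∀ q : ℕ, q.Prime → q ∣ orderOf (c : G) → q ∉ π) → ξ.1 c = ξ.1 1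
  intro ξ hξ c hc
  have h1 := (ker_iff_of_normalSubpair hM h' V hVQ hVC hVR hp' hξ).1 (fun θ hθ c hcV =>
    ha θ hθ c (hVel _ hcV))
  exact h1 c ⟨hmemA _ (hCQ (hCRQ c.2)) hc, hCRQ c.2⟩

theorem pEl_chain {π : Set ℕ} (hpπ : p ∈ π) {D₀ : Subgroup G}
    (A : Subgroup (Subgroup.centralizer (D₀ : Set G))) [hAn : A.Normal]
    (hAπ : ∀ q : ℕ, q.Prime → q ∣ Nat.card A → q ∉ π)
    (hcompl : ∀ x : Subgroup.centralizer (D₀ : Set G),
      (∀ q : ℕ, q.Prime → q ∣ orderOf x → q ∉ π) → x ∈ A)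
    {e₀ : Set (IrrCharacter (Subgroup.centralizer (D₀ : Set G)))} {b : BrauerPairIdx G}
    (h : Relation.ReflTransGen (NormalSubpairRel p M) ⟨D₀, e₀⟩ b)
    (ha : PEl π ⟨D₀, e₀⟩) : PEl π b := by
  haveI : M.IsPrime := hM.2.1.isPrime
  induction h with
  | refl => exact ha
  | tail h1 h2 ih =>
    exact pEl_step hM hpπ A hAπ hcompl h2 (chain_le h1) ih

/-- **The upward theorem.** -/
theorem hall_up {π : Set ℕ} (hpπ : p ∈ π) {B : Set (IrrCharacter G)} (hB : IsPBlock M B)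
    {D : Subgroup G} (hBD : IsDefectGroup p M B D)
    {B₁ : Set (IrrCharacter (Subgroup.normalizer (D : Set G)))}
    (hB₁ : IsInducedBlock M (Subgroup.normalizer (D : Set G)) B₁ B)
    (hB₁D : IsDefectGroup p M B₁ (D.subgroupOf (Subgroup.normalizer (D : Set G))))
    (D₀ : Subgroup G) (hD₀ : IsPGroup p D₀) (H₀ : Subgroup G)
    (hH₀ : H₀ = D₀ ⊔ Subgroup.centralizer (D₀ : Set G)) (b : Set (IrrCharacter H₀))
    (hb : IsInducedBlock M H₀ b B)
    (hcompl : ∀ x : Subgroup.centralizer (D₀ : Set G), (∀ q : ℕ, q.Prime → q ∣ orderOf x → q ∉ π) →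
      x ∈ piCore {q | q ∉ π} (Subgroup.centralizer (D₀ : Set G)))
    (hkerb : ∀ x : Subgroup.centralizer (D₀ : Set G),
      x ∈ piCore {q | q ∉ π} (Subgroup.centralizer (D₀ : Set G)) →
      ∀ θ ∈ b, ∀ h : H₀, (h : G) = (x : G) → θ.1 h = θ.1 1) :
    ∀ n : Subgroup.normalizer (D : Set G),
      n ∈ piCore {q | q ∉ π} (Subgroup.normalizer (D : Set G)) → n ∈ blockKer B₁ := by
  classical
  haveI : M.IsPrime := hM.2.1.isPrime
  set π' : Set ℕ := {q | q ∉ π} with hπ'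
  -- the pair at the bottom
  have hCH : Subgroup.centralizer (D₀ : Set G) ≤ H₀ := by rw [hH₀]; exact le_sup_right
  have hPH : D₀ ≤ H₀ := by rw [hH₀]; exact le_sup_left
  have hHN : H₀ ≤ Subgroup.normalizer (D₀ : Set G) := by
    rw [hH₀]
    exact sup_le Subgroup.le_normalizer (Subgroup.centralizer_le_normalizer _)
  obtain ⟨ξ₀, hξ₀⟩ := block_nonempty hb.1
  obtain ⟨θ, hθ⟩ := exists_constituent ((Subgroup.centralizer (D₀ : Set G)).subgroupOf H₀) ξ₀
  set Φ := Subgroup.subgroupOfEquivOfLe hCH with hΦ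
  obtain ⟨⟨B', hBF⟩, hB1, -⟩ := existsUnique_block_of_char hM hD₀ (irrMap Φ θ)
  have hB' : IsPBlock M B' := mem_blocksF.mp hBF
  have hind' := induced_of_above hCH hM hD₀ hPH hHN ξ₀ θ hθ hB' hB1
  rw [← block_eq_of_mem hb.1 hξ₀] at hind'
  have hEq : B' = B := induced_unique hind' hb
  have hB1' : irrMap Φ θ ∈ brSet M D₀ (blockCoeff B) := by
    rw [← hEq]
    exact hB1
  set e₀ : Set (IrrCharacter (Subgroup.centralizer (D₀ : Set G))) := blockOf M (irrMap Φ θ).1 with he₀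
  have he₀b : IsPBlock M e₀ := isBlock_blockOf _
  have hpair : IsBrauerPairOf p M B D₀ e₀ := by
    rw [isBrauerPairOf_iff]
    refine ⟨⟨hD₀, he₀b⟩, hB, ?_⟩
    exact block_subset_brSet (blockCoeff_Ad B _) (blockCoeff_mlr hB) he₀b (self_mem_blockOf _) hB1'
  -- the kernel at the bottom
  set A := piCore π' (Subgroup.centralizer (D₀ : Set G)) with hA
  have hAπ : ∀ q : ℕ, q.Prime → q ∣ Nat.card A → q ∉ π := fun q hq hd => piCore_isPi π' q hq hd
  have hp'A : ¬ p ∣ Nat.card A := not_dvd_card_piCore hp.out hpπ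
  let N₁ : Subgroup ((Subgroup.centralizer (D₀ : Set G)).subgroupOf H₀) := A.comap Φ.toMonoidHom
  haveI hN₁ : N₁.Normal := Subgroup.Normal.comap (piCore_normal _ _) _
  have hkerθ := ker_of_constituent ((Subgroup.centralizer (D₀ : Set G)).subgroupOf H₀)
    (Cfsg.Agent.H21.isCharacter_of_irr ξ₀.2) θ hθ N₁ (fun n hn => by
      have h1 := hkerb (Φ n) hn ξ₀ hξ₀ n rfl
      exact h1)
  have hker0 : ∀ c ∈ A, (irrMap Φ θ).1 c = (irrMap Φ θ).1 1 := by
    intro c hc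
    rw [irrMap_apply, irrMap_apply, map_one]
    apply hkerθ
    show Φ (Φ.symm c) ∈ A
    rw [MulEquiv.apply_symm_apply]
    exact hc
  have hPEl0 : PEl π ⟨D₀, e₀⟩ := by
    intro ξ hξ c hc
    have hcA : c ∈ A := hcompl c (by
      intro q hq hd
      rw [Subgroup.orderOf_coe] at hc
      exact hc q hq hd)
    exact ker_of_block hM A hp'A he₀b (self_mem_blockOf _) hξ hker0 c hcA
  -- the top pair
  obtain ⟨e₁, hmax₁⟩ := exists_maximal_on_defect hM hB₁D hB₁.1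
  set N := Subgroup.normalizer (D : Set G) with hN
  have hDN : D ≤ N := Subgroup.le_normalizer
  have hz : ZComp N (D.subgroupOf N) D := by
    have h1 := zComp_map' (H := N) (D := D.subgroupOf N) (Q := D)
      (Subgroup.centralizer_le_normalizer _)
      (le_of_eq (map_subgroupOf_subtype hDN).symm)
    rwa [map_subgroupOf_subtype hDN] at h1
  have hDp : IsPGroup p D := defect_isPGroup hBD
  have hD₁p : IsPGroup p (D.subgroupOf N) := hDp.comap_of_injective _ (Subgroup.subtype_injective N)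
  have hpairD := pair_of_induced hM hz hD₁p hDp hB₁ hmax₁.1
  have hmax := maximal_of_defect hM hpairD hBD
  -- the chain
  obtain ⟨x, hx⟩ := exists_conj_subpairLE hM hmax hpair
  have hx' : Relation.ReflTransGen (NormalSubpairRel p M)
      (cp x⁻¹ (cp x ⟨D₀, e₀⟩)) (cp x⁻¹ ⟨D, _⟩) := chain_conj x⁻¹ hx
  rw [cp_inv_cp] at hx'
  have hPElTop := pEl_chain hM hpπ A hAπ
    (fun c hc => hcompl c hc) hx' hPEl0
  rw [pEl_conj_iff] at hPElTop
  -- the end
  intro n hn χ₁ hχ₁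
  obtain ⟨ξ₁, hξ₁⟩ := block_nonempty (isBrauerPairOf_iff.mp hmax₁.1).1.2
  have hp' : ¬ p ∣ Nat.card (piCore π' N) := not_dvd_card_piCore hp.out hpπ
  have hbr := (isBrauerPairOf_iff.mp hmax₁.1).2.2 hξ₁
  refine (ker_iff_of_brSet hM hD₁p hB₁.1 hbr hχ₁ (piCore π' N) hp').2 (fun c hc => ?_) n hn
  have h1 := hPElTop (irrMap (zIso hz) ξ₁) ⟨ξ₁, hξ₁, rfl⟩ (zIso hz c) (by
    intro q hq hd
    have h2 : orderOf ((zIso hz c : Subgroup.centralizer (D : Set G)) : G) = orderOf ((c : N) : G) := rfl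
    rw [h2, Subgroup.orderOf_coe] at hd
    have h3 : orderOf (⟨(c : N), hc⟩ : piCore π' N) = orderOf (c : N) := Subgroup.orderOf_mk _ _
    rw [← h3] at hd
    exact piCore_isPi π' q hq (hd.trans (orderOf_dvd_natCard _)))
  rw [irrMap_apply', irrMap_apply, map_one] at h1
  exact h1

end Main

end Cfsg.Agent.H22
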