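import Cfsg.Agent.Lib.H10.PS1Table
import Cfsg.Agent.Lib.H21.BlockBasics
import Cfsg.Prelude.Def_DegreeGraph

/-!
# Character degrees of `SL₂(q)` and `PSL₂(q)`
-/

set_option autoImplicit false
set_option linter.unusedSectionVars false
set_option linter.unusedSimpArgs false
set_option linter.style.haveILetI false

namespace Cfsg.Agent.H22

open Cfsg Cfsg.Agent.H21 Matrix
open scoped ComplexConjugate

local notation "SL₂" => Matrix.SpecialLinearGroup (Fin 2)

universe u v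

section Transfer

/-- Character degrees are invariant under isomorphisms. -/
theorem charDegrees_congr {S : Type u} {T : Type v} [Group S] [Group T] [Finite S] [Finite T]
    (e : S ≃* T) : charDegrees S = charDegrees T := by
  ext d
  constructor
  · rintro ⟨χ, rfl⟩
    refine ⟨⟨χ.1 ∘ e.symm, isIrrCharacter_comp_of_surjective e.symm.toMonoidHom e.symm.surjective χ.2⟩, ?_⟩
    unfold charDegree
    simp
  · rintro ⟨χ, rfl⟩
    refine ⟨⟨χ.1 ∘ e, isIrrCharacter_comp_of_surjective e.toMonoidHom e.surjective χ.2⟩, ?_⟩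
    unfold charDegree
    simp

end Transfer

section Central

variable {F : Type u} [Field F] [Fintype F] [Fintype (SL₂ F)]

/-- The principal series at a scalar matrix. -/
theorem pi1_scalar (α : MulChar F ℂ) (z : SL₂ F) (r : F)
    (hz : (z : Matrix (Fin 2) (Fin 2) F) = Matrix.scalar (Fin 2) r) :
    H10.pi1 α z = ((Fintype.card F : ℂ) + 1) * α r := by
  classical
  rw [H10.pi1_apply]
  have h00 : (z : Matrix (Fin 2) (Fin 2) F) 0 0 = r := by rw [hz]; simp
  have h01 : (z : Matrix (Fin 2) (Fin 2) F) 0 1 = 0 := by rw [hz]; simp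
  have h10 : (z : Matrix (Fin 2) (Fin 2) F) 1 0 = 0 := by rw [hz]; simp
  have h11 : (z : Matrix (Fin 2) (Fin 2) F) 1 1 = r := by rw [hz]; simp
  simp only [h00, h01, h10, h11]
  have : ∀ t : F, (if r * t + 0 = (0 * t + r) * t then α (0 * t + r) else 0) = α r := by
    intro t
    simp
  simp only [this, Finset.sum_const, Finset.card_univ, nsmul_eq_mul, if_true]
  ring

theorem mem_center_scalar {z : SL₂ F} (hz : z ∈ Subgroup.center (SL₂ F)) :
    ∃ r : F, r ^ 2 = 1 ∧ (z : Matrix (Fin 2) (Fin 2) F) = Matrix.scalar (Fin 2) r := by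
  classical
  rw [Matrix.SpecialLinearGroup.mem_center_iff] at hz
  obtain ⟨r, hr, e⟩ := hz
  refine ⟨r, ?_, e.symm⟩
  simpa using hr

/-- The Steinberg character is trivial on the centre. -/
theorem st_trivial_center {z : SL₂ F} (hz : z ∈ Subgroup.center (SL₂ F)) :
    (H10.stIrr (F := F)).1 z = (H10.stIrr (F := F)).1 1 := by
  obtain ⟨r, hr, e⟩ := mem_center_scalar hz
  have hr0 : r ≠ 0 := by
    rintro rfl
    simp at hr
  have hst : ∀ g : SL₂ F, (H10.stIrr (F := F)).1 g = H10.pi1 1 g - 1 := fun g => rfl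
  rw [hst, hst, pi1_scalar 1 z r e, H10.pi1_one, MulChar.one_apply (IsUnit.mk0 _ hr0)]
  ring

end Central

section Table

variable {F : Type u} [Field F] [Fintype F] {p : ℕ} [hp : Fact p.Prime] [hc : CharP F p]

theorem p_dvd_card_field : p ∣ Fintype.card F := by
  obtain ⟨n, -, hn⟩ := FiniteField.card F p
  rw [hn]
  exact dvd_pow_self p n.ne_zero

variable [Fintype (SL₂ F)]

/-- Only the Steinberg character has degree divisible by the characteristic. -/
theorem eq_st_of_dvd (χ : IrrCharacter (SL₂ F)) (hd : p ∣ charDegree χ.1) : χ = H10.stIrr := by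
  classical
  have hpp : p.Prime := hp.out
  have hq : p ∣ Fintype.card F := p_dvd_card_field (F := F)
  have hq2 : 2 ≤ Fintype.card F := Fintype.one_lt_card
  have h1 : ¬ p ∣ Fintype.card F + 1 := by
    intro h
    have := (Nat.dvd_add_right hq).1 h
    exact hpp.one_lt.ne' (Nat.dvd_one.1 this)
  have h2 : ¬ p ∣ Fintype.card F - 1 := by
    intro h
    have h3 : Fintype.card F = (Fintype.card F - 1) + 1 := by omega
    rw [h3] at hq
    have := (Nat.dvd_add_right h).1 hq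
    exact hpp.one_lt.ne' (Nat.dvd_one.1 this)
  by_cases hodd : Odd (Fintype.card F)
  · obtain ⟨m, hm⟩ := hodd
    obtain ⟨χ₁, χ₂, hpair⟩ := H10.exists_halfPair (F := F)
    rcases H10.irr_cases_odd ⟨m, hm⟩ m hm hpair χ with h | h | h | h | h | h | h
    · rw [h.2] at hd
      exact absurd (Nat.dvd_one.1 hd) hpp.one_lt.ne'
    · exact h.1
    · exfalso
      rw [h.2] at hd
      apply h1
      rw [hm]
      exact hd
    · exfalso
      rw [h.2] at hd
      apply h1
      rw [hm]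
      have : 2 * m + 1 + 1 = 2 * (m + 1) := by ring
      rw [this]
      exact hd.mul_left 2
    · exfalso
      rw [h.2] at hd
      apply h1
      rw [hm]
      have : 2 * m + 1 + 1 = 2 * (m + 1) := by ring
      rw [this]
      exact hd.mul_left 2
    · exfalso
      rw [h.2] at hd
      apply h2
      rw [hm]
      have : 2 * m + 1 - 1 = 2 * m := by omega
      rw [this]
      exact hd.mul_left 2
    · exfalso
      rw [h.2] at hd
      apply h2
      rw [hm]
      have : 2 * m + 1 - 1 = 2 * m := by omega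
      rw [this]
      exact hd
  · have hr : ringChar F = 2 := FiniteField.even_card_iff_char_two.mpr (by
      rcases Nat.even_or_odd (Fintype.card F) with h | h
      · exact Nat.even_iff.mp h
      · exact absurd h hodd)
    haveI : CharP F 2 := by
      rw [← hr]
      exact ringChar.charP F
    rcases H10.irr_classify_even χ with h | h | h | ⟨-, h⟩
    · rw [h, H10.oneIrr_degree] at hd
      exact absurd (Nat.dvd_one.1 hd) hpp.one_lt.ne'
    · exact h
    · rw [H10.Tset_degree h] at hd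
      exact absurd hd h1
    · rw [h] at hd
      exact absurd hd h2

end Table

section PSL

variable {F : Type u} [Field F] [Fintype F] {p : ℕ} [hp : Fact p.Prime] [hc : CharP F p]

/-- The Steinberg character of `PSL₂`. -/
theorem psl_dvd_unique :
    Nat.card {χ : IrrCharacter (Matrix.ProjectiveSpecialLinearGroup (Fin 2) F) //
        p ∣ charDegree (χ : Matrix.ProjectiveSpecialLinearGroup (Fin 2) F → ℂ)} = 1 ∧
      ∀ χ : IrrCharacter (Matrix.ProjectiveSpecialLinearGroup (Fin 2) F),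
        p ∣ charDegree (χ : Matrix.ProjectiveSpecialLinearGroup (Fin 2) F → ℂ) →
        charDegree (χ : Matrix.ProjectiveSpecialLinearGroup (Fin 2) F → ℂ) = Fintype.card F := by
  classical
  haveI : Fintype (SL₂ F) := Fintype.ofFinite _
  let Z : Subgroup (SL₂ F) := Subgroup.center (SL₂ F)
  haveI hZ : Z.Normal := inferInstance
  have hdeg : ∀ χ : IrrCharacter (SL₂ F ⧸ Z),
      charDegree ((χ.1 ∘ (QuotientGroup.mk' Z)) : SL₂ F → ℂ) = charDegree χ.1 := by
    intro χ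
    unfold charDegree
    simp
  have hst : ∀ χ : IrrCharacter (SL₂ F ⧸ Z), p ∣ charDegree χ.1 →
      (χ.1 ∘ (QuotientGroup.mk' Z) : SL₂ F → ℂ) = (H10.stIrr (F := F)).1 := by
    intro χ hχ
    have h1 := eq_st_of_dvd (p := p) (⟨_, isIrr_inflate Z χ.2⟩ : IrrCharacter (SL₂ F)) (by
      show p ∣ charDegree ((χ.1 ∘ (QuotientGroup.mk' Z)) : SL₂ F → ℂ)
      rw [hdeg]
      exact hχ)
    exact congrArg Subtype.val h1
  obtain ⟨χ₀, hχ₀, hχ₀2⟩ := exists_descend Z (H10.stIrr (F := F)).2 (fun z hz => st_trivial_center hz)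
  have hdeg₀ : charDegree χ₀ = Fintype.card F := by
    have := hdeg ⟨χ₀, hχ₀⟩
    simp only at this
    rw [hχ₀2, H10.stIrr_degree] at this
    exact this.symm
  refine ⟨?_, ?_⟩
  · rw [Nat.card_eq_one_iff_unique]
    refine ⟨⟨?_⟩, ⟨⟨⟨χ₀, hχ₀⟩, ?_⟩⟩⟩
    · rintro ⟨χ, hχ⟩ ⟨ψ, hψ⟩
      apply Subtype.ext
      apply Subtype.ext
      have h1 := hst χ hχ
      have h2 := hst ψ hψ
      funext q
      obtain ⟨g, rfl⟩ := QuotientGroup.mk'_surjective Z q
      have := congrFun (h1.trans h2.symm) g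
      exact this
    · show p ∣ charDegree χ₀
      rw [hdeg₀]
      exact p_dvd_card_field
  · intro χ hχ
    have h1 := hst χ hχ
    have h2 := hdeg χ
    rw [h1, H10.stIrr_degree] at h2
    exact h2.symm

end PSL

section Even

variable {F : Type u} [Field F] [Fintype F] [CharP F 2]

theorem center_trivial_even : Subgroup.center (SL₂ F) = ⊥ := by
  classical
  rw [eq_bot_iff]
  intro z hz
  haveI : Fintype (SL₂ F) := Fintype.ofFinite _
  obtain ⟨r, hr, e⟩ := mem_center_scalar hz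
  have h1 : (r + 1) ^ 2 = 0 := by
    have h2 : (r + 1) ^ 2 = r ^ 2 + 2 * r + 1 := by ring
    rw [h2, hr, CharTwo.two_eq_zero, zero_mul, add_zero]
    exact CharTwo.add_self_eq_zero 1
  have h3 : r + 1 = 0 := by simpa using h1
  have h4 : r = 1 := by
    have := CharTwo.add_eq_zero.1 h3
    exact this
  rw [Subgroup.mem_bot]
  apply Subtype.ext
  rw [e, h4]
  simp

/-- The `PSL₂` in even characteristic is `SL₂`. -/
noncomputable def pslEquivEven : Matrix.ProjectiveSpecialLinearGroup (Fin 2) F ≃* SL₂ F :=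
  (QuotientGroup.quotientMulEquivOfEq (center_trivial_even (F := F))).trans
    (QuotientGroup.quotientBot)

theorem charDegrees_even (h4 : 4 ≤ Fintype.card F) :
    charDegrees (SL₂ F) = {1, Fintype.card F, Fintype.card F + 1, Fintype.card F - 1} := by
  classical
  haveI : Fintype (SL₂ F) := Fintype.ofFinite _
  ext d
  simp only [Set.mem_insert_iff, Set.mem_singleton_iff]
  constructor
  · rintro ⟨χ, rfl⟩
    rcases H10.irr_classify_even χ with h | h | h | ⟨-, h⟩
    · left; rw [h, H10.oneIrr_degree]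
    · right; left; rw [h, H10.stIrr_degree]
    · right; right; left; exact H10.Tset_degree h
    · right; right; right; exact h
  · rintro (rfl | rfl | rfl | rfl)
    · exact ⟨H10.oneIrr, H10.oneIrr_degree⟩
    · exact ⟨H10.stIrr, H10.stIrr_degree⟩
    · have hT := H10.two_mul_T_even (F := F)
      have hne : (H10.Tset F).Nonempty := by
        rw [← Finset.card_pos]
        omega
      obtain ⟨χ, hχ⟩ := hne
      exact ⟨χ, H10.Tset_degree hχ⟩
    · have hC := H10.card_cusp_even (F := F)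
      have hne : (Finset.univ.filter (fun χ : IrrCharacter (SL₂ F) => H10.IsCusp1 χ)).Nonempty := by
        rw [← Finset.card_pos, hC]
        omega
      obtain ⟨χ, hχ⟩ := hne
      exact ⟨χ, H10.cusp_degree_even χ (by simpa using hχ)⟩

end Even

section Odd

open Cfsg.Agent.H10 in
/-- Values of a character at the two classes of transvections. -/
theorem val_cases {F : Type u} [Field F] [Fintype F] [Fintype (SL₂ F)]
    (hodd : Odd (Fintype.card F)) (m : ℕ) (hm : Fintype.card F = 2 * m + 1)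
    (ν : Fˣ) (hν : ¬ IsSquare (ν : F)) (χ : IrrCharacter (SL₂ F)) :
    (χ = H10.oneIrr ∧ χ.1 ((b1Mk 1 1 : B1 F) : SL₂ F) + χ.1 ((b1Mk 1 (ν : F) : B1 F) : SL₂ F) = 2) ∨
    (χ = H10.stIrr ∧ χ.1 ((b1Mk 1 1 : B1 F) : SL₂ F) + χ.1 ((b1Mk 1 (ν : F) : B1 F) : SL₂ F) = 0) ∨
    (χ ∈ Tset F ∧ χ.1 ((b1Mk 1 1 : B1 F) : SL₂ F) + χ.1 ((b1Mk 1 (ν : F) : B1 F) : SL₂ F) = 2) ∨
    (charDegree χ.1 = m + 1 ∧ χ.1 ((b1Mk 1 1 : B1 F) : SL₂ F) + χ.1 ((b1Mk 1 (ν : F) : B1 F) : SL₂ F) = 1) ∨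
    (IsCusp1 χ ∧ charDegree χ.1 = m) ∨
    (IsCusp1 χ ∧ charDegree χ.1 = 2 * m) := by
  classical
  obtain ⟨χ₁, χ₂, hp⟩ := exists_halfPair (F := F)
  rcases irr_cases_odd hodd m hm hp χ with h | h | h | h | h | h | h
  · left
    refine ⟨h.1, ?_⟩
    rw [h.1]
    show (1 : ℂ) + 1 = 2
    norm_num
  · right; left
    refine ⟨h.1, ?_⟩
    rw [h.1]
    have key : ∀ x : F, x ≠ 0 → (H10.stIrr (F := F)).1 ((b1Mk 1 x : B1 F) : SL₂ F) = 0 := by
      intro x hx
      have := (st1_values ((b1Mk 1 x : B1 F) : SL₂ F)).2.2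
      apply this
      · simp [b1Mk_coe]
      · simp [b1Mk_coe]
      · simpa [b1Mk_coe] using hx
    rw [key 1 one_ne_zero, key ν ν.ne_zero, add_zero]
  · right; right; left
    refine ⟨h.1, ?_⟩
    obtain ⟨α, -, e⟩ := mem_Tset.mp h.1
    rw [e, pi1_unip α 1 one_ne_zero, pi1_unip α ν ν.ne_zero]
    norm_num
  · right; right; right; left
    refine ⟨h.2, ?_⟩
    rw [h.1]
    exact half_unip_add hodd hp ν hν
  · right; right; right; left
    refine ⟨h.2, ?_⟩
    rw [h.1]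
    exact half_unip_add hodd hp.symm ν hν
  · right; right; right; right; left
    exact h
  · right; right; right; right; right
    exact h

open Cfsg.Agent.H10 in
/-- The values of a cuspidal character of degree `q - 1`. -/
theorem cusp_val {F : Type u} [Field F] [Fintype F] [Fintype (SL₂ F)]
    (hodd : Odd (Fintype.card F)) (m : ℕ) (hm : Fintype.card F = 2 * m + 1)
    (ν : Fˣ) (hν : ¬ IsSquare (ν : F)) (χ : IrrCharacter (SL₂ F)) (hχ : IsCusp1 χ)
    (hd : charDegree χ.1 = 2 * m) :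
    χ.1 ((b1Mk 1 1 : B1 F) : SL₂ F) + χ.1 ((b1Mk 1 (ν : F) : B1 F) : SL₂ F) = -2 := by
  have hcl := isClassFunction_of_isCharacter (isCharacter_of_irr χ.2)
  have h1 := two_sum_unip hodd χ.1 hcl ν hν
  rw [cusp1_sum χ.1 hcl hχ 1, one_eq_charDegree (isCharacter_of_irr χ.2), hd, hm] at h1
  have e : 2 * m + 1 - 1 = 2 * m := by omega
  rw [e] at h1
  have hm0 : (m : ℂ) ≠ 0 := by
    have : 2 ≤ Fintype.card F := Fintype.one_lt_card
    have : m ≠ 0 := by omega
    exact_mod_cast this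
  have h2 : (2 : ℂ) * m * (χ.1 ((b1Mk 1 1 : B1 F) : SL₂ F) + χ.1 ((b1Mk 1 (ν : F) : B1 F) : SL₂ F) + 2) = 0 := by
    push_cast at h1
    linear_combination -h1
  have h3 := (mul_eq_zero.mp h2).resolve_left (mul_ne_zero two_ne_zero hm0)
  linear_combination h3

open Cfsg.Agent.H10 in
/-- There is an even principal series character. -/
theorem exists_even_T {F : Type u} [Field F] [Fintype F] [Fintype (SL₂ F)]
    (h5 : 5 < Fintype.card F) :
    ∃ χ : IrrCharacter (SL₂ F), χ ∈ Tset F ∧ ∀ z ∈ Subgroup.center (SL₂ F), χ.1 z = χ.1 1 := by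
  classical
  have hn : Fintype.card F - 1 ≠ 0 := by omega
  obtain ⟨β, hβ⟩ := MulChar.exists_mulChar_orderOf F (n := Fintype.card F - 1) (dvd_refl _)
    (Complex.isPrimitiveRoot_exp _ hn)
  have hα : (β ^ 2) ≠ (β ^ 2)⁻¹ := by
    intro h
    have h1 : (β ^ 2) ^ 2 = 1 := by
      rw [sq (β ^ 2)]
      nth_rewrite 2 [h]
      exact mul_inv_cancel _
    rw [← pow_mul] at h1
    have h2 := orderOf_dvd_of_pow_eq_one h1
    rw [hβ] at h2
    have := Nat.le_of_dvd (by norm_num) h2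
    omega
  refine ⟨psIrr ⟨β ^ 2, hα⟩, ?_, ?_⟩
  · exact Finset.mem_image.2 ⟨_, Finset.mem_univ _, rfl⟩
  · intro z hz
    obtain ⟨r, hr, e⟩ := mem_center_scalar hz
    show pi1 (β ^ 2) z = pi1 (β ^ 2) 1
    rw [pi1_scalar _ z r e, pi1_one, MulChar.pow_apply' β (by norm_num), ← map_pow, hr, map_one]
    ring

open Cfsg.Agent.H10 in
/-- There is an even cuspidal character of degree `q - 1`. -/
theorem exists_even_cusp {F : Type u} [Field F] [Fintype F] [Fintype (SL₂ F)]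
    (hodd : Odd (Fintype.card F)) (m : ℕ) (hm : Fintype.card F = 2 * m + 1)
    (h5 : 5 < Fintype.card F) :
    ∃ χ : IrrCharacter (SL₂ F), charDegree χ.1 = 2 * m ∧
      ∀ z ∈ Subgroup.center (SL₂ F), χ.1 z = χ.1 1 := by
  classical
  by_contra hcon
  push Not at hcon
  have hm3 : 3 ≤ m := by omega
  -- a nonsquare
  have hch : ringChar F ≠ 2 := by
    intro h
    have := (FiniteField.even_card_iff_char_two.1 h)
    rw [hm] at this
    omega
  obtain ⟨a, ha⟩ := FiniteField.exists_nonsquare hch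
  have ha0 : a ≠ 0 := by
    rintro rfl
    exact ha (IsSquare.zero)
  let ν : Fˣ := Units.mk0 a ha0
  have hν : ¬ IsSquare (ν : F) := ha
  let Z : Subgroup (SL₂ F) := Subgroup.center (SL₂ F)
  haveI hZ : Z.Normal := inferInstance
  let Q := SL₂ F ⧸ Z
  haveI : Fintype Q := Fintype.ofFinite _
  haveI : Fintype (IrrCharacter Q) := Fintype.ofFinite _
  haveI : Fintype (IrrCharacter (SL₂ F)) := Fintype.ofFinite _
  let infl : IrrCharacter Q → IrrCharacter (SL₂ F) := fun χ => ⟨χ.1 ∘ (QuotientGroup.mk' Z), isIrr_inflate Z χ.2⟩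
  have hinfl_inj : Function.Injective infl := by
    intro χ ψ h
    apply Subtype.ext
    funext q
    obtain ⟨g, rfl⟩ := QuotientGroup.mk'_surjective Z q
    exact congrFun (congrArg Subtype.val h) g
  have hinfl_triv : ∀ χ : IrrCharacter Q, ∀ z ∈ Z, (infl χ).1 z = (infl χ).1 1 := by
    intro χ z hz
    show χ.1 (QuotientGroup.mk' Z z) = χ.1 (QuotientGroup.mk' Z 1)
    have h1 : QuotientGroup.mk' Z z = 1 := (QuotientGroup.eq_one_iff z).2 hz
    rw [h1, map_one]
  have hinfl_surj : ∀ ψ : IrrCharacter (SL₂ F), (∀ z ∈ Z, ψ.1 z = ψ.1 1) → ∃ χ, infl χ = ψ := by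
    intro ψ hψ
    obtain ⟨χ', hχ', e⟩ := exists_descend Z ψ.2 hψ
    exact ⟨⟨χ', hχ'⟩, Subtype.ext e⟩
  have hdeg : ∀ χ : IrrCharacter Q, ((χ.1 1 : ℂ)) = (charDegree (infl χ).1 : ℂ) := by
    intro χ
    rw [← one_eq_charDegree (isCharacter_of_irr (infl χ).2)]
    show χ.1 1 = χ.1 (QuotientGroup.mk' Z 1)
    rw [map_one]
  let u : SL₂ F := ((b1Mk 1 1 : B1 F) : SL₂ F)
  let u' : SL₂ F := ((b1Mk 1 (ν : F) : B1 F) : SL₂ F)
  have hne : ∀ x : F, x ≠ 0 → ((b1Mk 1 x : B1 F) : SL₂ F) ∉ Z := by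
    intro x hx hz
    obtain ⟨r, -, e⟩ := mem_center_scalar hz
    have := congrFun (congrFun e 0) 1
    simp [b1Mk_coe] at this
    exact hx this
  have horth : ∀ x : F, x ≠ 0 → ∑ χ : IrrCharacter Q, (infl χ).1 ((b1Mk 1 x : B1 F) : SL₂ F) *
      (charDegree (infl χ).1 : ℂ) = 0 := by
    intro x hx
    have h1 : ¬ IsConj (QuotientGroup.mk' Z ((b1Mk 1 x : B1 F) : SL₂ F)) (1 : Q) := by
      intro h
      have h' := isConj_one_right.1 h.symm
      exact hne x hx ((QuotientGroup.eq_one_iff _).1 h')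
    have h2 := column_orthogonality_of_not_isConj h1
    rw [← h2]
    refine Finset.sum_congr rfl fun χ _ => ?_
    rw [hdeg χ, Complex.conj_natCast]
    rfl
  -- the sum of real parts
  let t : IrrCharacter Q → ℝ := fun χ => (charDegree (infl χ).1 : ℝ) * ((infl χ).1 u + (infl χ).1 u').re
  have hsum : ∑ χ : IrrCharacter Q, t χ = 0 := by
    have h1 : ∑ χ : IrrCharacter Q, ((infl χ).1 u + (infl χ).1 u') * (charDegree (infl χ).1 : ℂ) = 0 := by
      simp only [add_mul, Finset.sum_add_distrib]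
      rw [horth 1 one_ne_zero, horth ν ν.ne_zero, add_zero]
    have h2 := congrArg Complex.re h1
    rw [Complex.re_sum] at h2
    simp only [Complex.zero_re] at h2
    rw [← h2]
    refine Finset.sum_congr rfl fun χ _ => ?_
    simp only [t, Complex.mul_re, Complex.natCast_re, Complex.natCast_im, mul_zero, sub_zero]
    ring
  -- the exceptional characters
  let N : Finset (IrrCharacter Q) := Finset.univ.filter
    (fun χ => IsCusp1 (infl χ) ∧ charDegree (infl χ).1 = m)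
  obtain ⟨χ₁, χ₂, hp⟩ := exists_halfPair (F := F)
  have hNcard : N.card ≤ 2 := by
    refine le_trans ?_ (card_cusp_half_full hodd m hm hp).1.le
    refine Finset.card_le_card_of_injOn infl ?_ (fun a _ b _ h => hinfl_inj h)
    intro χ hχ
    have hχ' := (Finset.mem_filter.1 hχ).2
    exact Finset.mem_filter.2 ⟨mem_CuspS.2 hχ'.1, hχ'.2⟩
  have hNval : ∀ χ ∈ N, t χ = - m := by
    intro χ hχ
    have hχ' := (Finset.mem_filter.1 hχ).2
    have h1 := halfcusp_unip_add hodd m hm (infl χ) hχ'.1 hχ'.2 ν hν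
    simp only [t]
    rw [show (infl χ).1 u + (infl χ).1 u' = -1 from h1, hχ'.2]
    simp
  have hNsum : ∑ χ ∈ N, t χ ≥ - (2 * m) := by
    rw [Finset.sum_congr rfl hNval, Finset.sum_const, nsmul_eq_mul]
    have : (N.card : ℝ) ≤ 2 := by exact_mod_cast hNcard
    have hmr : (0 : ℝ) ≤ m := Nat.cast_nonneg m
    nlinarith
  have hcompl : ∀ χ, χ ∉ N → 0 ≤ t χ := by
    intro χ hχ
    have h0 : (0 : ℝ) ≤ charDegree (infl χ).1 := Nat.cast_nonneg _
    rcases val_cases hodd m hm ν hν (infl χ) with h | h | h | h | h | h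
    · have := h.2
      simp only [t]
      rw [show (infl χ).1 u + (infl χ).1 u' = 2 from this]
      simp
    · have := h.2
      simp only [t]
      rw [show (infl χ).1 u + (infl χ).1 u' = 0 from this]
      simp
    · have := h.2
      simp only [t]
      rw [show (infl χ).1 u + (infl χ).1 u' = 2 from this]
      simp
    · have := h.2
      simp only [t]
      rw [show (infl χ).1 u + (infl χ).1 u' = 1 from this]
      simp
    · exfalso
      apply hχ
      exact Finset.mem_filter.2 ⟨Finset.mem_univ _, h⟩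
    · exfalso
      obtain ⟨z, hz, hz2⟩ := hcon (infl χ) h.2
      exact hz2 (hinfl_triv χ z hz)
  -- two good characters
  obtain ⟨τ, hτT, hτZ⟩ := exists_even_T (F := F) h5
  obtain ⟨τ', hτ'⟩ := hinfl_surj τ hτZ
  obtain ⟨one', hone'⟩ := hinfl_surj H10.oneIrr (fun z _ => rfl)
  have hdτ : charDegree (infl τ').1 = 2 * m + 2 := by
    rw [hτ', Tset_degree hτT, hm]
  have hd1 : charDegree (infl one').1 = 1 := by
    rw [hone', H10.oneIrr_degree]
  have hne1 : one' ≠ τ' := by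
    intro h
    rw [h, hdτ] at hd1
    omega
  have ht1 : t one' = 2 := by
    simp only [t]
    rw [hd1, hone']
    have : (H10.oneIrr (F := F)).1 u + (H10.oneIrr (F := F)).1 u' = 2 := by
      show (1 : ℂ) + 1 = 2
      norm_num
    rw [this]
    simp
  have htτ : t τ' = (2 * m + 2) * 2 := by
    simp only [t]
    rw [hdτ, hτ']
    obtain ⟨α, -, e⟩ := mem_Tset.mp hτT
    have : τ.1 u + τ.1 u' = 2 := by
      rw [e, pi1_unip α 1 one_ne_zero, pi1_unip α ν ν.ne_zero]
      norm_num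
    rw [this]
    simp
  have hnot : ∀ χ, charDegree (infl χ).1 ≠ m → χ ∉ N := by
    intro χ h hχ
    exact h (Finset.mem_filter.1 hχ).2.2
  have hsub : ({one', τ'} : Finset (IrrCharacter Q)) ⊆ Nᶜ := by
    intro χ hχ
    simp only [Finset.mem_insert, Finset.mem_singleton] at hχ
    rw [Finset.mem_compl]
    rcases hχ with rfl | rfl
    · apply hnot
      rw [hd1]
      omega
    · apply hnot
      rw [hdτ]
      omega
  have h6 : ∑ χ ∈ ({one', τ'} : Finset (IrrCharacter Q)), t χ ≤ ∑ χ ∈ Nᶜ, t χ :=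
    Finset.sum_le_sum_of_subset_of_nonneg hsub (fun χ hχ _ => hcompl χ (Finset.mem_compl.1 hχ))
  rw [Finset.sum_pair hne1, ht1, htτ] at h6
  have h7 := Finset.sum_add_sum_compl N t
  rw [hsum] at h7
  have hmr : (0 : ℝ) ≤ m := Nat.cast_nonneg m
  linarith

end Odd

section Graph

variable {S : Type*} [Group S]

theorem adj_iff_of_mem_primes {r s d : ℕ} (hrs : r ≠ s) (hr : r.Prime) (hs : s.Prime) :
    r * s ∣ d ↔ r ∣ d ∧ s ∣ d := by
  constructor
  · intro h
    exact ⟨(Dvd.intro _ rfl).trans h, (Dvd.intro_left _ rfl).trans h⟩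
  · rintro ⟨h1, h2⟩
    exact Nat.Coprime.mul_dvd_of_dvd_of_dvd ((Nat.coprime_primes hr hs).2 hrs) h1 h2

theorem prime_dvd_sq_sub_one {r q : ℕ} (hr : r.Prime) (h1 : 1 ≤ q) :
    r ∣ q ^ 2 - 1 ↔ r ∣ q + 1 ∨ r ∣ q - 1 := by
  have h2 : q ^ 2 - 1 = (q + 1) * (q - 1) := by
    obtain ⟨k, rfl⟩ : ∃ k, q = k + 1 := ⟨q - 1, by omega⟩
    simp only [Nat.add_sub_cancel]
    have : (k + 1) ^ 2 = (k + 1 + 1) * k + 1 := by ring
    rw [this, Nat.add_sub_cancel]
  rw [h2, hr.dvd_mul]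

theorem graph_even {q : ℕ} (h4 : 4 ≤ q) {n : ℕ} (hq2 : q = 2 ^ n)
    (hdeg : charDegrees S = {1, q, q + 1, q - 1}) :
    degreePrimes S = {r : ℕ | r.Prime ∧ r ∣ q * (q ^ 2 - 1)} ∧
      ∀ r s : ℕ, (degreeGraph S).Adj r s ↔ (r ≠ s ∧ r.Prime ∧ s.Prime ∧
        ((r ∣ q + 1 ∧ s ∣ q + 1) ∨ (r ∣ q - 1 ∧ s ∣ q - 1))) := by
  constructor
  · ext r
    simp only [degreePrimes, Set.mem_ofPred_eq, hdeg, Set.mem_insert_iff, Set.mem_singleton_iff]
    constructor
    · rintro ⟨hr, d, hd, hrd⟩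
      refine ⟨hr, ?_⟩
      rw [hr.dvd_mul, prime_dvd_sq_sub_one hr (by omega)]
      rcases hd with rfl | rfl | rfl | rfl
      · exact absurd (Nat.dvd_one.1 hrd) hr.one_lt.ne'
      · exact Or.inl hrd
      · exact Or.inr (Or.inl hrd)
      · exact Or.inr (Or.inr hrd)
    · rintro ⟨hr, h⟩
      refine ⟨hr, ?_⟩
      rw [hr.dvd_mul, prime_dvd_sq_sub_one hr (by omega)] at h
      rcases h with h | h | h
      · exact ⟨q, by simp, h⟩
      · exact ⟨q + 1, by simp, h⟩
      · exact ⟨q - 1, by simp, h⟩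
  · intro r s
    show (r ≠ s ∧ r.Prime ∧ s.Prime ∧ ∃ d ∈ charDegrees S, r * s ∣ d) ↔ _
    rw [hdeg]
    constructor
    · rintro ⟨hrs, hr, hs, d, hd, hrd⟩
      refine ⟨hrs, hr, hs, ?_⟩
      rw [adj_iff_of_mem_primes hrs hr hs] at hrd
      simp only [Set.mem_insert_iff, Set.mem_singleton_iff] at hd
      rcases hd with rfl | rfl | rfl | rfl
      · exact absurd (Nat.dvd_one.1 hrd.1) hr.one_lt.ne'
      · exfalso
        have h1 : r = 2 := (Nat.prime_dvd_prime_iff_eq hr Nat.prime_two).1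
          (hr.dvd_of_dvd_pow (hq2 ▸ hrd.1))
        have h2 : s = 2 := (Nat.prime_dvd_prime_iff_eq hs Nat.prime_two).1
          (hs.dvd_of_dvd_pow (hq2 ▸ hrd.2))
        exact hrs (h1.trans h2.symm)
      · exact Or.inl hrd
      · exact Or.inr hrd
    · rintro ⟨hrs, hr, hs, h | h⟩
      · exact ⟨hrs, hr, hs, q + 1, by simp, (adj_iff_of_mem_primes hrs hr hs).2 h⟩
      · exact ⟨hrs, hr, hs, q - 1, by simp, (adj_iff_of_mem_primes hrs hr hs).2 h⟩

theorem graph_odd {q m t n : ℕ} (hm : q = 2 * m + 1) (ht : t.Prime) (hq : q = t ^ n) (hq1 : 1 ≤ q)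
    (hsub : charDegrees S ⊆ {1, q, q + 1, q - 1, m + 1, m})
    (h1 : q ∈ charDegrees S) (h2 : q + 1 ∈ charDegrees S) (h3 : q - 1 ∈ charDegrees S) :
    degreePrimes S = {r : ℕ | r.Prime ∧ r ∣ q * (q ^ 2 - 1)} ∧
      ∀ r s : ℕ, (degreeGraph S).Adj r s ↔ (r ≠ s ∧ r.Prime ∧ s.Prime ∧ r ∣ q ^ 2 - 1 ∧ s ∣ q ^ 2 - 1 ∧
        (r = 2 ∨ s = 2 ∨ (r ∣ q + 1 ∧ s ∣ q + 1) ∨ (r ∣ q - 1 ∧ s ∣ q - 1))) := by
  have hd1 : m + 1 ∣ q + 1 := ⟨2, by omega⟩
  have hd2 : m ∣ q - 1 := ⟨2, by omega⟩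
  have h21 : 2 ∣ q + 1 := ⟨m + 1, by omega⟩
  have h22 : 2 ∣ q - 1 := ⟨m, by omega⟩
  constructor
  · ext r
    simp only [degreePrimes, Set.mem_ofPred_eq]
    constructor
    · rintro ⟨hr, d, hd, hrd⟩
      refine ⟨hr, ?_⟩
      rw [hr.dvd_mul, prime_dvd_sq_sub_one hr hq1]
      rcases hsub hd with rfl | rfl | rfl | rfl | rfl | rfl
      · exact absurd (Nat.dvd_one.1 hrd) hr.one_lt.ne'
      · exact Or.inl hrd
      · exact Or.inr (Or.inl hrd)
      · exact Or.inr (Or.inr hrd)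
      · exact Or.inr (Or.inl (hrd.trans hd1))
      · exact Or.inr (Or.inr (hrd.trans hd2))
    · rintro ⟨hr, h⟩
      refine ⟨hr, ?_⟩
      rw [hr.dvd_mul, prime_dvd_sq_sub_one hr hq1] at h
      rcases h with h | h | h
      · exact ⟨q, h1, h⟩
      · exact ⟨q + 1, h2, h⟩
      · exact ⟨q - 1, h3, h⟩
  · intro r s
    show (r ≠ s ∧ r.Prime ∧ s.Prime ∧ ∃ d ∈ charDegrees S, r * s ∣ d) ↔ _
    constructor
    · rintro ⟨hrs, hr, hs, d, hd, hrd⟩
      rw [adj_iff_of_mem_primes hrs hr hs] at hrd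
      have hplus : r ∣ q + 1 ∧ s ∣ q + 1 → _ := fun h : r ∣ q + 1 ∧ s ∣ q + 1 =>
        (⟨hrs, hr, hs, (prime_dvd_sq_sub_one hr hq1).2 (Or.inl h.1),
          (prime_dvd_sq_sub_one hs hq1).2 (Or.inl h.2), Or.inr (Or.inr (Or.inl h))⟩ :
          r ≠ s ∧ r.Prime ∧ s.Prime ∧ r ∣ q ^ 2 - 1 ∧ s ∣ q ^ 2 - 1 ∧
        (r = 2 ∨ s = 2 ∨ (r ∣ q + 1 ∧ s ∣ q + 1) ∨ (r ∣ q - 1 ∧ s ∣ q - 1)))
      have hminus : r ∣ q - 1 ∧ s ∣ q - 1 → _ := fun h : r ∣ q - 1 ∧ s ∣ q - 1 =>
        (⟨hrs, hr, hs, (prime_dvd_sq_sub_one hr hq1).2 (Or.inr h.1),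
          (prime_dvd_sq_sub_one hs hq1).2 (Or.inr h.2), Or.inr (Or.inr (Or.inr h))⟩ :
          r ≠ s ∧ r.Prime ∧ s.Prime ∧ r ∣ q ^ 2 - 1 ∧ s ∣ q ^ 2 - 1 ∧
        (r = 2 ∨ s = 2 ∨ (r ∣ q + 1 ∧ s ∣ q + 1) ∨ (r ∣ q - 1 ∧ s ∣ q - 1)))
      rcases hsub hd with rfl | rfl | rfl | rfl | rfl | rfl
      · exact absurd (Nat.dvd_one.1 hrd.1) hr.one_lt.ne'
      · exfalso
        have h1 : r = t := (Nat.prime_dvd_prime_iff_eq hr ht).1 (hr.dvd_of_dvd_pow (hq ▸ hrd.1))
        have h2 : s = t := (Nat.prime_dvd_prime_iff_eq hs ht).1 (hs.dvd_of_dvd_pow (hq ▸ hrd.2))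
        exact hrs (h1.trans h2.symm)
      · exact hplus hrd
      · exact hminus hrd
      · exact hplus ⟨hrd.1.trans hd1, hrd.2.trans hd1⟩
      · exact hminus ⟨hrd.1.trans hd2, hrd.2.trans hd2⟩
    · rintro ⟨hrs, hr, hs, hr2, hs2, h⟩
      have hp : r ∣ q + 1 ∧ s ∣ q + 1 → r ≠ s ∧ r.Prime ∧ s.Prime ∧ ∃ d ∈ charDegrees S, r * s ∣ d :=
        fun h => ⟨hrs, hr, hs, q + 1, h2, (adj_iff_of_mem_primes hrs hr hs).2 h⟩
      have hm' : r ∣ q - 1 ∧ s ∣ q - 1 → r ≠ s ∧ r.Prime ∧ s.Prime ∧ ∃ d ∈ charDegrees S, r * s ∣ d :=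
        fun h => ⟨hrs, hr, hs, q - 1, h3, (adj_iff_of_mem_primes hrs hr hs).2 h⟩
      rcases h with rfl | rfl | h | h
      · rcases (prime_dvd_sq_sub_one hs hq1).1 hs2 with h | h
        · exact hp ⟨h21, h⟩
        · exact hm' ⟨h22, h⟩
      · rcases (prime_dvd_sq_sub_one hr hq1).1 hr2 with h | h
        · exact hp ⟨h, h21⟩
        · exact hm' ⟨h, h22⟩
      · exact hp h
      · exact hm' h

end Graph

section OddDeg

variable {F : Type u} [Field F] [Fintype F]

open Cfsg.Agent.H10 in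
theorem charDegrees_SL_sub (hodd : Odd (Fintype.card F)) (m : ℕ) (hm : Fintype.card F = 2 * m + 1) :
    charDegrees (SL₂ F) ⊆ {1, Fintype.card F, Fintype.card F + 1, Fintype.card F - 1, m + 1, m} := by
  classical
  haveI : Fintype (SL₂ F) := Fintype.ofFinite _
  rintro _ ⟨χ, rfl⟩
  obtain ⟨χ₁, χ₂, hp⟩ := exists_halfPair (F := F)
  simp only [Set.mem_insert_iff, Set.mem_singleton_iff]
  rcases irr_cases_odd hodd m hm hp χ with h | h | h | h | h | h | h
  · left; exact h.2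
  · right; left; rw [h.2, hm]
  · right; right; left; rw [h.2, hm]
  · right; right; right; right; left; exact h.2
  · right; right; right; right; left; exact h.2
  · right; right; right; right; right; exact h.2
  · right; right; right; left; rw [h.2, hm]; omega

theorem charDegrees_PSL_sub (hodd : Odd (Fintype.card F)) (m : ℕ) (hm : Fintype.card F = 2 * m + 1) :
    charDegrees (Matrix.ProjectiveSpecialLinearGroup (Fin 2) F) ⊆
      {1, Fintype.card F, Fintype.card F + 1, Fintype.card F - 1, m + 1, m} := by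
  classical
  rintro _ ⟨χ, rfl⟩
  apply charDegrees_SL_sub hodd m hm
  refine ⟨⟨χ.1 ∘ (QuotientGroup.mk' (Subgroup.center (SL₂ F))), isIrr_inflate _ χ.2⟩, ?_⟩
  unfold charDegree
  simp

theorem mem_charDegrees_PSL {d : ℕ} {χ : IrrCharacter (SL₂ F)} (hd : charDegree χ.1 = d)
    (hχ : ∀ z ∈ Subgroup.center (SL₂ F), χ.1 z = χ.1 1) :
    d ∈ charDegrees (Matrix.ProjectiveSpecialLinearGroup (Fin 2) F) := by
  classical
  obtain ⟨χ', hχ', e⟩ := exists_descend (Subgroup.center (SL₂ F)) χ.2 hχ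
  refine ⟨⟨χ', hχ'⟩, ?_⟩
  rw [← hd, ← e]
  unfold charDegree
  simp

open Cfsg.Agent.H10 in
theorem charDegrees_SL_sup (hodd : Odd (Fintype.card F)) (m : ℕ) (hm : Fintype.card F = 2 * m + 1)
    (h5 : 5 < Fintype.card F) :
    Fintype.card F ∈ charDegrees (SL₂ F) ∧ Fintype.card F + 1 ∈ charDegrees (SL₂ F) ∧
      Fintype.card F - 1 ∈ charDegrees (SL₂ F) := by
  classical
  haveI : Fintype (SL₂ F) := Fintype.ofFinite _
  refine ⟨⟨stIrr, stIrr_degree⟩, ?_, ?_⟩
  · obtain ⟨χ, hχ, -⟩ := exists_even_T (F := F) h5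
    exact ⟨χ, Tset_degree hχ⟩
  · obtain ⟨χ, hχ, -⟩ := exists_even_cusp hodd m hm h5
    exact ⟨χ, by rw [hχ, hm]; omega⟩

open Cfsg.Agent.H10 in
theorem charDegrees_PSL_sup (hodd : Odd (Fintype.card F)) (m : ℕ) (hm : Fintype.card F = 2 * m + 1)
    (h5 : 5 < Fintype.card F) :
    Fintype.card F ∈ charDegrees (Matrix.ProjectiveSpecialLinearGroup (Fin 2) F) ∧
    Fintype.card F + 1 ∈ charDegrees (Matrix.ProjectiveSpecialLinearGroup (Fin 2) F) ∧
      Fintype.card F - 1 ∈ charDegrees (Matrix.ProjectiveSpecialLinearGroup (Fin 2) F) := by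
  classical
  haveI : Fintype (SL₂ F) := Fintype.ofFinite _
  refine ⟨mem_charDegrees_PSL stIrr_degree (fun z hz => st_trivial_center hz), ?_, ?_⟩
  · obtain ⟨χ, hχ, hZ⟩ := exists_even_T (F := F) h5
    exact mem_charDegrees_PSL (Tset_degree hχ) hZ
  · obtain ⟨χ, hχ, hZ⟩ := exists_even_cusp hodd m hm h5
    exact mem_charDegrees_PSL (by rw [hχ, hm]; omega) hZ

end OddDeg

end Cfsg.Agent.H22
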